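import Cfsg.Agent.Lib.Lie.Chev.TwistE6
import Cfsg.Agent.Lib.Lie.Chev.FieldAut
import Cfsg.Agent.Lib.Lie.Chev.D4Torus
import Cfsg.Agent.Lib.Lie.Chev.StTorus
import Cfsg.Agent.Lib.Lie.Chev.SylowTorus

/-! The graph twist of E₆ in characteristic two over an arbitrary field: its action on roots, and
descent of its fixed elements of order prime to three to ²E₆(2). -/

set_option autoImplicit false

namespace Cfsg.Agent.Fus.TwE6Two

open Cfsg.Lie Cfsg.Agent.Lie.Chev Matrix

variable (Ω : Type*) [Field Ω] [CharP Ω 2]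

/-- The twist over `Ω`. -/
noncomputable def sig : Twist certFullE6 Ω := graphE6.twist (frobenius Ω 2)

variable {Ω}

theorem eq_one_of_sq {a : Ω} (h : a * a = 1) : a = 1 := by
  rcases mul_self_eq_one_iff.1 h with h | h
  · exact h
  · rw [h, CharTwo.neg_eq]

theorem eps_cast {r : ℕ} (hr : r < 72) : ((graphE6.ε r : ℤ) : Ω) = 1 :=
  eq_one_of_sq ((sig Ω).ε_cast_sq (show r < chevE6.nroots from hr))

theorem act_xg {r : ℕ} (hr : r < 72) (t : Ω) :
    (sig Ω).act (certFullE6.xg r t) = certFullE6.xg (graphE6.ρ r) (t ^ 2) := by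
  rw [(sig Ω).act_xg (show r < chevE6.nroots from hr)]
  show certFullE6.xg (graphE6.ρ r) (((graphE6.ε r : ℤ) : Ω) * frobenius Ω 2 t) = _
  rw [eps_cast hr, one_mul, frobenius_def]

theorem nw_conj_xg {L : List ℕ} (hL : ∀ p ∈ L, p < 6) {s : ℕ} (hs : s < 72) (t : Ω) :
    certFullE6.nw Ω L * certFullE6.xg s t * (certFullE6.nw Ω L)⁻¹ =
      certFullE6.xg (certFullE6.wl L s) t := by
  rw [certFullE6.nw_mul_xg hL hs, eq_one_of_sq (certFullE6.wsign_sq (F := Ω) L s), one_mul,
    mul_inv_cancel_right]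

theorem tchar_zAct (z : ℕ → Ωˣ) {s : ℕ} (hs : s < 72) :
    certFullE6.tchar ((sig Ω).zAct z) (graphE6.ρ s) = certFullE6.tchar z s ^ 2 := by
  have hs' : s < chevE6.nroots := hs
  have hρ : graphE6.ρ s < chevE6.nroots := (sig Ω).ρ_lt s hs'
  have hmem : certFullE6.torus z ∈ chevE6.group Ω :=
    certFullE6.B_le_group (certFullE6.H_le_B (certFullE6.torus_mem z))
  have hx := certFullE6.xg_mem_group (F := Ω) hs' 1
  have h := congrArg (sig Ω).act (certFullE6.torus_conj_xg z hs' (1 : Ω))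
  rw [(sig Ω).act_mul (mul_mem hmem hx) (inv_mem hmem), (sig Ω).act_mul hmem hx,
    (sig Ω).act_inv hmem, (sig Ω).act_torus, act_xg hs, act_xg hs, one_pow, mul_one,
    certFullE6.torus_conj_xg _ hρ, mul_one] at h
  refine Units.ext ?_
  rw [Units.val_pow_eq_pow_val]
  exact certFullE6.xg_inj hρ h

theorem act_mem {g : GL chevE6.Idx Ω} (hg : g ∈ chevE6.group Ω) :
    (sig Ω).act g ∈ chevE6.group Ω := by
  rw [certFullE6.group_eq] at hg
  induction hg using Subgroup.closure_induction with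
  | mem g hg =>
    obtain ⟨r, hr, t, rfl⟩ := hg
    rw [act_xg hr]
    exact certFullE6.xg_mem_group ((sig Ω).ρ_lt r hr) _
  | one => rw [(sig Ω).act_one]; exact one_mem _
  | mul a b ha hb iha ihb =>
    rw [← certFullE6.group_eq] at ha hb
    rw [(sig Ω).act_mul ha hb]; exact mul_mem iha ihb
  | inv a ha iha =>
    rw [← certFullE6.group_eq] at ha
    rw [(sig Ω).act_inv ha]; exact inv_mem iha

theorem rho_rho : (List.range 72).all (fun r => graphE6.ρ (graphE6.ρ r) == r) = true := by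
  decide +kernel

/-- The square of the twist is the Frobenius map of order four. -/
theorem act_act {g : GL chevE6.Idx Ω} (hg : g ∈ chevE6.group Ω) :
    (sig Ω).act ((sig Ω).act g) =
      Matrix.GeneralLinearGroup.map (iterateFrobenius Ω 2 2) g := by
  rw [certFullE6.group_eq] at hg
  induction hg using Subgroup.closure_induction with
  | mem g hg =>
    obtain ⟨r, hr, t, rfl⟩ := hg
    have h := List.all_eq_true.1 rho_rho r (List.mem_range.2 hr)
    rw [beq_iff_eq] at h
    have hρ : graphE6.ρ r < 72 := (sig Ω).ρ_lt r hr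
    rw [act_xg hr, act_xg hρ, h, certFullE6.xg_map, iterateFrobenius_def,
      ← pow_mul]
    norm_num
  | one => rw [(sig Ω).act_one, (sig Ω).act_one, map_one]
  | mul a b ha hb iha ihb =>
    rw [← certFullE6.group_eq] at ha hb
    rw [(sig Ω).act_mul ha hb, (sig Ω).act_mul (act_mem ha) (act_mem hb), iha, ihb, map_mul]
  | inv a ha iha =>
    rw [← certFullE6.group_eq] at ha
    rw [(sig Ω).act_inv ha, (sig Ω).act_inv (act_mem ha), iha, map_inv]

section Field

variable {K : Type*} [Field K] [Fintype K] (hK : Fintype.card K = 4) (ι : K →+* Ω)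

/-- The map of groups of matrices. -/
noncomputable def emb : GL chevE6.Idx K →* GL chevE6.Idx Ω :=
  Matrix.GeneralLinearGroup.map (n := chevE6.Idx) ι

omit [CharP Ω 2] [Fintype K] in
theorem emb_injective : Function.Injective (emb (Ω := Ω) ι) := fun x y h =>
  Units.ext (Matrix.ext fun i j =>
    ι.injective (congrArg (fun v : GL chevE6.Idx Ω => (v : Matrix chevE6.Idx chevE6.Idx Ω) i j) h))

include hK

theorem range_iota : Set.range ι = {t | iterateFrobenius Ω 2 2 t = t} :=
  CertFull.range_eq_fixed ι hK fun t => by rw [iterateFrobenius_def]; norm_num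

theorem charP_K : CharP K 2 := by
  have := Fact.mk Nat.prime_two
  exact charP_of_card_eq_prime_pow (f := 2) (by rw [hK]; norm_num)

theorem twisted_eq [CharP K 2] : twistedE6 K 2 = (E6.tw (frobenius K 2)).fix :=
  (E6.datum (frobenius K 2) (fun t => frobenius_def 2 t) (by rw [hK]; norm_num)).eq_fix

omit hK [Fintype K] in
theorem emb_act [CharP K 2] {g : GL chevE6.Idx K} (hg : g ∈ chevE6.group K) :
    emb ι ((E6.tw (frobenius K 2)).act g) = (sig Ω).act (emb ι g) := by
  have hmem : ∀ {a : GL chevE6.Idx K}, a ∈ chevE6.group K → emb ι a ∈ chevE6.group Ω :=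
    fun ha => certFullE6.mapHom_mem_group ι ha
  have hT : ∀ {a : GL chevE6.Idx K}, a ∈ chevE6.group K →
      (E6.tw (frobenius K 2)).act a ∈ chevE6.group K := fun ha => act_mem (Ω := K) ha
  rw [certFullE6.group_eq] at hg
  induction hg using Subgroup.closure_induction with
  | mem g hg =>
    obtain ⟨r, hr, t, rfl⟩ := hg
    show emb ι ((sig K).act (certFullE6.xg r t)) = _
    rw [act_xg hr, emb, certFullE6.xg_mapHom, certFullE6.xg_mapHom, act_xg hr, map_pow]
  | one => rw [(E6.tw (frobenius K 2)).act_one, map_one, (sig Ω).act_one]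
  | mul a b ha hb iha ihb =>
    rw [← certFullE6.group_eq] at ha hb
    rw [(E6.tw (frobenius K 2)).act_mul ha hb, map_mul, map_mul,
      (sig Ω).act_mul (hmem ha) (hmem hb), iha, ihb]
  | inv a ha iha =>
    rw [← certFullE6.group_eq] at ha
    rw [(E6.tw (frobenius K 2)).act_inv ha, map_inv, map_inv, (sig Ω).act_inv (hmem ha), iha]

theorem emb_fixed {g : GL chevE6.Idx K} (hg : g ∈ twistedE6 K 2) :
    emb ι g ∈ chevE6.group Ω ∧ (sig Ω).act (emb ι g) = emb ι g := by
  have := charP_K hK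
  rw [twisted_eq hK] at hg
  obtain ⟨h1, h2⟩ := (E6.tw (frobenius K 2)).mem_fix.1 hg
  exact ⟨certFullE6.mapHom_mem_group ι h1, by rw [← emb_act ι h1, h2]⟩

/-- Fixed elements of order prime to three lie in ²E₆(2). -/
theorem descend {g : GL chevE6.Idx Ω} (hg : g ∈ chevE6.group Ω) (hfix : (sig Ω).act g = g)
    {m : ℕ} (hm : g ^ m = 1) (h3 : ¬ 3 ∣ m) : ∃ x ∈ twistedE6 K 2, emb ι x = g := by
  have := charP_K hK
  have hrange := range_iota hK ι
  have hσ : Matrix.GeneralLinearGroup.map (iterateFrobenius Ω 2 2) g = g := by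
    rw [← act_act hg, hfix, hfix]
  obtain ⟨l, hl, a, ha, hfa, rfl⟩ := certFullE6.exists_fixed_mul hg hσ
  set G0 := fixedRootGroup chevE6 (iterateFrobenius Ω 2 2) with hG0
  have ha3 : a ^ 3 = 1 := by
    rw [certFullE6.diagonalSubgroup_eq] at ha
    obtain ⟨w, rfl⟩ := ha
    rw [certFullE6.torus_map] at hfa
    rw [← map_pow, Cert.torus_apply, ← map_one (dg chevE6 Ω), dg_eq_iff]
    intro s hs
    have h := congrArg Units.val ((dg_eq_iff chevE6 Ω).1 hfa s hs)
    have h2 : ((certFullE6.tchar (fun i => Units.map (iterateFrobenius Ω 2 2 : Ω →* Ω) (w i)) s :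
        Ωˣ) : Ω) = iterateFrobenius Ω 2 2 (certFullE6.tchar w s : Ω) := by
      simp only [Cert.tchar, Units.coe_prod, Units.val_zpow_eq_zpow_val, Units.coe_map,
        MonoidHom.coe_coe, map_prod, map_zpow₀]
    change ((certFullE6.tchar (fun i => Units.map (iterateFrobenius Ω 2 2 : Ω →* Ω) (w i)) s :
      Ωˣ) : Ω) = (certFullE6.tchar w s : Ω) at h
    rw [h2, iterateFrobenius_def] at h
    refine Units.ext ?_
    rw [certFullE6.tchar_pow, Units.val_pow_eq_pow_val, Pi.one_apply, Units.val_one]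
    refine mul_right_cancel₀ (certFullE6.tchar w s).ne_zero ?_
    rw [one_mul, ← pow_succ]
    exact h
  have hnorm : ∀ y ∈ G0, ∀ k : ℕ, a ^ k * y * (a ^ k)⁻¹ ∈ G0 := fun y hy k =>
    certFullE6.H_fixed_conj (pow_mem ha k) (by rw [map_pow, hfa]) hy
  have hpow : ∀ k : ℕ, (l * a) ^ k * (a ^ k)⁻¹ ∈ G0 := by
    intro k
    induction k with
    | zero => simp [one_mem]
    | succ k ih =>
      have e : (l * a) ^ (k + 1) * (a ^ (k + 1))⁻¹ =
          (l * a) ^ k * (a ^ k)⁻¹ * (a ^ k * l * (a ^ k)⁻¹) := by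
        rw [pow_succ, pow_succ]; group
      rw [e]
      exact mul_mem ih (hnorm l hl k)
  have h1 := hpow m
  rw [hm, one_mul, inv_mem_iff] at h1
  have hco : Nat.Coprime m 3 := ((Nat.prime_three.coprime_iff_not_dvd).2 h3).symm
  have ha0 : a ∈ G0 := by
    have hb := Int.gcd_eq_gcd_ab m 3
    rw [show (3 : ℤ) = ((3 : ℕ) : ℤ) by norm_num, Int.gcd_natCast_natCast, hco.gcd_eq_one,
      Nat.cast_one] at hb
    rw [← _root_.zpow_one a, hb, _root_.zpow_add, _root_.zpow_mul, _root_.zpow_mul, zpow_natCast,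
      zpow_natCast, ha3, _root_.one_zpow, mul_one]
    exact zpow_mem h1 _
  have hla : l * a ∈ G0 := mul_mem hl ha0
  rw [hG0, ← certFullE6.group_mapHom hrange] at hla
  obtain ⟨x, hx, hxe⟩ := hla
  refine ⟨x, ?_, hxe⟩
  rw [twisted_eq hK]
  refine (E6.tw (frobenius K 2)).mem_fix.2 ⟨hx, emb_injective ι ?_⟩
  rw [emb_act ι hx]
  show (sig Ω).act (Matrix.GeneralLinearGroup.map ι x) = Matrix.GeneralLinearGroup.map ι x
  rw [hxe, hfix]

end Field

end Cfsg.Agent.Fus.TwE6Two
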