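import Cfsg.Agent.Lib.Fus.TwE6Two.Regular

/-! Frames for 7², 13, 17 and 19, and the fixed tori that contain the centralisers. -/

set_option autoImplicit false
set_option maxRecDepth 20000

namespace Cfsg.Agent.Fus.TwE6Two

open Cfsg.Lie Cfsg.Agent.Lie.Chev Matrix

/-- The word for 19. -/
def R19 : List ℕ := classesE6.reps.getD 19 []
/-- The word for 17. -/
def R17 : List ℕ := classesE6.reps.getD 13 []
/-- The word for 13. -/
def R13 : List ℕ := classesE6.reps.getD 1 []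
/-- The word for 7. -/
def R7 : List ℕ := classesE6.reps.getD 20 []
/-- The exponents for 19. -/
def e19 : Fin 6 → ℤ := ![16, 8, 6, 6, 3, 1]
/-- The exponents for 17. -/
def e17 : Fin 6 → ℤ := ![8, 10, 1, 5, 7, 1]
/-- The exponents for 13. -/
def e13 : Fin 6 → ℤ := ![1, 5, 6, 5, 6, 1]
/-- The first exponents for 7². -/
def e7a : Fin 6 → ℤ := ![6, 2, 0, 0, 1, 0]
/-- The second exponents for 7². -/
def e7b : Fin 6 → ℤ := ![0, 4, 6, 3, 0, 1]

theorem words_ok : (R19.all (fun p => decide (p < 6)) && R17.all (fun p => decide (p < 6)) &&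
    R13.all (fun p => decide (p < 6)) && R7.all (fun p => decide (p < 6))) = true := by
  decide +kernel

theorem R19_lt : ∀ p ∈ R19, p < chevE6.rank := lt_six (by decide +kernel)
theorem R17_lt : ∀ p ∈ R17, p < chevE6.rank := lt_six (by decide +kernel)
theorem R13_lt : ∀ p ∈ R13, p < chevE6.rank := lt_six (by decide +kernel)
theorem R7_lt : ∀ p ∈ R7, p < chevE6.rank := lt_six (by decide +kernel)

theorem eig19 : eigCheck 19 R19 e19 = true := by decide +kernel
theorem eig17 : eigCheck 17 R17 e17 = true := by decide +kernel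
theorem eig13 : eigCheck 13 R13 e13 = true := by decide +kernel
theorem eig7 : (eigCheck 7 R7 e7a && eigCheck 7 R7 e7b) = true := by decide +kernel
theorem one19 : oneVec certs19 e19 = true := by decide +kernel
theorem one17 : oneVec certs17 e17 = true := by decide +kernel
theorem one13 : oneVec certs13 e13 = true := by decide +kernel
theorem two7 : (certs7.all fun c => decide (c.v₂ = 0) ||
    (decide (c.v₁ = e7a) && decide (c.v₂ = e7b))) = true := by decide +kernel
theorem reg19 : regCheck 19 [e19] = true := by decide +kernel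
theorem reg17 : regCheck 17 [e17] = true := by decide +kernel
theorem reg13 : regCheck 13 [e13] = true := by decide +kernel
theorem reg7 : regCheck 7 [e7a, e7b] = true := by decide +kernel
theorem inv17_ok' : (Amat R17)ᵀ * inv17 = ((51 : ℕ) : ℤ) • 1 := by decide +kernel
theorem inv13_ok' : (Amat R13)ᵀ * inv13 = ((39 : ℕ) : ℤ) • 1 := by decide +kernel

variable {Ω : Type*} [Field Ω] [CharP Ω 2] {K : Type*} [Field K] [Fintype K]
  (hK : Fintype.card K = 4) (ι : K →+* Ω)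

include hK

/-- The frame of an element of order 13, 17 or 19; its centraliser lies in the fixed torus. -/
theorem exists_frame_one [IsAlgClosed Ω] {p e : ℕ} [Fact p.Prime] (he : 0 < e) (he2 : 2 ∣ e)
    (hpe : p ∣ 2 ^ e - 1) (hpW : ¬ p ∣ 51840) {cs : List KerCert} (hcs : checkAll p cs = true)
    {R : List ℕ} (hR : ∀ q ∈ R, q < chevE6.rank) {d : ℕ} (hd : 0 < d)
    {Q : Matrix (Fin 6) (Fin 6) ℤ} (hQ : Q * (Amat R)ᵀ = ((d : ℕ) : ℤ) • 1) {v : Fin 6 → ℤ}
    (hv : oneVec cs v = true) (heig : eigCheck p R v = true) (hreg : regCheck p [v] = true)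
    {x : ↥(twistedE6 K 2)} (hx : orderOf x = p) :
    ∃ g : GL chevE6.Idx Ω, Frame R g ∧ ∃ (z : ℕ → Ωˣ) (η : Ωˣ), orderOf η = p ∧
      g * emb ι (x : GL chevE6.Idx K) * g⁻¹ = certFullE6.torus z ∧ Chi z = expv η v ∧
      ∀ c ∈ chevE6.group Ω, (sig Ω).act c = c →
        c * emb ι (x : GL chevE6.Idx K) = emb ι (x : GL chevE6.Idx K) * c →
        ∃ w, g * c * g⁻¹ = certFullE6.torus w ∧ Rel R w := by
  have hP : IsPGroup p (Subgroup.zpowers x) := IsPGroup.of_card (n := 1)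
    (by rw [Nat.card_zpowers, hx, pow_one])
  have hexp : ∀ y ∈ Subgroup.zpowers x, y ^ p = 1 := fun y hy => by
    obtain ⟨k, rfl⟩ := Subgroup.mem_zpowers_iff.1 hy
    rw [← zpow_natCast, ← _root_.zpow_mul, mul_comm, _root_.zpow_mul, zpow_natCast, ← hx,
      pow_orderOf_eq_one, _root_.one_zpow]
  have hx1 : x ≠ 1 := fun h => (Fact.out : p.Prime).ne_one (by rw [← hx, h, orderOf_one])
  obtain ⟨g, hg, z, η, hη, hz, hC⟩ := exists_one hK ι he he2 hpe hpW hcs hv hP hexp
    (Subgroup.mem_zpowers x) hx1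
  have hrel : Rel R z := rel_expv heig (hη ▸ pow_orderOf_eq_one η) hC
  have hfx := emb_fixed hK ι x.2
  have hback : g⁻¹ * certFullE6.torus z * g = emb ι (x : GL chevE6.Idx K) := by
    rw [← hz]; group
  have hZ : ∀ u ∈ [v], ∃ w ∈ ({z} : Set (ℕ → Ωˣ)), ∃ η : Ωˣ, orderOf η = p ∧
      Chi w = expv η u := fun u hu => by
    rw [List.mem_singleton] at hu
    exact ⟨z, rfl, η, hη, hu ▸ hC⟩
  obtain ⟨t, hF⟩ := exists_frame_regular hR hd hQ hreg hg hZ
    (fun w hw => by rw [Set.mem_singleton_iff] at hw; exact hw ▸ hrel)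
    (fun w hw => by rw [Set.mem_singleton_iff] at hw; subst hw; rw [hback]; exact hfx.2)
  obtain ⟨g', hg'⟩ : ∃ g', g' = certFullE6.torus t * g := ⟨_, rfl⟩
  rw [← hg'] at hF
  have hz' : g' * emb ι (x : GL chevE6.Idx K) * g'⁻¹ = certFullE6.torus z := by
    rw [hg', _root_.mul_inv_rev, show certFullE6.torus t * g * emb ι (x : GL chevE6.Idx K) *
      (g⁻¹ * (certFullE6.torus t)⁻¹) = certFullE6.torus t * (g * emb ι (x : GL chevE6.Idx K) * g⁻¹) *
        (certFullE6.torus t)⁻¹ by group, hz, ← map_mul, mul_comm, map_mul, mul_inv_cancel_right]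
  refine ⟨g', hF, z, η, hη, hz', hC, fun c hc hfix hcomm => ?_⟩
  have hgc : g' * c * g'⁻¹ ∈ chevE6.diagonalSubgroup Ω := by
    refine regular_centralizer hreg hZ (mul_mem (mul_mem hF.mem hc) (inv_mem hF.mem))
      fun w hw => ?_
    rw [Set.mem_singleton_iff] at hw
    subst hw
    rw [← hz']
    calc g' * c * g'⁻¹ * (g' * emb ι (x : GL chevE6.Idx K) * g'⁻¹)
        = g' * (c * emb ι (x : GL chevE6.Idx K)) * g'⁻¹ := by group
      _ = _ := by rw [hcomm]; group
  rw [certFullE6.diagonalSubgroup_eq] at hgc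
  obtain ⟨w, hw⟩ := hgc
  exact ⟨w, hw.symm, hF.rel_of_fixed hc hfix hw.symm⟩

/-- The centraliser of a framed element embeds into a cyclic group of exponent `d`. -/
theorem card_centralizer_dvd {R : List ℕ} {d : ℕ} [NeZero d] {Q : Matrix (Fin 6) (Fin 6) ℤ}
    (hQ : (Amat R)ᵀ * Q = ((d : ℕ) : ℤ) • 1) {cc : KerCert} (hcc : cc.check 0 R = true)
    (hv₂ : cc.v₂ = 0) {x : ↥(twistedE6 K 2)} {g : GL chevE6.Idx Ω}
    (h : ∀ c ∈ chevE6.group Ω, (sig Ω).act c = c →
        c * emb ι (x : GL chevE6.Idx K) = emb ι (x : GL chevE6.Idx K) * c →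
        ∃ w, g * c * g⁻¹ = certFullE6.torus w ∧ Rel R w) :
    Nat.card (Subgroup.centralizer ({x} : Set ↥(twistedE6 K 2))) ∣ d := by
  classical
  have h' : ∀ c : Subgroup.centralizer ({x} : Set ↥(twistedE6 K 2)), ∃ w : ℕ → Ωˣ,
      g * emb ι ((c : ↥(twistedE6 K 2)) : GL chevE6.Idx K) * g⁻¹ = certFullE6.torus w ∧
        Rel R w := fun c => h _ (emb_fixed hK ι c.1.2).1 (emb_fixed hK ι c.1.2).2 (by
      rw [← map_mul, ← map_mul, ← Subgroup.coe_mul, ← Subgroup.coe_mul,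
        Subgroup.mem_centralizer_singleton_iff.1 c.2])
  choose w hw hrel using h'
  let F : Subgroup.centralizer ({x} : Set ↥(twistedE6 K 2)) → Ωˣ :=
    fun c => ∏ j, Chi (w c) j ^ cc.r₁ j
  have hChi : ∀ c, Chi (w c) = expv (F c) cc.v₁ := fun c => by
    have := KerCert.spec hcc (hrel c) (fun i => pow_zero _)
    rwa [hv₂, expv_zero, mul_one] at this
  have hd : ∀ c, F c ^ d = 1 := fun c => by
    have e : Chi (w c) ^ d = 1 := by
      rw [← CertFull.mpow_smul_one, ← hQ, mpow_mul, hrel c, map_one]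
    rw [← Finset.prod_pow]
    refine Finset.prod_eq_one fun j _ => ?_
    rw [← zpow_natCast, ← _root_.zpow_mul, mul_comm, _root_.zpow_mul, zpow_natCast,
      show Chi (w c) j ^ d = 1 from congrFun e j, _root_.one_zpow]
  have hmul : ∀ a b, F (a * b) = F a * F b := fun a b => by
    have e : certFullE6.torus (w (a * b)) = certFullE6.torus (w a * w b) := by
      rw [map_mul, ← hw a, ← hw b, ← hw (a * b), Subgroup.coe_mul, Subgroup.coe_mul, map_mul]
      group
    have e2 : Chi (w (a * b)) = Chi (w a) * Chi (w b) := by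
      rw [← Chi_mul]
      funext i
      exact (dg_eq_iff chevE6 Ω).1 e _ (si_lt i.2)
    simp only [F, e2, Pi.mul_apply, mul_zpow, Finset.prod_mul_distrib]
  let f : Subgroup.centralizer ({x} : Set ↥(twistedE6 K 2)) →* rootsOfUnity d Ω :=
    MonoidHom.mk' (fun c => ⟨F c, (mem_rootsOfUnity _ _).2 (hd c)⟩)
      fun a b => Subtype.ext (hmul a b)
  have hinj : Function.Injective f := fun a b e => by
    have e' : F a = F b := congrArg Subtype.val e
    exact Subtype.ext (eq_of_conj ι (hw a) (hw b) (by rw [hChi, hChi, e']))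
  refine (Subgroup.card_dvd_of_injective f hinj).trans ?_
  rw [← IsCyclic.exponent_eq_card]
  exact Monoid.exponent_dvd_of_forall_pow_eq_one fun u =>
    Subtype.ext (by rw [Subgroup.coe_pow, (mem_rootsOfUnity _ _).1 u.2, Subgroup.coe_one])

/-- The frame of a subgroup of order `7²`. -/
theorem exists_frame_seven [IsAlgClosed Ω] {P : Subgroup ↥(twistedE6 K 2)} (hP : IsPGroup 7 P)
    (hexp : ∀ x ∈ P, x ^ 7 = 1) (hcard : Nat.card P = 7 ^ 2) :
    ∃ g : GL chevE6.Idx Ω, Frame R7 g ∧ ∃ ζ : Ωˣ, orderOf ζ = 7 ∧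
      (∀ x ∈ P, ∃ (z : ℕ → Ωˣ) (i j : ℕ), i < 7 ∧ j < 7 ∧
        g * emb ι (x : GL chevE6.Idx K) * g⁻¹ = certFullE6.torus z ∧
        Chi z = expv (ζ ^ i) e7a * expv (ζ ^ j) e7b) ∧
      ∀ i j : ℕ, ∃ x ∈ P, ∃ z : ℕ → Ωˣ, g * emb ι (x : GL chevE6.Idx K) * g⁻¹ =
        certFullE6.torus z ∧ Chi z = expv (ζ ^ i) e7a * expv (ζ ^ j) e7b := by
  obtain ⟨g, hg, ζ, hζ, hall, hex⟩ := exists_two hK ι certs7_ok two7 hP hexp hcard
  have h7 : ∀ i : ℕ, (ζ ^ i) ^ 7 = 1 := fun i => by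
    rw [← pow_mul, mul_comm, pow_mul, ← hζ, pow_orderOf_eq_one, one_pow]
  obtain ⟨ha, hb⟩ := Bool.and_eq_true _ _ ▸ eig7
  have hrel : ∀ {z : ℕ → Ωˣ} {i j : ℕ}, Chi z = expv (ζ ^ i) e7a * expv (ζ ^ j) e7b →
      Rel R7 z := fun {z i j} h => by
    rw [Rel, h, map_mul, mpow_expv, mpow_expv, expv_eq_one (h7 i) (fun k => ?_),
      expv_eq_one (h7 j) (fun k => ?_), one_mul]
    · exact Int.dvd_of_emod_eq_zero (by simpa using List.all_eq_true.1 hb k (List.mem_finRange k))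
    · exact Int.dvd_of_emod_eq_zero (by simpa using List.all_eq_true.1 ha k (List.mem_finRange k))
  obtain ⟨Z, hZdef⟩ : ∃ Z : Set (ℕ → Ωˣ), Z = {z | ∃ x ∈ P, ∃ i j : ℕ,
      g * emb ι (x : GL chevE6.Idx K) * g⁻¹ = certFullE6.torus z ∧
      Chi z = expv (ζ ^ i) e7a * expv (ζ ^ j) e7b} := ⟨_, rfl⟩
  obtain ⟨t, hF⟩ := exists_frame_regular (Z := Z) R7_lt (by norm_num) inv7_ok reg7 hg
    (fun v hv => by
      simp only [List.mem_cons, List.not_mem_nil, or_false] at hv
      rcases hv with rfl | rfl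
      · obtain ⟨x, hx, z, hz, hC⟩ := hex 1 0
        exact ⟨z, hZdef ▸ ⟨x, hx, 1, 0, hz, hC⟩, ζ, hζ, by
          rw [hC, pow_zero, pow_one, expv_one, mul_one]⟩
      · obtain ⟨x, hx, z, hz, hC⟩ := hex 0 1
        exact ⟨z, hZdef ▸ ⟨x, hx, 0, 1, hz, hC⟩, ζ, hζ, by
          rw [hC, pow_zero, pow_one, expv_one, one_mul]⟩)
    (fun z hz => by rw [hZdef] at hz; obtain ⟨x, -, i, j, -, hC⟩ := hz; exact hrel hC)
    (fun z hz => by
      rw [hZdef] at hz
      obtain ⟨x, -, i, j, hz', -⟩ := hz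
      rw [show g⁻¹ * certFullE6.torus z * g = emb ι (x : GL chevE6.Idx K) by rw [← hz']; group]
      exact (emb_fixed hK ι x.2).2)
  have hconj : ∀ (x : ↥(twistedE6 K 2)) (z : ℕ → Ωˣ),
      g * emb ι (x : GL chevE6.Idx K) * g⁻¹ = certFullE6.torus z →
      certFullE6.torus t * g * emb ι (x : GL chevE6.Idx K) * (certFullE6.torus t * g)⁻¹ =
        certFullE6.torus z := fun x z hz => by
    rw [_root_.mul_inv_rev, show certFullE6.torus t * g * emb ι (x : GL chevE6.Idx K) *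
      (g⁻¹ * (certFullE6.torus t)⁻¹) = certFullE6.torus t * (g * emb ι (x : GL chevE6.Idx K) * g⁻¹) *
        (certFullE6.torus t)⁻¹ by group, hz, ← map_mul, mul_comm, map_mul, mul_inv_cancel_right]
  refine ⟨_, hF, ζ, hζ, fun x hx => ?_, fun i j => ?_⟩
  · obtain ⟨z, i, j, hi, hj, hz, hC⟩ := hall x hx
    exact ⟨z, i, j, hi, hj, hconj x z hz, hC⟩
  · obtain ⟨x, hx, z, hz, hC⟩ := hex i j
    exact ⟨x, hx, z, hconj x z hz, hC⟩

end Cfsg.Agent.Fus.TwE6Two
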