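import Cfsg.Agent.Lib.Fus.TwE6Two.Basic
import Cfsg.Agent.Lib.Lie.Chev.E6SubfieldMax

/-! An element of E₆ over an extension field commuting with ²E₆(2) is trivial. -/

set_option autoImplicit false
set_option maxRecDepth 20000

namespace Cfsg.Agent.Fus.TwE6Two

open Cfsg.Lie Cfsg.Agent.Lie.Chev Matrix

theorem nil_ok : ([(56, 36), (36, 56), (42, 37), (37, 42)].all fun x =>
    E6Sub.nilAt x.1 x.2) = true := by decide +kernel

variable {Ω : Type*} [Field Ω] [CharP Ω 2] {K : Type*} [Field K] [Fintype K]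
  (hK : Fintype.card K = 4) (ι : K →+* Ω)

omit [CharP Ω 2] [Fintype K] in
theorem emb_nw (L : List ℕ) : emb ι (certFullE6.nw K L) = certFullE6.nw Ω L := by
  rw [Cert.nw, Cert.nw, map_list_prod, List.map_map]
  congr 1
  refine List.map_congr_left fun p _ => ?_
  simp only [Function.comp_apply, emb, Cert.np, Cert.ng, map_mul, certFullE6.xg_mapHom, map_neg,
    map_inv₀, map_one]

include hK

theorem eq_one_of_centralizes {y : GL chevE6.Idx Ω} (hy : y ∈ chevE6.group Ω)
    (h : ∀ x : ↥(twistedE6 K 2), Commute y (emb ι (x : GL chevE6.Idx K))) : y = 1 := by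
  haveI := charP_K hK
  obtain ⟨f, hf⟩ : ∃ f : K →+* K, f = frobenius K 2 := ⟨_, rfl⟩
  have hf' : ∀ t, f t = t ^ 2 := fun t => by rw [hf, frobenius_def]
  have hK' : Fintype.card K = 2 ^ 2 := by rw [hK]; norm_num
  obtain ⟨s0, s1, s2, s3, s4, s5, hrk, -⟩ := E6.simple_values
  have hn := nil_ok
  simp only [List.all_cons, List.all_nil, Bool.and_true, Bool.and_eq_true] at hn
  have hone : ∀ r ∈ [46, 39], ∀ y' : GL chevE6.Idx Ω,
      (∀ x : ↥(twistedE6 K 2), Commute y' (emb ι (x : GL chevE6.Idx K))) →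
      Commute y' (certFullE6.xg r 1) := by
    intro r hr y' hy'
    have := hy' ⟨_, E6.gen1 f hf' (r := r) (by simp at hr ⊢; omega) (t := 1) (map_one f)⟩
    rwa [emb, certFullE6.xg_mapHom, map_one] at this
  have htwo : ∀ r r' : ℕ, (r, r') ∈ [(56, 36), (42, 37)] → ∀ y' : GL chevE6.Idx Ω,
      (∀ x : ↥(twistedE6 K 2), Commute y' (emb ι (x : GL chevE6.Idx K))) →
      Commute y' (certFullE6.xg r 1 * certFullE6.xg r' 1) := by
    intro r r' hr y' hy'
    have := hy' ⟨_, E6.gen2 f hf' (r := r) (r' := r') (by simp at hr ⊢; omega) 1⟩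
    simp only [map_mul, emb, certFullE6.xg_mapHom, map_one] at this
    exact this
  have hwit : ∀ p < chevE6.rank, ∀ y' : GL chevE6.Idx Ω,
      (∀ x : ↥(twistedE6 K 2), Commute y' (emb ι (x : GL chevE6.Idx K))) →
      ∃ k ∈ Up chevE6 Ω p, ∃ e : Ω, e ≠ 0 ∧
        (∀ t, Commute (certFullE6.xg (chevE6.simple p) t) k) ∧
        Commute y' (k * certFullE6.xg (chevE6.simple p) e) := by
    intro p hp y' hy'
    rw [hrk] at hp
    have one : ∀ r ∈ [46, 39], chevE6.simple p = r → ∃ k ∈ Up chevE6 Ω p, ∃ e : Ω, e ≠ 0 ∧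
        (∀ t, Commute (certFullE6.xg (chevE6.simple p) t) k) ∧
        Commute y' (k * certFullE6.xg (chevE6.simple p) e) := fun r hr e =>
      ⟨1, one_mem _, 1, one_ne_zero, fun t => Commute.one_right _, by
        rw [one_mul, e]; exact hone r hr y' hy'⟩
    have two : ∀ r : ℕ, r < 72 → 36 ≤ r → r ≠ chevE6.simple p →
        E6Sub.nilAt (chevE6.simple p) r = true →
        Commute y' (certFullE6.xg r 1 * certFullE6.xg (chevE6.simple p) 1) →
        ∃ k ∈ Up chevE6 Ω p, ∃ e : Ω, e ≠ 0 ∧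
        (∀ t, Commute (certFullE6.xg (chevE6.simple p) t) k) ∧
        Commute y' (k * certFullE6.xg (chevE6.simple p) e) := fun r hr hr' hne hnil hc =>
      ⟨_, certFullE6.xg_mem_Up ⟨hr', hr⟩ hne 1, 1, one_ne_zero, fun t =>
        E6Sub.nilAt_commute (certFullE6.simple_lt (hrk ▸ hp)) hr hnil t 1, hc⟩
    rcases (show p = 0 ∨ p = 1 ∨ p = 2 ∨ p = 3 ∨ p = 4 ∨ p = 5 by omega) with
      rfl | rfl | rfl | rfl | rfl | rfl
    · refine two 36 (by omega) (by omega) (by omega) (s0 ▸ hn.1) ?_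
      rw [s0, ← (E6Sub.nilAt_commute (by omega) (by omega) hn.1 (1 : Ω) 1).eq]
      exact htwo 56 36 (by simp) y' hy'
    · exact one 46 (by simp) s1
    · refine two 37 (by omega) (by omega) (by omega) (s2 ▸ hn.2.2.1) ?_
      rw [s2, ← (E6Sub.nilAt_commute (by omega) (by omega) hn.2.2.1 (1 : Ω) 1).eq]
      exact htwo 42 37 (by simp) y' hy'
    · exact one 39 (by simp) s3
    · refine two 42 (by omega) (by omega) (by omega) (s4 ▸ hn.2.2.2) ?_
      rw [s4]
      exact htwo 42 37 (by simp) y' hy'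
    · refine two 56 (by omega) (by omega) (by omega) (s5 ▸ hn.2.1) ?_
      rw [s5]
      exact htwo 56 36 (by simp) y' hy'
  have hB : ∀ y' : GL chevE6.Idx Ω, y' ∈ chevE6.group Ω →
      (∀ x : ↥(twistedE6 K 2), Commute y' (emb ι (x : GL chevE6.Idx K))) →
      y' ∈ chevE6.borelSubgroup Ω := fun y' hy' hc =>
    certFullE6.mem_borel_of_commute' hy' fun p hp => hwit p hp y' hc
  -- the longest fixed element
  set Y := E6.datum f hf' hK'
  have hi : (1151 : ℕ) < 1152 := by decide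
  obtain ⟨hlt, -⟩ := Y.wd_spec hi
  set L := Y.W.wd 1151 with hLdef
  set n := certFullE6.nw Ω L with hn'
  have hneg : ∀ r, certFullE6.Pos r → ¬ certFullE6.Pos (certFullE6.wl L r) := by
    intro r hr hp
    have h := E6Sub.words_ok.2.2.1
    simp only [List.all_eq_true, List.mem_range'_1, Nat.blt_eq] at h
    have h1 := h r ⟨hr.1, hr.2⟩
    rw [certFullE6.wlT_eq] at h1
    have h2 : 36 ≤ certFullE6.wl L r := hp.1
    change certFullE6.wl L r < 36 at h1
    omega
  have hnK : certFullE6.nw K L ∈ twistedE6 K 2 := by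
    rw [E6Sub.twisted_eq f hf' hK']
    exact Y.le_fix (Y.nw_wd_mem hi)
  have hnG : n ∈ chevE6.group Ω := certFullE6.N_le_group (certFullE6.nw_mem_N hlt)
  have hc' : ∀ x : ↥(twistedE6 K 2), Commute (n⁻¹ * y * n) (emb ι (x : GL chevE6.Idx K)) := by
    intro x
    have h1 := h (⟨_, hnK⟩ * x * ⟨_, hnK⟩⁻¹)
    rw [Subgroup.coe_mul, Subgroup.coe_mul, Subgroup.coe_inv, map_mul, map_mul, map_inv,
      emb_nw ι L, ← hn'] at h1
    calc n⁻¹ * y * n * emb ι (x : GL chevE6.Idx K)
        = n⁻¹ * (y * (n * emb ι (x : GL chevE6.Idx K) * n⁻¹)) * n := by group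
      _ = n⁻¹ * (n * emb ι (x : GL chevE6.Idx K) * n⁻¹ * y) * n := by rw [h1.eq]
      _ = _ := by group
  obtain ⟨u, hu, t, ht, e⟩ := certFullE6.mem_borel_iff.1
    (hB _ (mul_mem (mul_mem (inv_mem hnG) hy) hnG) hc')
  have huV : n * u * n⁻¹ ∈ chevE6.negUnipotent Ω := by
    have hle : (chevE6.posUnipotent Ω).map (MulAut.conj n).toMonoidHom ≤
        chevE6.negUnipotent Ω := by
      rw [ChevalleyDatum.posUnipotent, MonoidHom.map_closure, Subgroup.closure_le]
      rintro x ⟨y', ⟨r, s, hr, hy'⟩, rfl⟩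
      obtain rfl := certFullE6.eq_xg_iff.1 hy'
      have hr' := certFullE6.posRoot_iff.1 hr
      show n * certFullE6.xg r s * n⁻¹ ∈ chevE6.negUnipotent Ω
      rw [hn', certFullE6.nw_mul_xg hlt hr'.2, mul_inv_cancel_right]
      exact certFullE6.xg_mem_V (certFullE6.wl_lt hlt hr'.2) (hneg r hr') _
    exact hle ⟨u, hu, rfl⟩
  have hyH : y ∈ chevE6.diagonalSubgroup Ω := by
    refine certFullE6.borel_inf_negUnipotent.2.le (Subgroup.mem_inf.2 ⟨hB y hy h, ?_⟩)
    rw [show y = (n * u * n⁻¹) * (n * t * n⁻¹) by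
      calc y = n * (n⁻¹ * y * n) * n⁻¹ := by group
        _ = _ := by rw [e]; group]
    exact mul_mem (Subgroup.mem_sup_left huV)
      (Subgroup.mem_sup_right (certFullE6.N_conj_H (certFullE6.nw_mem_N hlt) ht))
  obtain ⟨z, hz⟩ := certFullE6.diagonalSubgroup_eq.le hyH
  rw [← hz]
  have hchar : ∀ p < chevE6.rank, certFullE6.tchar z (chevE6.simple p) = 1 := by
    intro p hp
    obtain ⟨k, hk, e, he, -, hm⟩ := hwit p hp y h
    rw [← hz] at hm
    have h2 : certFullE6.torus z * k * (certFullE6.torus z)⁻¹ *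
        certFullE6.xg (chevE6.simple p) ((certFullE6.tchar z (chevE6.simple p) : Ω) * e) =
        k * certFullE6.xg (chevE6.simple p) e := by
      rw [← certFullE6.torus_conj_xg z (certFullE6.simple_lt hp)]
      calc _ = certFullE6.torus z * (k * certFullE6.xg (chevE6.simple p) e) *
            (certFullE6.torus z)⁻¹ := by group
        _ = _ := by rw [hm.eq, mul_inv_cancel_right]
    have h3 : certFullE6.xg (chevE6.simple p)
        (((certFullE6.tchar z (chevE6.simple p) : Ω) - 1) * e) =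
        (certFullE6.torus z * k * (certFullE6.torus z)⁻¹)⁻¹ * k := by
      rw [sub_mul, one_mul, sub_eq_add_neg, certFullE6.xg_add, ← certFullE6.xg_inv,
        eq_inv_mul_iff_mul_eq, ← mul_assoc, h2, mul_inv_cancel_right]
    have h4 := mul_mem (inv_mem (certFullE6.torus_conj_Up z hk)) hk
    rw [← h3] at h4
    exact Units.ext (sub_eq_zero.1
      ((mul_eq_zero.1 (certFullE6.xg_simple_mem_Up hp h4)).resolve_right he))
  rw [Cert.torus_apply, ← map_one (dg chevE6 Ω)]
  refine (dg_eq_iff chevE6 Ω).2 fun s hs => ?_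
  show certFullE6.tchar z s = 1
  rw [certFullE6.tchar_eq_prod z hs]
  exact Finset.prod_eq_one fun j hj => by
    rw [hchar j (Finset.mem_range.1 hj), _root_.one_zpow]

/-- The elements whose images normalise a nontrivial element form a proper subgroup. -/
theorem exists_noncommuting {y : GL chevE6.Idx Ω} (hy : y ∈ chevE6.group Ω) (hy1 : y ≠ 1) :
    ∃ x : ↥(twistedE6 K 2), ¬ Commute y (emb ι (x : GL chevE6.Idx K)) := by
  by_contra h
  push Not at h
  exact hy1 (eq_one_of_centralizes hK ι hy h)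

end Cfsg.Agent.Fus.TwE6Two
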