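import Mathlib

/-! Sylow counting for a subgroup of prime order: the order of the normaliser modulo `p`. -/

set_option autoImplicit false

namespace Cfsg.Agent.Fus.TwE6Two

open Subgroup

variable {G : Type*} [Group G] [Finite G]

/-- A generator of a subgroup of prime order. -/
theorem exists_zpowers_eq {p : ℕ} [hp : Fact p.Prime] {P : Subgroup G} (hP : Nat.card P = p) :
    ∃ x : G, orderOf x = p ∧ P = Subgroup.zpowers x := by
  obtain ⟨y, hy⟩ := exists_prime_orderOf_dvd_card' (G := P) p (by rw [hP])
  refine ⟨y, by rw [Subgroup.orderOf_coe, hy], (Subgroup.eq_of_le_of_card_ge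
    (Subgroup.zpowers_le.2 y.2) (le_of_eq ?_)).symm⟩
  rw [Nat.card_zpowers, Subgroup.orderOf_coe, hy, hP]

/-- The centraliser and the quotient of the normaliser of a subgroup of order `p` that is its own
Sylow subgroup. -/
theorem normalizer_card {p M : ℕ} [hp : Fact p.Prime] {P : Subgroup G} (hP : Nat.card P = p)
    (hG : Nat.card G = p * M) (hM : ¬ p ∣ M) {d : ℕ}
    (hC : ∀ x ∈ P, x ≠ 1 → Nat.card (centralizer ({x} : Set G)) ∣ p * d) :
    ∃ a k : ℕ, a ∣ d ∧ k ∣ p - 1 ∧ a * k ≡ M [MOD p] ∧
      Nat.card (centralizer (P : Set G)) = p * a ∧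
      Nat.card (normalizer (P : Set G)) = p * a * k := by
  classical
  obtain ⟨x, hx, hPx⟩ := exists_zpowers_eq hP
  haveI : IsCyclic P := isCyclic_of_prime_card hP
  -- the centraliser
  have hCeq : centralizer (P : Set G) = centralizer ({x} : Set G) := by
    ext c
    simp only [mem_centralizer_iff, SetLike.mem_coe, Set.mem_singleton_iff, forall_eq, hPx,
      mem_zpowers_iff]
    refine ⟨fun h => h x ⟨1, zpow_one x⟩, fun h y ⟨n, hn⟩ => ?_⟩
    rw [← hn]
    exact (Commute.zpow_left (show Commute x c from h) n).eq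
  have hx1 : x ≠ 1 := fun h => hp.out.ne_one (by rw [← hx, h, orderOf_one])
  have hle : P ≤ centralizer (P : Set G) := by
    rw [hCeq, hPx, zpowers_le]
    exact mem_centralizer_singleton_iff.2 rfl
  obtain ⟨a, ha⟩ := hP ▸ Subgroup.card_dvd_of_le hle
  have had : a ∣ d := by
    have h := hC x (by rw [hPx]; exact mem_zpowers x) hx1
    rw [← hCeq, ha] at h
    exact Nat.dvd_of_mul_dvd_mul_left hp.out.pos h
  -- the quotient
  obtain ⟨k, hk⟩ : ∃ k, k = Nat.card (normalizerMonoidHom P).range := ⟨_, rfl⟩
  have hkd : k ∣ p - 1 := by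
    rw [hk]
    refine (Subgroup.card_subgroup_dvd_card _).trans (dvd_of_eq ?_)
    rw [IsCyclic.card_mulAut, hP, Nat.totient_prime hp.out]
  have hN : Nat.card (normalizer (P : Set G)) = p * a * k := by
    rw [hk, ← ha, ← Subgroup.index_ker, normalizerMonoidHom_ker,
      ← Nat.card_congr (Subgroup.subgroupOfEquivOfLe (centralizer_le_normalizer (P : Set G))).toEquiv,
      Subgroup.card_mul_index]
  -- Sylow
  have hmult : (Nat.card G).factorization p = 1 := by
    rw [hG, Nat.factorization_mul hp.out.ne_zero fun h => hM (by rw [h]; exact dvd_zero _),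
      Finsupp.add_apply, Nat.Prime.factorization_self hp.out,
      Nat.factorization_eq_zero_of_not_dvd hM, add_zero]
  let S : Sylow p G := Sylow.ofCard P (by rw [hP, hmult, pow_one])
  have hn : Nat.card (Sylow p G) = (normalizer (P : Set G)).index :=
    Sylow.card_eq_index_normalizer S
  refine ⟨a, k, had, hkd, ?_, ha, hN⟩
  have hG' := (normalizer (P : Set G)).card_mul_index
  rw [hN, ← hn, hG, mul_assoc, mul_assoc] at hG'
  have e := Nat.eq_of_mul_eq_mul_left hp.out.pos hG'
  rw [← e, ← mul_assoc]
  calc a * k = a * k * 1 := (mul_one _).symm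
    _ ≡ a * k * Nat.card (Sylow p G) [MOD p] :=
      (Nat.ModEq.refl _).mul (card_sylow_modEq_one p G).symm

/-- A subgroup `H` carrying the whole normaliser. -/
theorem normalizer_le_of_card {H : Subgroup G} {P : Subgroup H}
    (hcard : Nat.card (normalizer ((P.map H.subtype : Subgroup G) : Set G)) ≤
      Nat.card (normalizer (P : Set H))) :
    normalizer ((P.map H.subtype : Subgroup G) : Set G) ≤ H := by
  have hle : (normalizer (P : Set H)).map H.subtype ≤
      normalizer ((P.map H.subtype : Subgroup G) : Set G) := Subgroup.le_normalizer_map H.subtype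
  rw [← Subgroup.eq_of_le_of_card_ge hle
    (by rwa [Subgroup.card_map_of_injective H.subtype_injective])]
  exact Subgroup.map_subtype_le _

end Cfsg.Agent.Fus.TwE6Two
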