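import Cfsg.Agent.Lib.Fus.TwE6Two.Frame

/- Generated certificates for the kernels of `W + 2` modulo 7, 11, 13, 17 and 19
(notes_h6/S5740.md). -/

set_option autoImplicit false
set_option maxRecDepth 20000

namespace Cfsg.Agent.Fus.TwE6Two

open Matrix Cfsg.Agent.Lie.Chev

/-- A certificate that a kernel is spanned by two vectors. -/
structure KerCert where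
  B : Matrix (Fin 6) (Fin 6) ℤ
  v₁ : Fin 6 → ℤ
  r₁ : Fin 6 → ℤ
  v₂ : Fin 6 → ℤ
  r₂ : Fin 6 → ℤ

/-- The check of a certificate. -/
def KerCert.check (m : ℕ) (R : List ℕ) (c : KerCert) : Bool :=
  (List.finRange 6).all fun i => (List.finRange 6).all fun j =>
    ((if i = j then (1 : ℤ) else 0) - c.v₁ i * c.r₁ j - c.v₂ i * c.r₂ j -
      ∑ k, c.B i k * Amat R k j) % (m : ℤ) == 0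

theorem KerCert.spec {m : ℕ} {R : List ℕ} {c : KerCert} (h : c.check m R = true)
    {G : Type*} [CommGroup G] {X : Fin 6 → G} (hA : mpow (Amat R)ᵀ X = 1)
    (hm : ∀ i, X i ^ m = 1) :
    X = expv (∏ j, X j ^ c.r₁ j) c.v₁ * expv (∏ j, X j ^ c.r₂ j) c.v₂ := by
  refine ker_cert (m := m) (B := c.B) (fun i j => Int.dvd_of_emod_eq_zero ?_) hA hm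
  simp only [KerCert.check, List.all_eq_true, beq_iff_eq] at h
  exact h i (List.mem_finRange i) j (List.mem_finRange j)

/-- Kernel certificates modulo 19. -/
def certs19 : List KerCert := [
  ⟨!![-6, 0, 0, 0, 0, 0; 0, -6, 0, 0, 0, 0; 0, 0, -6, 0, 0, 0; 0, 0, 0, -6, 0, 0; 0, 0, 0, 0, -6, 0; 0, 0, 0, 0, 0, -6], ![0, 0, 0, 0, 0, 0], ![0, 0, 0, 0, 0, 0], ![0, 0, 0, 0, 0, 0], ![0, 0, 0, 0, 0, 0]⟩,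
  ⟨!![-2, 6, 8, -6, 2, 4; -6, -8, -3, 9, -3, -6; -8, -3, 6, 3, -1, -2; -6, -9, -3, 9, -3, -6; -2, -3, -1, 3, 6, -8; 4, 6, 2, -6, 8, -2], ![0, 0, 0, 0, 0, 0], ![0, 0, 0, 0, 0, 0], ![0, 0, 0, 0, 0, 0], ![0, 0, 0, 0, 0, 0]⟩,
  ⟨!![1, 0, 0, 0, 0, 0; 0, -6, 0, 0, 0, 0; 6, 0, -6, 0, 0, 0; 0, 0, 0, -6, 0, 0; 0, 0, 0, 0, -6, 0; 0, 0, 0, 0, 0, -6], ![0, 0, 0, 0, 0, 0], ![0, 0, 0, 0, 0, 0], ![0, 0, 0, 0, 0, 0], ![0, 0, 0, 0, 0, 0]⟩,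
  ⟨!![1, 0, 0, 0, 0, 0; 0, 1, 0, 0, 0, 0; 6, 0, -6, 0, 0, 0; 0, 6, 0, -6, 0, 0; 0, 0, 0, 0, -6, 0; 0, 0, 0, 0, 0, -6], ![0, 0, 0, 0, 0, 0], ![0, 0, 0, 0, 0, 0], ![0, 0, 0, 0, 0, 0], ![0, 0, 0, 0, 0, 0]⟩,
  ⟨!![-6, 0, 6, 0, 0, 0; 0, -6, 0, 0, 0, 0; -6, 0, 7, 0, 0, 0; 4, 0, 2, -6, 0, 0; 0, 0, 0, 0, -6, 0; 0, 0, 0, 0, 0, -6], ![0, 0, 0, 0, 0, 0], ![0, 0, 0, 0, 0, 0], ![0, 0, 0, 0, 0, 0], ![0, 0, 0, 0, 0, 0]⟩,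
  ⟨!![-6, 0, 6, 0, 0, 0; 0, 1, 0, 0, 0, 0; -6, 0, 7, 0, 0, 0; 4, 6, 2, -6, 0, 0; 0, 0, 0, 0, -6, 0; 0, 0, 0, 0, 0, -6], ![0, 0, 0, 0, 0, 0], ![0, 0, 0, 0, 0, 0], ![0, 0, 0, 0, 0, 0], ![0, 0, 0, 0, 0, 0]⟩,
  ⟨!![1, 0, 0, 0, 0, 0; 0, 1, 0, 0, 0, 0; 6, 0, -6, 0, 0, 0; 0, 6, 0, -6, 6, 0; 0, 0, 0, 0, 1, 0; 0, 0, 0, 0, 6, -6], ![0, 0, 0, 0, 0, 0], ![0, 0, 0, 0, 0, 0], ![0, 0, 0, 0, 0, 0], ![0, 0, 0, 0, 0, 0]⟩,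
  ⟨!![-7, 0, -4, 4, 0, 0; 1, -6, -9, -4, 0, 0; -4, 0, 8, -8, 0, 0; 8, 0, 4, -3, 0, 0; 1, 0, -9, -4, -6, 0; 0, 0, 0, 0, 0, -6], ![0, 0, 0, 0, 0, 0], ![0, 0, 0, 0, 0, 0], ![0, 0, 0, 0, 0, 0], ![0, 0, 0, 0, 0, 0]⟩,
  ⟨!![-3, -5, -2, 7, 0, 0; -9, -3, 5, -2, 0, 0; 7, -9, 4, 5, 0, 0; -5, 2, 7, -8, 0, 0; -3, 5, 8, -7, -6, 0; 0, 0, 0, 0, 0, -6], ![0, 0, 0, 0, 0, 0], ![0, 0, 0, 0, 0, 0], ![0, 0, 0, 0, 0, 0], ![0, 0, 0, 0, 0, 0]⟩,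
  ⟨!![-6, 0, 6, 0, 0, 0; 0, 1, 0, 0, 0, 0; -6, 0, 7, 0, 0, 0; 4, 6, 2, -6, 6, 0; 0, 0, 0, 0, 1, 0; 0, 0, 0, 0, 6, -6], ![0, 0, 0, 0, 0, 0], ![0, 0, 0, 0, 0, 0], ![0, 0, 0, 0, 0, 0], ![0, 0, 0, 0, 0, 0]⟩,
  ⟨!![1, 0, 0, 0, 0, 0; 0, -7, 0, -4, 4, 0; 6, -9, -6, 5, -5, 0; 0, -4, 0, 8, -8, 0; 0, 8, 0, 4, -3, 0; 0, 1, 0, -9, -4, -6], ![0, 0, 0, 0, 0, 0], ![0, 0, 0, 0, 0, 0], ![0, 0, 0, 0, 0, 0], ![0, 0, 0, 0, 0, 0]⟩,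
  ⟨!![-6, 0, 6, 0, 0, 0; 0, -6, 0, 0, 0, 0; -6, 0, 7, 0, 0, 0; 4, 0, 2, -6, 2, -2; 0, 0, 0, 0, -6, 6; 0, 0, 0, 0, -6, 7], ![0, 0, 0, 0, 0, 0], ![0, 0, 0, 0, 0, 0], ![0, 0, 0, 0, 0, 0], ![0, 0, 0, 0, 0, 0]⟩,
  ⟨!![-6, 1, 7, -9, 9, 0; 0, -2, -3, 8, -8, 0; 0, -3, -2, 8, -8, 0; 0, 8, 8, -5, 5, 0; 0, 3, 3, -8, 9, 0; 0, -2, -2, -1, 7, -6], ![0, 0, 0, 0, 0, 0], ![0, 0, 0, 0, 0, 0], ![0, 0, 0, 0, 0, 0], ![0, 0, 0, 0, 0, 0]⟩,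
  ⟨!![6, -1, -7, 9, -9, 0; 2, 4, 1, -8, 8, 0; 8, 2, -5, 1, -1, 0; 1, -8, -9, 6, -6, 0; -2, -3, -1, 8, -7, 0; -5, 2, 7, 1, 5, -6], ![0, 0, 0, 0, 0, 0], ![0, 0, 0, 0, 0, 0], ![0, 0, 0, 0, 0, 0], ![0, 0, 0, 0, 0, 0]⟩,
  ⟨!![-3, -5, -2, 7, 0, 0; -9, -3, 5, -2, 0, 0; 7, -9, 4, 5, 0, 0; -5, 2, 7, -8, 0, 0; -3, 5, 8, -7, -6, 6; 0, 0, 0, 0, 0, 1], ![0, 0, 0, 0, 0, 0], ![0, 0, 0, 0, 0, 0], ![0, 0, 0, 0, 0, 0], ![0, 0, 0, 0, 0, 0]⟩,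
  ⟨!![-6, 0, 6, 0, 0, 0; 0, 1, 0, 0, 0, 0; -6, 0, 7, 0, 0, 0; 4, 6, 2, -6, 2, -2; 0, 0, 0, 0, -6, 6; 0, 0, 0, 0, -6, 7], ![0, 0, 0, 0, 0, 0], ![0, 0, 0, 0, 0, 0], ![0, 0, 0, 0, 0, 0], ![0, 0, 0, 0, 0, 0]⟩,
  ⟨!![-4, 0, 7, -8, 9, -9; -2, -6, -1, 8, -9, 9; 9, 0, 5, -3, 1, -1; 1, 0, -9, 6, -2, 2; -2, 0, -1, 8, 4, -4; 4, 0, 2, 3, -7, 8], ![0, 0, 0, 0, 0, 0], ![0, 0, 0, 0, 0, 0], ![0, 0, 0, 0, 0, 0], ![0, 0, 0, 0, 0, 0]⟩,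
  ⟨!![-6, -5, 5, 9, -5, 0; 0, 8, 0, 0, -4, 0; 0, -4, 4, -8, -4, 0; 0, 0, 4, -7, 4, 0; 0, 4, 0, 0, 8, 0; 0, -9, -9, 5, 5, -6], ![0, 0, 0, 0, 0, 0], ![0, 0, 0, 0, 0, 0], ![0, 0, 0, 0, 0, 0], ![0, 0, 0, 0, 0, 0]⟩,
  ⟨!![-2, -8, 8, 3, -8, 0; 0, 8, 0, 0, -4, 0; 5, -3, 3, -6, -3, 0; 3, -7, -8, -2, -3, 0; 0, 4, 0, 0, 8, 0; -2, 2, -1, 8, -3, -6], ![0, 0, 0, 0, 0, 0], ![0, 0, 0, 0, 0, 0], ![0, 0, 0, 0, 0, 0], ![0, 0, 0, 0, 0, 0]⟩,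
  ⟨!![-1, -9, -1, -1, 3, 0; -9, -2, 5, -2, -8, 0; 3, -1, 2, 2, -6, 0; 1, -5, -9, 6, -6, 0; -1, 5, 9, 4, -3, 0; 0, 0, 0, 0, 0, 0], ![16, 8, 6, 6, 3, 1], ![0, 0, 0, 0, 0, 1], ![0, 0, 0, 0, 0, 0], ![0, 0, 0, 0, 0, 0]⟩,
  ⟨!![5, 8, 1, 8, -9, 1; 0, 3, 8, 8, 8, 0; 7, 0, -7, 8, 7, 9; -9, 0, 9, -5, -9, -2; 2, -8, -7, -8, -3, -7; -1, 0, 1, -8, -1, 4], ![0, 0, 0, 0, 0, 0], ![0, 0, 0, 0, 0, 0], ![0, 0, 0, 0, 0, 0], ![0, 0, 0, 0, 0, 0]⟩,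
  ⟨!![-6, 6, -7, -7, 6, 0; 0, 1, 0, 0, 0, 0; 0, 0, 1, 0, 0, 0; 0, 0, 0, 1, 0, 0; 0, 0, 0, 0, 1, 0; 0, 6, 6, -7, -7, -6], ![0, 0, 0, 0, 0, 0], ![0, 0, 0, 0, 0, 0], ![0, 0, 0, 0, 0, 0], ![0, 0, 0, 0, 0, 0]⟩,
  ⟨!![4, -4, -8, -8, -4, 0; 0, 1, 0, 0, 0, 0; 4, -4, -7, -8, -4, 0; 0, 0, 0, 1, 0, 0; 0, 0, 0, 0, 1, 0; -9, -4, 5, -8, 2, -6], ![0, 0, 0, 0, 0, 0], ![0, 0, 0, 0, 0, 0], ![0, 0, 0, 0, 0, 0], ![0, 0, 0, 0, 0, 0]⟩,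
  ⟨!![-7, 8, -4, -3, 9, -9; 0, 1, 0, 0, 0, 0; -7, 8, -3, -3, 9, -9; 0, 0, 0, 1, 0, 0; -2, -3, -1, -6, -7, 7; 1, -8, -9, 3, 4, -3], ![0, 0, 0, 0, 0, 0], ![0, 0, 0, 0, 0, 0], ![0, 0, 0, 0, 0, 0], ![0, 0, 0, 0, 0, 0]⟩,
  ⟨!![-6, 6, 6, 6, 6, 6; 0, -6, 6, 6, 6, 0; 0, 0, -6, 6, 0, 0; 0, 0, -6, 7, 0, 0; 0, -6, 0, -6, 7, 0; -6, 0, -6, -6, -6, 7], ![0, 0, 0, 0, 0, 0], ![0, 0, 0, 0, 0, 0], ![0, 0, 0, 0, 0, 0], ![0, 0, 0, 0, 0, 0]⟩]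

/-- The exponent of the fixed torus times the inverse matrix. -/
def inv19 : Matrix (Fin 6) (Fin 6) ℤ := !![35, 8, -13, 6, -16, 20; 3, 30, -6, -6, -3, 18; -11, 4, 22, 3, -8, 10; 12, 6, -24, 33, -12, 15; 5, -7, -10, 9, 14, 11; -5, 7, 10, -9, -14, 46]

/-- The fixed torus is cyclic. -/
def cyc19 : KerCert :=
  ⟨!![-945, -81, 297, -324, -135, 135; -216, -18, 68, -74, -31, 31; -1189, -102, 374, -408, -170, 170; -162, -14, 51, -55, -23, 23; -1108, -95, 348, -380, -158, 158; -540, -46, 170, -185, -77, 78], ![35, 8, 44, 6, 41, 20], ![44, 0, 0, 0, 0, 0], ![0, 0, 0, 0, 0, 0], ![0, 0, 0, 0, 0, 0]⟩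

/-- Elements of order three in the fixed torus. -/
def three19 : KerCert :=
  ⟨!![0, 1, 1, 2, 2, 0; 1, 1, 2, 0, 2, 0; 1, 1, 1, 2, 2, 0; 2, 1, 1, 2, 0, 0; 1, 2, 2, 0, 2, 0; 0, 0, 0, 0, 0, 0], ![1, 1, 1, 0, 1, 1], ![0, 0, 0, 0, 0, 1], ![0, 0, 0, 0, 0, 0], ![0, 0, 0, 0, 0, 0]⟩

/-- Kernel certificates modulo 17. -/
def certs17 : List KerCert := [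
  ⟨!![6, 0, 0, 0, 0, 0; 0, 6, 0, 0, 0, 0; 0, 0, 6, 0, 0, 0; 0, 0, 0, 6, 0, 0; 0, 0, 0, 0, 6, 0; 0, 0, 0, 0, 0, 6], ![0, 0, 0, 0, 0, 0], ![0, 0, 0, 0, 0, 0], ![0, 0, 0, 0, 0, 0], ![0, 0, 0, 0, 0, 0]⟩,
  ⟨!![0, 8, 8, -8, -3, -6; -8, 6, -4, -5, -4, -8; -8, -4, 5, 4, -7, 3; -8, 5, -4, -5, -4, -8; 3, -4, -7, 4, 5, -8; -6, 8, -3, -8, 8, 0], ![0, 0, 0, 0, 0, 0], ![0, 0, 0, 0, 0, 0], ![0, 0, 0, 0, 0, 0], ![0, 0, 0, 0, 0, 0]⟩,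
  ⟨!![1, 0, 0, 0, 0, 0; 0, 6, 0, 0, 0, 0; -6, 0, 6, 0, 0, 0; 0, 0, 0, 6, 0, 0; 0, 0, 0, 0, 6, 0; 0, 0, 0, 0, 0, 6], ![0, 0, 0, 0, 0, 0], ![0, 0, 0, 0, 0, 0], ![0, 0, 0, 0, 0, 0], ![0, 0, 0, 0, 0, 0]⟩,
  ⟨!![1, 0, 0, 0, 0, 0; 0, 1, 0, 0, 0, 0; -6, 0, 6, 0, 0, 0; 0, -6, 0, 6, 0, 0; 0, 0, 0, 0, 6, 0; 0, 0, 0, 0, 0, 6], ![0, 0, 0, 0, 0, 0], ![0, 0, 0, 0, 0, 0], ![0, 0, 0, 0, 0, 0], ![0, 0, 0, 0, 0, 0]⟩,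
  ⟨!![6, 0, -6, 0, 0, 0; 0, 6, 0, 0, 0, 0; 6, 0, -5, 0, 0, 0; -4, 0, -2, 6, 0, 0; 0, 0, 0, 0, 6, 0; 0, 0, 0, 0, 0, 6], ![0, 0, 0, 0, 0, 0], ![0, 0, 0, 0, 0, 0], ![0, 0, 0, 0, 0, 0], ![0, 0, 0, 0, 0, 0]⟩,
  ⟨!![6, 0, -6, 0, 0, 0; 0, 1, 0, 0, 0, 0; 6, 0, -5, 0, 0, 0; -4, -6, -2, 6, 0, 0; 0, 0, 0, 0, 6, 0; 0, 0, 0, 0, 0, 6], ![0, 0, 0, 0, 0, 0], ![0, 0, 0, 0, 0, 0], ![0, 0, 0, 0, 0, 0], ![0, 0, 0, 0, 0, 0]⟩,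
  ⟨!![1, 0, 0, 0, 0, 0; 0, 1, 0, 0, 0, 0; -6, 0, 6, 0, 0, 0; 0, -6, 0, 6, -6, 0; 0, 0, 0, 0, 1, 0; 0, 0, 0, 0, -6, 6], ![0, 0, 0, 0, 0, 0], ![0, 0, 0, 0, 0, 0], ![0, 0, 0, 0, 0, 0], ![0, 0, 0, 0, 0, 0]⟩,
  ⟨!![4, 0, -7, 7, 0, 0; 2, 6, 1, -7, 0, 0; -7, 0, -3, 3, 0, 0; -3, 0, 7, -6, 0, 0; 2, 0, 1, -7, 6, 0; 0, 0, 0, 0, 0, 6], ![0, 0, 0, 0, 0, 0], ![0, 0, 0, 0, 0, 0], ![0, 0, 0, 0, 0, 0], ![0, 0, 0, 0, 0, 0]⟩,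
  ⟨!![2, -6, -8, -3, 0, 0; -5, 2, 6, -8, 0, 0; -3, -5, -1, 6, 0, 0; -6, 8, -3, -4, 0, 0; 4, 6, 2, 3, 6, 0; 0, 0, 0, 0, 0, 6], ![0, 0, 0, 0, 0, 0], ![0, 0, 0, 0, 0, 0], ![0, 0, 0, 0, 0, 0], ![0, 0, 0, 0, 0, 0]⟩,
  ⟨!![6, 0, -6, 0, 0, 0; 0, 1, 0, 0, 0, 0; 6, 0, -5, 0, 0, 0; -4, -6, -2, 6, -6, 0; 0, 0, 0, 0, 1, 0; 0, 0, 0, 0, -6, 6], ![0, 0, 0, 0, 0, 0], ![0, 0, 0, 0, 0, 0], ![0, 0, 0, 0, 0, 0], ![0, 0, 0, 0, 0, 0]⟩,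
  ⟨!![1, 0, 0, 0, 0, 0; 0, 4, 0, -7, 7, 0; -6, 1, 6, -8, 8, 0; 0, -7, 0, -3, 3, 0; 0, -3, 0, 7, -6, 0; 0, 2, 0, 1, -7, 6], ![0, 0, 0, 0, 0, 0], ![0, 0, 0, 0, 0, 0], ![0, 0, 0, 0, 0, 0], ![0, 0, 0, 0, 0, 0]⟩,
  ⟨!![6, 0, -6, 0, 0, 0; 0, 6, 0, 0, 0, 0; 6, 0, -5, 0, 0, 0; -4, 0, -2, 6, -2, 2; 0, 0, 0, 0, 6, -6; 0, 0, 0, 0, 6, -5], ![0, 0, 0, 0, 0, 0], ![0, 0, 0, 0, 0, 0], ![0, 0, 0, 0, 0, 0], ![0, 0, 0, 0, 0, 0]⟩,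
  ⟨!![6, -8, 3, -4, 4, 0; 0, 8, 7, -5, 5, 0; 0, 7, 8, -5, 5, 0; 0, -5, -5, -2, 2, 0; 0, -7, -7, 5, -4, 0; 0, -1, -1, 8, 3, 6], ![0, 0, 0, 0, 0, 0], ![0, 0, 0, 0, 0, 0], ![0, 0, 0, 0, 0, 0], ![0, 0, 0, 0, 0, 0]⟩,
  ⟨!![2, -6, -8, -3, 0, 3; -5, 2, 6, -8, 0, 8; -3, -5, -1, 6, 0, -6; -6, 8, -3, -4, 0, 4; -5, 1, 6, -8, 0, -8; 0, 0, 0, 0, 0, 0], ![8, 10, 1, 5, 7, 1], ![0, 0, 0, 0, 0, 1], ![0, 0, 0, 0, 0, 0], ![0, 0, 0, 0, 0, 0]⟩,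
  ⟨!![2, -6, -8, -3, 0, 0; -5, 2, 6, -8, 0, 0; -3, -5, -1, 6, 0, 0; -6, 8, -3, -4, 0, 0; 4, 6, 2, 3, 6, -6; 0, 0, 0, 0, 0, 1], ![0, 0, 0, 0, 0, 0], ![0, 0, 0, 0, 0, 0], ![0, 0, 0, 0, 0, 0], ![0, 0, 0, 0, 0, 0]⟩,
  ⟨!![6, 0, -6, 0, 0, 0; 0, 1, 0, 0, 0, 0; 6, 0, -5, 0, 0, 0; -4, -6, -2, 6, -2, 2; 0, 0, 0, 0, 6, -6; 0, 0, 0, 0, 6, -5], ![0, 0, 0, 0, 0, 0], ![0, 0, 0, 0, 0, 0], ![0, 0, 0, 0, 0, 0], ![0, 0, 0, 0, 0, 0]⟩,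
  ⟨!![7, 0, 3, 5, 4, -4; -1, 6, 8, -5, -4, 4; 4, 0, -6, 7, -8, 8; -8, 0, -4, 3, -1, 1; -1, 0, 8, -5, 2, -2; 2, 0, 1, -7, -3, 4], ![0, 0, 0, 0, 0, 0], ![0, 0, 0, 0, 0, 0], ![0, 0, 0, 0, 0, 0], ![0, 0, 0, 0, 0, 0]⟩,
  ⟨!![6, 8, -8, -1, 8, 0; 0, -3, 0, 0, -7, 0; 0, -7, 7, 3, -7, 0; 0, 0, 7, 4, 7, 0; 0, 7, 0, 0, -3, 0; 0, 1, 1, -8, -8, 6], ![0, 0, 0, 0, 0, 0], ![0, 0, 0, 0, 0, 0], ![0, 0, 0, 0, 0, 0], ![0, 0, 0, 0, 0, 0]⟩,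
  ⟨!![8, 5, -5, -7, 5, 0; 0, -3, 0, 0, -7, 0; 2, 7, -7, -3, 7, 0; -7, 2, 5, 8, -8, 0; 0, 7, 0, 0, -3, 0; -1, -6, 8, -5, 2, 6], ![0, 0, 0, 0, 0, 0], ![0, 0, 0, 0, 0, 0], ![0, 0, 0, 0, 0, 0], ![0, 0, 0, 0, 0, 0]⟩,
  ⟨!![3, -8, 1, 2, -2, 2; 7, 5, -5, 1, -4, 4; -5, -1, -2, -4, 4, -4; 1, -1, -8, -3, -7, 7; 3, 8, -7, -2, 8, -8; -8, 3, -4, -6, -1, 2], ![0, 0, 0, 0, 0, 0], ![0, 0, 0, 0, 0, 0], ![0, 0, 0, 0, 0, 0], ![0, 0, 0, 0, 0, 0]⟩,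
  ⟨!![-6, -5, -8, -5, -4, -8; 0, -7, -5, -5, -5, 0; 3, 0, -3, -5, 3, 4; -4, 0, 4, -2, -4, -1; 1, 5, -3, 5, -1, -3; 8, 0, -8, 5, 8, 2], ![0, 0, 0, 0, 0, 0], ![0, 0, 0, 0, 0, 0], ![0, 0, 0, 0, 0, 0], ![0, 0, 0, 0, 0, 0]⟩,
  ⟨!![6, -6, 5, 5, -6, 0; 0, 1, 0, 0, 0, 0; 0, 0, 1, 0, 0, 0; 0, 0, 0, 1, 0, 0; 0, 0, 0, 0, 1, 0; 0, -6, -6, 5, 5, 6], ![0, 0, 0, 0, 0, 0], ![0, 0, 0, 0, 0, 0], ![0, 0, 0, 0, 0, 0], ![0, 0, 0, 0, 0, 0]⟩,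
  ⟨!![7, -7, 3, 3, -7, 0; 0, 1, 0, 0, 0, 0; 7, -7, 4, 3, -7, 0; 0, 0, 0, 1, 0, 0; 0, 0, 0, 0, 1, 0; 1, -7, -8, 3, 4, 6], ![0, 0, 0, 0, 0, 0], ![0, 0, 0, 0, 0, 0], ![0, 0, 0, 0, 0, 0], ![0, 0, 0, 0, 0, 0]⟩,
  ⟨!![-3, -5, -2, 7, 4, -4; 0, 1, 0, 0, 0, 0; -3, -5, -1, 7, 4, -4; 0, 0, 0, 1, 0, 0; -1, 7, 8, -3, -3, 3; -8, 5, -4, -7, 2, -1], ![0, 0, 0, 0, 0, 0], ![0, 0, 0, 0, 0, 0], ![0, 0, 0, 0, 0, 0], ![0, 0, 0, 0, 0, 0]⟩,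
  ⟨!![6, -6, -6, -6, -6, -6; 0, 6, -6, -6, -6, 0; 0, 0, 6, -6, 0, 0; 0, 0, 6, -5, 0, 0; 0, 6, 0, 6, -5, 0; 6, 0, 6, 6, 6, -5], ![0, 0, 0, 0, 0, 0], ![0, 0, 0, 0, 0, 0], ![0, 0, 0, 0, 0, 0], ![0, 0, 0, 0, 0, 0]⟩]

/-- The exponent of the fixed torus times the inverse matrix. -/
def inv17 : Matrix (Fin 6) (Fin 6) ℤ := !![21, -12, 9, -6, 12, -8; 6, 33, -12, -9, 18, -12; -15, -6, 30, -3, 6, -4; 3, -9, -6, 21, 9, -6; -3, 9, 6, -21, 42, -11; 0, 0, 0, 0, 0, 17]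

/-- The fixed torus is cyclic. -/
def cyc17 : KerCert :=
  ⟨!![63, 94, 31, 47, 86, -133; 116, 175, 58, 87, 160, -247; 27, 40, 14, 20, 37, -57; 134, 201, 67, 101, 184, -285; 36, 54, 18, 27, 50, -76; 128, 192, 64, 96, 176, -272], ![21, 39, 9, 45, 12, 43], ![0, 0, 0, 0, 0, 19], ![0, 0, 0, 0, 0, 0], ![0, 0, 0, 0, 0, 0]⟩

/-- Kernel certificates modulo 13. -/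
def certs13 : List KerCert := [
  ⟨!![-4, 0, 0, 0, 0, 0; 0, -4, 0, 0, 0, 0; 0, 0, -4, 0, 0, 0; 0, 0, 0, -4, 0, 0; 0, 0, 0, 0, -4, 0; 0, 0, 0, 0, 0, -4], ![0, 0, 0, 0, 0, 0], ![0, 0, 0, 0, 0, 0], ![0, 0, 0, 0, 0, 0], ![0, 0, 0, 0, 0, 0]⟩,
  ⟨!![5, -6, 2, 6, -6, 0; 6, -3, 3, 4, -4, 0; -2, 3, 6, -3, 3, 0; 6, -4, 3, 4, -4, 0; 6, -4, 3, 4, -3, 0; 0, 0, 0, 0, 0, 0], ![1, 5, 6, 5, 6, 1], ![0, 0, 0, 0, 0, 1], ![0, 0, 0, 0, 0, 0], ![0, 0, 0, 0, 0, 0]⟩,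
  ⟨!![1, 0, 0, 0, 0, 0; 0, -4, 0, 0, 0, 0; 4, 0, -4, 0, 0, 0; 0, 0, 0, -4, 0, 0; 0, 0, 0, 0, -4, 0; 0, 0, 0, 0, 0, -4], ![0, 0, 0, 0, 0, 0], ![0, 0, 0, 0, 0, 0], ![0, 0, 0, 0, 0, 0], ![0, 0, 0, 0, 0, 0]⟩,
  ⟨!![1, 0, 0, 0, 0, 0; 0, 1, 0, 0, 0, 0; 4, 0, -4, 0, 0, 0; 0, 4, 0, -4, 0, 0; 0, 0, 0, 0, -4, 0; 0, 0, 0, 0, 0, -4], ![0, 0, 0, 0, 0, 0], ![0, 0, 0, 0, 0, 0], ![0, 0, 0, 0, 0, 0], ![0, 0, 0, 0, 0, 0]⟩,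
  ⟨!![-4, 0, 4, 0, 0, 0; 0, -4, 0, 0, 0, 0; -4, 0, 5, 0, 0, 0; -6, 0, -3, -4, 0, 0; 0, 0, 0, 0, -4, 0; 0, 0, 0, 0, 0, -4], ![0, 0, 0, 0, 0, 0], ![0, 0, 0, 0, 0, 0], ![0, 0, 0, 0, 0, 0], ![0, 0, 0, 0, 0, 0]⟩,
  ⟨!![-4, 0, 4, 0, 0, 0; 0, 1, 0, 0, 0, 0; -4, 0, 5, 0, 0, 0; -6, 4, -3, -4, 0, 0; 0, 0, 0, 0, -4, 0; 0, 0, 0, 0, 0, -4], ![0, 0, 0, 0, 0, 0], ![0, 0, 0, 0, 0, 0], ![0, 0, 0, 0, 0, 0], ![0, 0, 0, 0, 0, 0]⟩,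
  ⟨!![1, 0, 0, 0, 0, 0; 0, 1, 0, 0, 0, 0; 4, 0, -4, 0, 0, 0; 0, 4, 0, -4, 4, 0; 0, 0, 0, 0, 1, 0; 0, 0, 0, 0, 4, -4], ![0, 0, 0, 0, 0, 0], ![0, 0, 0, 0, 0, 0], ![0, 0, 0, 0, 0, 0], ![0, 0, 0, 0, 0, 0]⟩,
  ⟨!![-2, 0, 5, -5, 0, 0; -2, -4, -1, 5, 0, 0; 5, 0, 3, -3, 0, 0; 3, 0, -5, 6, 0, 0; -2, 0, -1, 5, -4, 0; 0, 0, 0, 0, 0, -4], ![0, 0, 0, 0, 0, 0], ![0, 0, 0, 0, 0, 0], ![0, 0, 0, 0, 0, 0], ![0, 0, 0, 0, 0, 0]⟩,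
  ⟨!![4, -1, -5, 6, 0, 0; 2, 4, 1, -5, 0, 0; 6, 2, -3, 1, 0, 0; -1, 5, 6, 3, 0, 0; 5, 1, -4, -6, -4, 0; 0, 0, 0, 0, 0, -4], ![0, 0, 0, 0, 0, 0], ![0, 0, 0, 0, 0, 0], ![0, 0, 0, 0, 0, 0], ![0, 0, 0, 0, 0, 0]⟩,
  ⟨!![-4, 0, 4, 0, 0, 0; 0, 1, 0, 0, 0, 0; -4, 0, 5, 0, 0, 0; -6, 4, -3, -4, 4, 0; 0, 0, 0, 0, 1, 0; 0, 0, 0, 0, 4, -4], ![0, 0, 0, 0, 0, 0], ![0, 0, 0, 0, 0, 0], ![0, 0, 0, 0, 0, 0], ![0, 0, 0, 0, 0, 0]⟩,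
  ⟨!![1, 0, 0, 0, 0, 0; 0, -2, 0, 5, -5, 0; 4, -1, -4, 6, -6, 0; 0, 5, 0, 3, -3, 0; 0, 3, 0, -5, 6, 0; 0, -2, 0, -1, 5, -4], ![0, 0, 0, 0, 0, 0], ![0, 0, 0, 0, 0, 0], ![0, 0, 0, 0, 0, 0], ![0, 0, 0, 0, 0, 0]⟩,
  ⟨!![-4, 0, 4, 0, 0, 0; 0, -4, 0, 0, 0, 0; -4, 0, 5, 0, 0, 0; -6, 0, -3, -4, -3, 3; 0, 0, 0, 0, -4, 4; 0, 0, 0, 0, -4, 5], ![0, 0, 0, 0, 0, 0], ![0, 0, 0, 0, 0, 0], ![0, 0, 0, 0, 0, 0], ![0, 0, 0, 0, 0, 0]⟩,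
  ⟨!![-4, -3, 1, 5, -5, 0; 0, -3, -4, -2, 2, 0; 0, -4, -3, -2, 2, 0; 0, -2, -2, 6, -6, 0; 0, 4, 4, 2, -1, 0; 0, 6, 6, 3, 1, -4], ![0, 0, 0, 0, 0, 0], ![0, 0, 0, 0, 0, 0], ![0, 0, 0, 0, 0, 0], ![0, 0, 0, 0, 0, 0]⟩,
  ⟨!![5, -6, 2, -3, 3, 0; -1, 6, 6, -4, 4, 0; 4, -1, -4, 6, -6, 0; 6, -4, 3, 5, -5, 0; 1, -5, -6, 4, -3, 0; -5, -1, 4, 6, -2, -4], ![0, 0, 0, 0, 0, 0], ![0, 0, 0, 0, 0, 0], ![0, 0, 0, 0, 0, 0], ![0, 0, 0, 0, 0, 0]⟩,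
  ⟨!![4, -1, -5, 6, 0, 0; 2, 4, 1, -5, 0, 0; 6, 2, -3, 1, 0, 0; -1, 5, 6, 3, 0, 0; 5, 1, -4, -6, -4, 4; 0, 0, 0, 0, 0, 1], ![0, 0, 0, 0, 0, 0], ![0, 0, 0, 0, 0, 0], ![0, 0, 0, 0, 0, 0], ![0, 0, 0, 0, 0, 0]⟩,
  ⟨!![-4, 0, 4, 0, 0, 0; 0, 1, 0, 0, 0, 0; -4, 0, 5, 0, 0, 0; -6, 4, -3, -4, -3, 3; 0, 0, 0, 0, -4, 4; 0, 0, 0, 0, -4, 5], ![0, 0, 0, 0, 0, 0], ![0, 0, 0, 0, 0, 0], ![0, 0, 0, 0, 0, 0], ![0, 0, 0, 0, 0, 0]⟩,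
  ⟨!![3, 0, 1, 2, -5, 5; 6, -4, 3, -2, 5, -5; -5, 0, -2, -4, -3, 3; -3, 0, 5, -5, 6, -6; 6, 0, 3, -2, 1, -1; 1, 0, -6, 4, -1, 2], ![0, 0, 0, 0, 0, 0], ![0, 0, 0, 0, 0, 0], ![0, 0, 0, 0, 0, 0], ![0, 0, 0, 0, 0, 0]⟩,
  ⟨!![-4, -6, 6, 1, -6, 0; 0, 3, 0, 0, 5, 0; 0, 5, -5, -3, 5, 0; 0, 0, -5, -2, -5, 0; 0, -5, 0, 0, 3, 0; 0, -1, -1, 6, 6, -4], ![0, 0, 0, 0, 0, 0], ![0, 0, 0, 0, 0, 0], ![0, 0, 0, 0, 0, 0], ![0, 0, 0, 0, 0, 0]⟩,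
  ⟨!![-3, 2, -2, 4, 2, 0; 0, 3, 0, 0, 5, 0; -6, -4, 4, 5, -4, 0; 4, 6, 2, -3, 1, 0; 0, -5, 0, 0, 3, 0; 6, -5, 3, -2, 2, -4], ![0, 0, 0, 0, 0, 0], ![0, 0, 0, 0, 0, 0], ![0, 0, 0, 0, 0, 0], ![0, 0, 0, 0, 0, 0]⟩,
  ⟨!![-6, -2, 3, 5, 1, -1; -1, 6, 6, -4, -4, 4; 0, 4, -6, 3, -2, 2; -4, 4, -2, 4, -6, 6; 2, 2, 1, -5, -5, 5; 4, 1, 2, 3, -3, 4], ![0, 0, 0, 0, 0, 0], ![0, 0, 0, 0, 0, 0], ![0, 0, 0, 0, 0, 0], ![0, 0, 0, 0, 0, 0]⟩,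
  ⟨!![-2, -2, -3, -2, 5, -3; 0, 4, -2, -2, -2, 0; 1, 0, -1, -2, 1, -5; 5, 0, -5, 6, 5, 6; -6, 2, -1, 2, 0, -1; 3, 0, -3, 2, 3, 1], ![0, 0, 0, 0, 0, 0], ![0, 0, 0, 0, 0, 0], ![0, 0, 0, 0, 0, 0], ![0, 0, 0, 0, 0, 0]⟩,
  ⟨!![-4, 4, -5, -5, 4, 0; 0, 1, 0, 0, 0, 0; 0, 0, 1, 0, 0, 0; 0, 0, 0, 1, 0, 0; 0, 0, 0, 0, 1, 0; 0, 4, 4, -5, -5, -4], ![0, 0, 0, 0, 0, 0], ![0, 0, 0, 0, 0, 0], ![0, 0, 0, 0, 0, 0], ![0, 0, 0, 0, 0, 0]⟩,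
  ⟨!![-5, 5, -3, -3, 5, 0; 0, 1, 0, 0, 0, 0; -5, 5, -2, -3, 5, 0; 0, 0, 0, 1, 0, 0; 0, 0, 0, 0, 1, 0; -1, 5, 6, -3, -4, -4], ![0, 0, 0, 0, 0, 0], ![0, 0, 0, 0, 0, 0], ![0, 0, 0, 0, 0, 0], ![0, 0, 0, 0, 0, 0]⟩,
  ⟨!![-1, -2, -1, -4, -5, 5; 0, 1, 0, 0, 0, 0; -1, -2, 0, -4, -5, 5; 0, 0, 0, 1, 0, 0; 6, -4, 3, 5, -1, 1; -3, 2, 5, 4, 1, 0], ![0, 0, 0, 0, 0, 0], ![0, 0, 0, 0, 0, 0], ![0, 0, 0, 0, 0, 0], ![0, 0, 0, 0, 0, 0]⟩,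
  ⟨!![-4, 4, 4, 4, 4, 4; 0, -4, 4, 4, 4, 0; 0, 0, -4, 4, 0, 0; 0, 0, -4, 5, 0, 0; 0, -4, 0, -4, 5, 0; -4, 0, -4, -4, -4, 5], ![0, 0, 0, 0, 0, 0], ![0, 0, 0, 0, 0, 0], ![0, 0, 0, 0, 0, 0], ![0, 0, 0, 0, 0, 0]⟩]

/-- The exponent of the fixed torus times the inverse matrix. -/
def inv13 : Matrix (Fin 6) (Fin 6) ℤ := !![17, -6, 11, -6, -2, 4; 6, 30, -3, -9, -3, 6; -11, -3, 25, -3, -1, 2; -6, 9, 3, 9, 3, -6; 2, -3, -1, -3, 25, -11; 4, -6, -2, -6, 11, 17]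

/-- The fixed torus is cyclic. -/
def cyc13 : KerCert :=
  ⟨!![-170, -60, 110, 60, -20, -40; -331, -116, 214, 117, -39, -78; -110, -39, 72, 39, -13, -26; -331, -117, 214, 117, -39, -78; -371, -131, 240, 131, -43, -87; -40, -14, 26, 14, -5, -9], ![17, 33, 11, 33, 37, 4], ![23, 0, 0, 0, 0, 0], ![0, 0, 0, 0, 0, 0], ![0, 0, 0, 0, 0, 0]⟩

/-- Kernel certificates modulo 11. -/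
def certs11 : List KerCert := [
  ⟨!![4, 0, 0, 0, 0, 0; 0, 4, 0, 0, 0, 0; 0, 0, 4, 0, 0, 0; 0, 0, 0, 4, 0, 0; 0, 0, 0, 0, 4, 0; 0, 0, 0, 0, 0, 4], ![0, 0, 0, 0, 0, 0], ![0, 0, 0, 0, 0, 0], ![0, 0, 0, 0, 0, 0], ![0, 0, 0, 0, 0, 0]⟩,
  ⟨!![1, 1, 0, -1, 4, -3; -1, 5, 5, -4, 5, -1; 0, 5, -5, -5, -2, -4; -1, 4, 5, -4, 5, -1; -4, 5, -2, -5, -5, 0; -3, 1, 4, -1, 0, 1], ![0, 0, 0, 0, 0, 0], ![0, 0, 0, 0, 0, 0], ![0, 0, 0, 0, 0, 0], ![0, 0, 0, 0, 0, 0]⟩,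
  ⟨!![1, 0, 0, 0, 0, 0; 0, 4, 0, 0, 0, 0; -4, 0, 4, 0, 0, 0; 0, 0, 0, 4, 0, 0; 0, 0, 0, 0, 4, 0; 0, 0, 0, 0, 0, 4], ![0, 0, 0, 0, 0, 0], ![0, 0, 0, 0, 0, 0], ![0, 0, 0, 0, 0, 0], ![0, 0, 0, 0, 0, 0]⟩,
  ⟨!![1, 0, 0, 0, 0, 0; 0, 1, 0, 0, 0, 0; -4, 0, 4, 0, 0, 0; 0, -4, 0, 4, 0, 0; 0, 0, 0, 0, 4, 0; 0, 0, 0, 0, 0, 4], ![0, 0, 0, 0, 0, 0], ![0, 0, 0, 0, 0, 0], ![0, 0, 0, 0, 0, 0], ![0, 0, 0, 0, 0, 0]⟩,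
  ⟨!![4, 0, -4, 0, 0, 0; 0, 4, 0, 0, 0, 0; 4, 0, -3, 0, 0, 0; 1, 0, -5, 4, 0, 0; 0, 0, 0, 0, 4, 0; 0, 0, 0, 0, 0, 4], ![0, 0, 0, 0, 0, 0], ![0, 0, 0, 0, 0, 0], ![0, 0, 0, 0, 0, 0], ![0, 0, 0, 0, 0, 0]⟩,
  ⟨!![4, 0, -4, 0, 0, 0; 0, 1, 0, 0, 0, 0; 4, 0, -3, 0, 0, 0; 1, -4, -5, 4, 0, 0; 0, 0, 0, 0, 4, 0; 0, 0, 0, 0, 0, 4], ![0, 0, 0, 0, 0, 0], ![0, 0, 0, 0, 0, 0], ![0, 0, 0, 0, 0, 0], ![0, 0, 0, 0, 0, 0]⟩,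
  ⟨!![1, 0, 0, 0, 0, 0; 0, 1, 0, 0, 0, 0; -4, 0, 4, 0, 0, 0; 0, -4, 0, 4, -4, 0; 0, 0, 0, 0, 1, 0; 0, 0, 0, 0, -4, 4], ![0, 0, 0, 0, 0, 0], ![0, 0, 0, 0, 0, 0], ![0, 0, 0, 0, 0, 0], ![0, 0, 0, 0, 0, 0]⟩,
  ⟨!![5, 0, 2, -2, 0, 0; -1, 4, 5, 2, 0, 0; 2, 0, -4, 4, 0, 0; -4, 0, -2, 3, 0, 0; -1, 0, 5, 2, 4, 0; 0, 0, 0, 0, 0, 4], ![0, 0, 0, 0, 0, 0], ![0, 0, 0, 0, 0, 0], ![0, 0, 0, 0, 0, 0], ![0, 0, 0, 0, 0, 0]⟩,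
  ⟨!![4, 0, -4, 0, 4, 0; 0, 1, 0, 0, -1, 0; 4, 0, -3, 0, 3, 0; 3, -1, -4, 0, -5, 0; 0, 0, 0, 0, 0, 0; 0, 0, 0, 0, 0, 4], ![10, 3, 2, 4, 1, 0], ![0, 0, 0, 0, 1, 0], ![0, 0, 0, 0, 0, 0], ![0, 0, 0, 0, 0, 0]⟩,
  ⟨!![4, 0, -4, 0, 0, 0; 0, 1, 0, 0, 0, 0; 4, 0, -3, 0, 0, 0; 1, -4, -5, 4, -4, 0; 0, 0, 0, 0, 1, 0; 0, 0, 0, 0, -4, 4], ![0, 0, 0, 0, 0, 0], ![0, 0, 0, 0, 0, 0], ![0, 0, 0, 0, 0, 0], ![0, 0, 0, 0, 0, 0]⟩,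
  ⟨!![1, 0, 0, 0, 0, 0; 0, 5, 0, 2, -2, 0; -4, 5, 4, -3, 3, 0; 0, 2, 0, -4, 4, 0; 0, -4, 0, -2, 3, 0; 0, -1, 0, 5, 2, 4], ![0, 0, 0, 0, 0, 0], ![0, 0, 0, 0, 0, 0], ![0, 0, 0, 0, 0, 0], ![0, 0, 0, 0, 0, 0]⟩,
  ⟨!![4, 0, -4, 0, 0, 0; 0, 4, 0, 0, 0, 0; 4, 0, -3, 0, 0, 0; 1, 0, -5, 4, -5, 5; 0, 0, 0, 0, 4, -4; 0, 0, 0, 0, 4, -3], ![0, 0, 0, 0, 0, 0], ![0, 0, 0, 0, 0, 0], ![0, 0, 0, 0, 0, 0], ![0, 0, 0, 0, 0, 0]⟩,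
  ⟨!![4, -2, 5, -1, 1, 0; 0, -4, -5, 3, -3, 0; 0, -5, -4, 3, -3, 0; 0, 3, 3, 2, -2, 0; 0, 5, 5, -3, 4, 0; 0, 4, 4, 2, 5, 4], ![0, 0, 0, 0, 0, 0], ![0, 0, 0, 0, 0, 0], ![0, 0, 0, 0, 0, 0], ![0, 0, 0, 0, 0, 0]⟩,
  ⟨!![3, 4, 1, 2, -2, 0; 3, 0, -4, 5, -5, 0; -5, 3, -2, -4, 4, 0; -4, 5, -2, 3, -3, 0; -3, 1, 4, -5, -5, 0; 2, 3, 1, -4, 0, 4], ![0, 0, 0, 0, 0, 0], ![0, 0, 0, 0, 0, 0], ![0, 0, 0, 0, 0, 0], ![0, 0, 0, 0, 0, 0]⟩,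
  ⟨!![4, 0, -4, 0, 4, -4; 0, 1, 0, 0, -1, 1; 4, 0, -3, 0, 3, -3; 3, -1, -4, 0, -5, 5; 0, 0, 0, 0, 0, 0; 0, 0, 0, 0, 0, 1], ![10, 3, 2, 4, 1, 0], ![0, 0, 0, 0, 1, 0], ![0, 0, 0, 0, 0, 0], ![0, 0, 0, 0, 0, 0]⟩,
  ⟨!![4, 0, -4, 0, 0, 0; 0, 1, 0, 0, 0, 0; 4, 0, -3, 0, 0, 0; 1, -4, -5, 4, -5, 5; 0, 0, 0, 0, 4, -4; 0, 0, 0, 0, 4, -3], ![0, 0, 0, 0, 0, 0], ![0, 0, 0, 0, 0, 0], ![0, 0, 0, 0, 0, 0], ![0, 0, 0, 0, 0, 0]⟩,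
  ⟨!![0, 0, 5, -3, 1, -1; 4, 4, 2, 3, -1, 1; 1, 0, 1, -5, -2, 2; -2, 0, -1, -1, 4, -4; 4, 0, 2, 3, 3, -3; 3, 0, -4, 5, -5, -5], ![0, 0, 0, 0, 0, 0], ![0, 0, 0, 0, 0, 0], ![0, 0, 0, 0, 0, 0], ![0, 0, 0, 0, 0, 0]⟩,
  ⟨!![4, 3, -3, -5, 3, 0; 0, -4, 0, 0, 2, 0; 0, 2, -2, 4, 2, 0; 0, 0, -2, 5, -2, 0; 0, -2, 0, 0, -4, 0; 0, 5, 5, -3, -3, 4], ![0, 0, 0, 0, 0, 0], ![0, 0, 0, 0, 0, 0], ![0, 0, 0, 0, 0, 0], ![0, 0, 0, 0, 0, 0]⟩,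
  ⟨!![-4, -3, 3, 5, -3, 0; 0, -4, 0, 0, 2, 0; -2, -5, 5, 1, -5, 0; 5, 1, -3, -4, -1, 0; 0, -2, 0, 0, -4, 0; 4, -3, 2, 3, 0, 4], ![0, 0, 0, 0, 0, 0], ![0, 0, 0, 0, 0, 0], ![0, 0, 0, 0, 0, 0], ![0, 0, 0, 0, 0, 0]⟩,
  ⟨!![1, -4, 0, -5, -3, 3; 4, 4, 2, 3, 2, -2; -1, -3, 0, -1, -5, 5; 3, -3, -4, 0, -1, 1; 3, 4, -4, 5, -4, 4; -1, -2, 5, 2, 0, 1], ![0, 0, 0, 0, 0, 0], ![0, 0, 0, 0, 0, 0], ![0, 0, 0, 0, 0, 0], ![0, 0, 0, 0, 0, 0]⟩,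
  ⟨!![1, 3, -2, 3, -1, -2; 0, 5, 3, 3, 3, 0; 5, 0, -5, 3, 5, 1; -1, 0, 1, 2, -1, 4; -4, -3, -5, -3, -2, -5; 2, 0, -2, -3, 2, 3], ![0, 0, 0, 0, 0, 0], ![0, 0, 0, 0, 0, 0], ![0, 0, 0, 0, 0, 0], ![0, 0, 0, 0, 0, 0]⟩,
  ⟨!![4, -4, 3, 3, -4, 0; 0, 1, 0, 0, 0, 0; 0, 0, 1, 0, 0, 0; 0, 0, 0, 1, 0, 0; 0, 0, 0, 0, 1, 0; 0, -4, -4, 3, 3, 4], ![0, 0, 0, 0, 0, 0], ![0, 0, 0, 0, 0, 0], ![0, 0, 0, 0, 0, 0], ![0, 0, 0, 0, 0, 0]⟩,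
  ⟨!![-2, 2, 4, 4, 2, 0; 0, 1, 0, 0, 0, 0; -2, 2, 5, 4, 2, 0; 0, 0, 0, 1, 0, 0; 0, 0, 0, 0, 1, 0; 5, 2, -3, 4, -2, 4], ![0, 0, 0, 0, 0, 0], ![0, 0, 0, 0, 0, 0], ![0, 0, 0, 0, 0, 0], ![0, 0, 0, 0, 0, 0]⟩,
  ⟨!![-5, 3, -3, -5, 1, -1; 0, 1, 0, 0, 0, 0; -5, 3, -2, -5, 1, -1; 0, 0, 0, 1, 0, 0; 4, -5, 2, 1, -5, 5; -2, -3, -1, 5, 3, -2], ![0, 0, 0, 0, 0, 0], ![0, 0, 0, 0, 0, 0], ![0, 0, 0, 0, 0, 0], ![0, 0, 0, 0, 0, 0]⟩,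
  ⟨!![4, -4, -4, -4, -4, -4; 0, 4, -4, -4, -4, 0; 0, 0, 4, -4, 0, 0; 0, 0, 4, -3, 0, 0; 0, 4, 0, 4, -3, 0; 4, 0, 4, 4, 4, -3], ![0, 0, 0, 0, 0, 0], ![0, 0, 0, 0, 0, 0], ![0, 0, 0, 0, 0, 0], ![0, 0, 0, 0, 0, 0]⟩]

/-- The exponent of the fixed torus times the inverse matrix. -/
def inv11 : Matrix (Fin 6) (Fin 6) ℤ := !![15, -12, 3, 6, -4, 0; 6, 15, -12, 9, -6, 0; -9, -6, 18, 3, -2, 0; 3, -9, -6, 21, -3, 0; 0, 0, 0, 0, 11, 0; 0, 0, 0, 0, -11, 33]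

/-- The fixed torus is cyclic. -/
def cyc11 : KerCert :=
  ⟨!![15, 22, 7, 11, -40, 40; 20, 31, 10, 15, -56, 56; 3, 4, 2, 2, -8, 8; 6, 9, 3, 5, -16, 16; 28, 42, 14, 21, -77, 77; 0, 0, 0, 0, 0, 1], ![15, 21, 3, 6, 29, 0], ![0, 0, 0, 0, 8, 0], ![0, 0, 0, 0, 0, 0], ![0, 0, 0, 0, 0, 0]⟩

/-- Kernel certificates modulo 7. -/
def certs7 : List KerCert := [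
  ⟨!![-2, 0, 0, 0, 0, 0; 0, -2, 0, 0, 0, 0; 0, 0, -2, 0, 0, 0; 0, 0, 0, -2, 0, 0; 0, 0, 0, 0, -2, 0; 0, 0, 0, 0, 0, -2], ![0, 0, 0, 0, 0, 0], ![0, 0, 0, 0, 0, 0], ![0, 0, 0, 0, 0, 0], ![0, 0, 0, 0, 0, 0]⟩,
  ⟨!![-1, -2, -1, 2, -3, 1; 2, -3, 1, -3, 1, 2; 1, 1, 1, -1, -2, 3; 2, 3, 1, -3, 1, 2; 3, 1, -2, -1, 1, 1; 1, -2, -3, 2, -1, -1], ![0, 0, 0, 0, 0, 0], ![0, 0, 0, 0, 0, 0], ![0, 0, 0, 0, 0, 0], ![0, 0, 0, 0, 0, 0]⟩,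
  ⟨!![1, 0, 0, 0, 0, 0; 0, -2, 0, 0, 0, 0; 2, 0, -2, 0, 0, 0; 0, 0, 0, -2, 0, 0; 0, 0, 0, 0, -2, 0; 0, 0, 0, 0, 0, -2], ![0, 0, 0, 0, 0, 0], ![0, 0, 0, 0, 0, 0], ![0, 0, 0, 0, 0, 0], ![0, 0, 0, 0, 0, 0]⟩,
  ⟨!![1, 0, 0, 0, 0, 0; 0, 1, 0, 0, 0, 0; 2, 0, -2, 0, 0, 0; 0, 2, 0, -2, 0, 0; 0, 0, 0, 0, -2, 0; 0, 0, 0, 0, 0, -2], ![0, 0, 0, 0, 0, 0], ![0, 0, 0, 0, 0, 0], ![0, 0, 0, 0, 0, 0], ![0, 0, 0, 0, 0, 0]⟩,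
  ⟨!![-2, 0, 2, 0, 0, 0; 0, -2, 0, 0, 0, 0; -2, 0, 3, 0, 0, 0; -1, 0, 3, -2, 0, 0; 0, 0, 0, 0, -2, 0; 0, 0, 0, 0, 0, -2], ![0, 0, 0, 0, 0, 0], ![0, 0, 0, 0, 0, 0], ![0, 0, 0, 0, 0, 0], ![0, 0, 0, 0, 0, 0]⟩,
  ⟨!![-2, 0, 2, 0, 0, 0; 0, 1, 0, 0, 0, 0; -2, 0, 3, 0, 0, 0; -1, 2, 3, -2, 0, 0; 0, 0, 0, 0, -2, 0; 0, 0, 0, 0, 0, -2], ![0, 0, 0, 0, 0, 0], ![0, 0, 0, 0, 0, 0], ![0, 0, 0, 0, 0, 0], ![0, 0, 0, 0, 0, 0]⟩,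
  ⟨!![1, 0, 0, 0, 0, 0; 0, 1, 0, 0, 0, 0; 2, 0, -2, 0, 0, 0; 0, 2, 0, -2, 2, 0; 0, 0, 0, 0, 1, 0; 0, 0, 0, 0, 2, -2], ![0, 0, 0, 0, 0, 0], ![0, 0, 0, 0, 0, 0], ![0, 0, 0, 0, 0, 0], ![0, 0, 0, 0, 0, 0]⟩,
  ⟨!![2, 0, -3, 3, 0, 0; 3, -2, -2, -3, 0, 0; -3, 0, -1, 1, 0, 0; -1, 0, 3, -2, 0, 0; 3, 0, -2, -3, -2, 0; 0, 0, 0, 0, 0, -2], ![0, 0, 0, 0, 0, 0], ![0, 0, 0, 0, 0, 0], ![0, 0, 0, 0, 0, 0], ![0, 0, 0, 0, 0, 0]⟩,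
  ⟨!![3, -3, 1, 2, 0, 0; -1, 3, 3, 1, 0, 0; 2, -1, -2, 3, 0, 0; -3, -1, 2, 0, 0, 0; 2, 3, 1, -2, -2, 0; 0, 0, 0, 0, 0, -2], ![0, 0, 0, 0, 0, 0], ![0, 0, 0, 0, 0, 0], ![0, 0, 0, 0, 0, 0], ![0, 0, 0, 0, 0, 0]⟩,
  ⟨!![-2, 0, 2, 0, 0, 0; 0, 1, 0, 0, 0, 0; -2, 0, 3, 0, 0, 0; -1, 2, 3, -2, 2, 0; 0, 0, 0, 0, 1, 0; 0, 0, 0, 0, 2, -2], ![0, 0, 0, 0, 0, 0], ![0, 0, 0, 0, 0, 0], ![0, 0, 0, 0, 0, 0], ![0, 0, 0, 0, 0, 0]⟩,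
  ⟨!![1, 0, 0, 0, 0, 0; 0, 2, 0, -3, 3, 0; 2, -2, -2, -1, 1, 0; 0, -3, 0, -1, 1, 0; 0, -1, 0, 3, -2, 0; 0, 3, 0, -2, -3, -2], ![0, 0, 0, 0, 0, 0], ![0, 0, 0, 0, 0, 0], ![0, 0, 0, 0, 0, 0], ![0, 0, 0, 0, 0, 0]⟩,
  ⟨!![-2, 0, 2, 0, 0, 0; 0, -2, 0, 0, 0, 0; -2, 0, 3, 0, 0, 0; -1, 0, 3, -2, 3, -3; 0, 0, 0, 0, -2, 2; 0, 0, 0, 0, -2, 3], ![0, 0, 0, 0, 0, 0], ![0, 0, 0, 0, 0, 0], ![0, 0, 0, 0, 0, 0], ![0, 0, 0, 0, 0, 0]⟩,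
  ⟨!![-2, 2, -3, 1, 0, -1; 0, 2, 1, -3, 0, 3; 0, 1, 2, -3, 0, 3; 0, 3, 3, 2, 0, -2; 0, 1, 1, -3, 0, -3; 0, 0, 0, 0, 0, 0], ![3, 5, 5, 6, 2, 1], ![0, 0, 0, 0, 0, 1], ![0, 0, 0, 0, 0, 0], ![0, 0, 0, 0, 0, 0]⟩,
  ⟨!![0, 3, 3, -2, 2, 0; 1, -1, -3, -1, 1, 0; 1, 1, 1, -3, 3, 0; -3, -1, 2, 0, 0, 0; -1, 2, 3, 1, 0, 0; 3, 1, -2, -3, -2, -2], ![0, 0, 0, 0, 0, 0], ![0, 0, 0, 0, 0, 0], ![0, 0, 0, 0, 0, 0], ![0, 0, 0, 0, 0, 0]⟩,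
  ⟨!![3, -3, 1, 2, 0, 0; -1, 3, 3, 1, 0, 0; 2, -1, -2, 3, 0, 0; -3, -1, 2, 0, 0, 0; 2, 3, 1, -2, -2, 2; 0, 0, 0, 0, 0, 1], ![0, 0, 0, 0, 0, 0], ![0, 0, 0, 0, 0, 0], ![0, 0, 0, 0, 0, 0], ![0, 0, 0, 0, 0, 0]⟩,
  ⟨!![-2, 0, 2, 0, 0, 0; 0, 1, 0, 0, 0, 0; -2, 0, 3, 0, 0, 0; -1, 2, 3, -2, 3, -3; 0, 0, 0, 0, -2, 2; 0, 0, 0, 0, -2, 3], ![0, 0, 0, 0, 0, 0], ![0, 0, 0, 0, 0, 0], ![0, 0, 0, 0, 0, 0], ![0, 0, 0, 0, 0, 0]⟩,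
  ⟨!![-3, 0, -2, 1, 3, 0; 1, -2, -3, -1, -3, 0; 0, 0, -3, -2, 1, 0; 0, 0, 0, -3, -2, 0; 0, 0, 0, 0, -3, 0; 0, 0, 0, 0, 0, 0], ![4, 3, 6, 2, 3, 1], ![0, 0, 0, 0, 0, 1], ![0, 0, 0, 0, 0, 0], ![0, 0, 0, 0, 0, 0]⟩,
  ⟨!![-2, 1, -1, 2, 1, 0; 0, -1, 0, 0, -3, 0; 0, -3, 3, 1, -3, 0; 0, 0, 3, 2, 3, 0; 0, 3, 0, 0, -1, 0; 0, -2, -2, -1, -1, -2], ![0, 0, 0, 0, 0, 0], ![0, 0, 0, 0, 0, 0], ![0, 0, 0, 0, 0, 0], ![0, 0, 0, 0, 0, 0]⟩,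
  ⟨!![-2, -3, 2, 0, -1, 3; 0, -1, 0, 0, -3, 0; -2, -1, 3, 0, 2, 1; -3, 2, 2, 0, 3, -3; 0, 3, 0, 0, -1, 0; 0, 0, 0, 0, 0, 0], ![5, 0, 4, 2, 0, 1], ![0, 0, 0, 0, 0, 1], ![0, 0, 0, 0, 0, 0], ![0, 0, 0, 0, 0, 0]⟩,
  ⟨!![0, 3, 3, -2, -2, 2; 1, 2, -3, -1, 0, 0; 1, 1, 1, -3, -3, 3; -1, 1, 3, -2, 2, -2; -2, -3, -1, 2, 0, 0; -1, -3, 3, 1, -3, -3], ![0, 0, 0, 0, 0, 0], ![0, 0, 0, 0, 0, 0], ![0, 0, 0, 0, 0, 0], ![0, 0, 0, 0, 0, 0]⟩,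
  ⟨!![-1, -2, 3, 0, 0, 0; 3, -3, 1, 3, 0, 0; -2, 3, -3, 1, 0, 0; 0, 0, 0, -3, 0, 0; 0, 0, 0, 0, 0, 0; 0, 0, 0, 0, 0, 0], ![6, 2, 0, 0, 1, 0], ![0, 0, 0, 0, 1, 0], ![0, 4, 6, 3, 0, 1], ![0, 0, 0, 0, 0, 1]⟩,
  ⟨!![-2, 2, -3, -3, 2, 0; 0, 1, 0, 0, 0, 0; 0, 0, 1, 0, 0, 0; 0, 0, 0, 1, 0, 0; 0, 0, 0, 0, 1, 0; 0, 2, 2, -3, -3, -2], ![0, 0, 0, 0, 0, 0], ![0, 0, 0, 0, 0, 0], ![0, 0, 0, 0, 0, 0], ![0, 0, 0, 0, 0, 0]⟩,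
  ⟨!![3, -3, 1, 1, -3, 0; 0, 1, 0, 0, 0, 0; 3, -3, 2, 1, -3, 0; 0, 0, 0, 1, 0, 0; 0, 0, 0, 0, 1, 0; -2, -3, -1, 1, -1, -2], ![0, 0, 0, 0, 0, 0], ![0, 0, 0, 0, 0, 0], ![0, 0, 0, 0, 0, 0], ![0, 0, 0, 0, 0, 0]⟩,
  ⟨!![-3, 2, -2, -3, 1, 0; 0, 1, 0, 0, 0, 0; -3, 2, -1, -3, 1, 0; 0, 0, 0, 1, 0, 0; 2, 3, 1, -1, 2, 0; 0, 0, 0, 0, 0, 0], ![6, 0, 6, 0, 5, 1], ![0, 0, 0, 0, 0, 1], ![0, 0, 0, 0, 0, 0], ![0, 0, 0, 0, 0, 0]⟩,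
  ⟨!![-2, 2, 2, 2, 2, 2; 0, -2, 2, 2, 2, 0; 0, 0, -2, 2, 0, 0; 0, 0, -2, 3, 0, 0; 0, -2, 0, -2, 3, 0; -2, 0, -2, -2, -2, 3], ![0, 0, 0, 0, 0, 0], ![0, 0, 0, 0, 0, 0], ![0, 0, 0, 0, 0, 0], ![0, 0, 0, 0, 0, 0]⟩]

/-- The exponent of the fixed torus times the inverse matrix. -/
def inv7 : Matrix (Fin 6) (Fin 6) ℤ := !![10, 0, -5, 1, 4, -2; -3, 6, 0, 0, 3, 0; 2, -3, 5, -1, 5, 2; -3, -3, -3, 9, 3, 3; 1, -3, -5, 1, 13, -2; 2, 0, -1, -4, 5, 8]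

/-- Elements of order three in the fixed torus. -/
def three7 : KerCert :=
  ⟨!![2, 2, 2, 1, 2, 0; 0, 2, 2, 2, 2, 0; 2, 0, 1, 1, 2, 0; 0, 0, 0, 2, 0, 0; 1, 1, 2, 0, 1, 0; 0, 0, 0, 0, 0, 0], ![1, 0, 1, 1, 1, 1], ![0, 0, 0, 0, 0, 1], ![0, 0, 0, 0, 0, 0], ![0, 0, 0, 0, 0, 0]⟩

/-- The checks of a list of certificates. -/
def checkAll (p : ℕ) (cs : List KerCert) : Bool :=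
  Nat.beq cs.length classesE6.reps.length &&
    (List.zip classesE6.reps cs).all fun x => x.2.check p x.1

theorem certs19_ok : checkAll 19 certs19 = true := by decide +kernel
theorem certs17_ok : checkAll 17 certs17 = true := by decide +kernel
theorem certs13_ok : checkAll 13 certs13 = true := by decide +kernel
theorem certs11_ok : checkAll 11 certs11 = true := by decide +kernel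
theorem certs7_ok : checkAll 7 certs7 = true := by decide +kernel

theorem inv19_ok : inv19 * (Amat (classesE6.reps.getD 19 []))ᵀ = ((57 : ℕ) : ℤ) • 1 := by
  decide +kernel
theorem inv17_ok : inv17 * (Amat (classesE6.reps.getD 13 []))ᵀ = ((51 : ℕ) : ℤ) • 1 := by
  decide +kernel
theorem inv13_ok : inv13 * (Amat (classesE6.reps.getD 1 []))ᵀ = ((39 : ℕ) : ℤ) • 1 := by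
  decide +kernel
theorem inv11_ok : inv11 * (Amat (classesE6.reps.getD 14 []))ᵀ = ((33 : ℕ) : ℤ) • 1 := by
  decide +kernel
theorem inv7_ok : inv7 * (Amat (classesE6.reps.getD 20 []))ᵀ = ((21 : ℕ) : ℤ) • 1 := by
  decide +kernel
theorem cyc17_ok : cyc17.check 0 (classesE6.reps.getD 13 []) = true := by decide +kernel
theorem cyc13_ok : cyc13.check 0 (classesE6.reps.getD 1 []) = true := by decide +kernel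
theorem three19_ok : three19.check 3 (classesE6.reps.getD 19 []) = true := by decide +kernel
theorem three7_ok : three7.check 3 (classesE6.reps.getD 20 []) = true := by decide +kernel

theorem checkAll_spec {p : ℕ} {cs : List KerCert} (h : checkAll p cs = true) {i : ℕ}
    (hi : i < classesE6.reps.length) :
    ∃ hj : i < cs.length, cs[i].check p (classesE6.reps.getD i []) = true := by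
  simp only [checkAll, Bool.and_eq_true, Nat.beq_eq, List.all_eq_true] at h
  refine ⟨h.1 ▸ hi, ?_⟩
  have := h.2 (classesE6.reps[i], cs[i]'(h.1 ▸ hi)) (by
    rw [List.mem_iff_getElem]
    exact ⟨i, by simp [h.1, hi], by simp⟩)
  rwa [List.getD_eq_getElem _ _ hi]

end Cfsg.Agent.Fus.TwE6Two
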