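import Cfsg.Agent.Lib.Fus.TwE6Two.ElevenFrame

/-! The normalisers of the subgroups of order 11. -/

set_option autoImplicit false
set_option maxRecDepth 20000

namespace Cfsg.Agent.Fus.TwE6Two

open Cfsg.Lie Cfsg.Agent.Lie.Chev Matrix
open scoped commutatorElement

/-- The roots of the component for 11. -/
def T11 : List (List ℕ) :=
  [[0, 46, 61, 50, 47], [25, 0, 58, 43, 39], [10, 13, 0, 15, 14], [21, 28, 56, 0, 29],
    [24, 32, 57, 42, 0]]

theorem T11_ok : compCheck R11 5 1 true T11 = true := by decide +kernel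
theorem T11_orb : (orbitRoots R11 5 1 T11).all (fun s => decide (s < 72) &&
    E6Sub.nilAt 35 s && E6Sub.nilAt 36 s) = true := by decide +kernel
theorem T11_moved : ev e11 (tabR T11 (0 : Fin 5) 1) % 11 ≠ 0 := by decide +kernel

variable {K : Type*} [Field K] [Fintype K] (hK : Fintype.card K = 4)
include hK

theorem normalizer_not_coatom_eleven {P : Subgroup ↥(twistedE6 K 2)} (hP : Nat.card P = 11) :
    ¬ IsCoatom (Subgroup.normalizer (P : Set ↥(twistedE6 K 2))) := by
  classical
  haveI := charP_K hK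
  haveI : Fact (Nat.Prime 11) := ⟨by norm_num⟩
  let ι : K →+* AlgebraicClosure K := algebraMap K (AlgebraicClosure K)
  haveI : CharP (AlgebraicClosure K) 2 := charP_of_injective_ringHom ι.injective 2
  haveI : Finite P := Nat.finite_of_card_ne_zero (by rw [hP]; norm_num)
  obtain ⟨x₀, hx₀⟩ := exists_prime_orderOf_dvd_card' (G := P) 11 (by rw [hP])
  obtain ⟨x, hx⟩ : ∃ x : ↥(twistedE6 K 2), x = x₀ := ⟨_, rfl⟩
  have hxo : orderOf x = 11 := by rw [hx, Subgroup.orderOf_coe, hx₀]
  have hxP : x ∈ P := hx ▸ x₀.2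
  have hgen : ∀ y ∈ P, y ∈ Subgroup.zpowers x := fun y hy => by
    rw [Subgroup.eq_of_le_of_card_ge (Subgroup.zpowers_le.2 hxP)
      (by rw [Nat.card_zpowers, hxo, hP])]
    exact hy
  obtain ⟨g, hF, z, η, hη, hz, hC⟩ := exists_frame_eleven hK ι hxo
  obtain ⟨C, hCdef⟩ : ∃ C : Subgroup ↥(twistedE6 K 2),
      C = Subgroup.centralizer (P : Set ↥(twistedE6 K 2)) := ⟨_, rfl⟩
  have hmemC : ∀ c : ↥(twistedE6 K 2), Commute c x → c ∈ C := fun c hc => by
    rw [hCdef, Subgroup.mem_centralizer_iff]
    intro y hy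
    obtain ⟨n, rfl⟩ := Subgroup.mem_zpowers_iff.1 (hgen y hy)
    exact (hc.zpow_right n).eq.symm
  obtain ⟨φ, hφ⟩ : ∃ φ : ↥(twistedE6 K 2) →* GL chevE6.Idx (AlgebraicClosure K),
      ∀ y, φ y = g * emb ι (y : GL chevE6.Idx K) * g⁻¹ :=
    ⟨(MulAut.conj g).toMonoidHom.comp ((emb ι).comp (twistedE6 K 2).subtype), fun y => rfl⟩
  have hφinj : Function.Injective φ := fun a b h => by
    rw [hφ, hφ, mul_left_inj, mul_right_inj] at h
    exact Subtype.ext (emb_injective ι h)
  have hD : ∀ d ∈ ⁅C, C⁆, φ d ∈ XS (AlgebraicClosure K) inA := by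
    have hCX : ∀ c ∈ C, φ c ∈ chevE6.diagonalSubgroup (AlgebraicClosure K) ⊔
        XS (AlgebraicClosure K) inA := fun c hc => by
      rw [hCdef, Subgroup.mem_centralizer_iff] at hc
      refine centralizer_e11 hη hC
        (hφ c ▸ mul_mem (mul_mem hF.mem (emb_fixed hK ι c.2).1) (inv_mem hF.mem)) ?_
      rw [← hz, ← hφ x, ← map_mul, ← map_mul, hc x hxP]
    have hle : ⁅C, C⁆ ≤ (XS (AlgebraicClosure K) inA).comap φ := by
      rw [Subgroup.commutator_le]
      intro a ha b hb
      rw [Subgroup.mem_comap, map_commutatorElement]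
      exact commutator_mem_XS (hCX a ha) (hCX b hb)
    exact fun d hd => hle hd
  -- two fixed root elements of the centraliser
  have hroot : ∀ s, inA s = true → ∃ r ∈ C, φ r = certFullE6.xg s (1 : AlgebraicClosure K) := by
    intro s hs
    have hs72 : s < 72 := by rcases inA_cases hs with rfl | rfl <;> norm_num
    have hM : Mmap R11 s = s := by
      rcases inA_cases hs with rfl | rfl
      exacts [fix11.2.1, fix11.1]
    have ha := certFullE6.xg_mem_group (F := AlgebraicClosure K) (show s < chevE6.nroots from hs72) 1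
    have hta : tau R11 (certFullE6.xg s (1 : AlgebraicClosure K)) = certFullE6.xg s 1 := by
      rw [tau_xg R11_lt hs72, hM, one_pow]
    have hsq : certFullE6.xg s (1 : AlgebraicClosure K) * certFullE6.xg s 1 = 1 := by
      rw [← certFullE6.xg_add, CharTwo.add_self_eq_zero, certFullE6.xg_zero]
    obtain ⟨y, hy, hye⟩ := descend hK ι (mul_mem (mul_mem (inv_mem hF.mem) ha) hF.mem)
      (hF.fixed_of_tau ha hta) (m := 2)
      (by rw [pow_two, show g⁻¹ * certFullE6.xg s (1 : AlgebraicClosure K) * g *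
        (g⁻¹ * certFullE6.xg s 1 * g) = g⁻¹ * (certFullE6.xg s 1 * certFullE6.xg s 1) * g by group,
        hsq, mul_one, inv_mul_cancel]) (by norm_num)
    have hr : φ ⟨y, hy⟩ = certFullE6.xg s (1 : AlgebraicClosure K) := by
      rw [hφ]
      show g * emb ι y * g⁻¹ = _
      rw [hye]; group
    refine ⟨⟨y, hy⟩, hmemC _ (hφinj ?_), hr⟩
    have h3 := certFullE6.torus_conj_xg z (show s < chevE6.nroots from hs72) (1 : AlgebraicClosure K)
    rw [(tchar_inA hη hC hs72).2 hs, Units.val_one, one_mul, mul_inv_eq_iff_eq_mul] at h3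
    rw [map_mul, map_mul, hr, hφ x, hz]
    exact h3.symm
  have hDne : ⁅C, C⁆ ≠ ⊥ := by
    intro h
    obtain ⟨a, haC, ha⟩ := hroot 36 rfl
    obtain ⟨b, hbC, hb⟩ := hroot 35 rfl
    have h1 := Subgroup.commutator_mem_commutator haC hbC
    rw [h, Subgroup.mem_bot, commutatorElement_eq_one_iff_mul_comm] at h1
    have hcomm : certFullE6.xg 36 (1 : AlgebraicClosure K) * certFullE6.xg 35 1 =
        certFullE6.xg 35 1 * certFullE6.xg 36 1 := by rw [← ha, ← hb, ← map_mul, ← map_mul, h1]
    -- the reflection would then exchange two equal elements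
    have h36 : (36 : ℕ) < chevE6.nroots := by show 36 < 72; norm_num
    have h5 : ∀ p ∈ [5], p < chevE6.rank := by simp [show chevE6.rank = 6 from rfl]
    have hw : certFullE6.wl [5] 36 = 35 := by
      rw [← certFullE6.wlT_eq]; decide +kernel
    have hconj := nw_conj_xg (Ω := AlgebraicClosure K) h5 h36 (1 : AlgebraicClosure K)
    have hn : certFullE6.nw (AlgebraicClosure K) [5] = certFullE6.xg 36 1 * certFullE6.xg 35 1 *
        certFullE6.xg 36 1 := by
      have hneg : chevE6.neg 36 = 35 := by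
        rw [certFullE6.neg_eq h36]; exact fix11.2.2.2
      have hsimple : chevE6.simple 5 = 36 := by rw [← si_eq (by norm_num)]; exact fix11.2.2.1
      simp [Cert.nw, Cert.np, Cert.ng, hsimple, hneg, CharTwo.neg_eq]
    have hb' : certFullE6.nw (AlgebraicClosure K) [5] = certFullE6.xg 35 1 := by
      rw [hn, hcomm, mul_assoc, ← certFullE6.xg_add, CharTwo.add_self_eq_zero, certFullE6.xg_zero,
        mul_one]
    rw [hb', hw, ← hcomm, mul_inv_cancel_right] at hconj
    have hU : certFullE6.xg 36 (1 : AlgebraicClosure K) ∈ chevE6.posUnipotent (AlgebraicClosure K) :=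
      certFullE6.xg_mem_U ⟨le_rfl, h36⟩ 1
    have hV : certFullE6.xg 35 (1 : AlgebraicClosure K) ∈ chevE6.negUnipotent (AlgebraicClosure K) :=
      certFullE6.xg_mem_V (by show 35 < 72; norm_num) (fun h => by
        have h2 : 36 ≤ 35 := h.1
        omega) 1
    rw [← hconj] at hV
    have hH := certFullE6.borel_inf_negUnipotent.2.le (Subgroup.mem_inf.2
      ⟨Subgroup.mem_sup_left hU, Subgroup.mem_sup_left hV⟩)
    have h1' := certFullE6.U_inf_H.le (Subgroup.mem_inf.2 ⟨hU, hH⟩)
    rw [Subgroup.mem_bot, ← certFullE6.xg_zero (F := AlgebraicClosure K) 36] at h1'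
    exact one_ne_zero (certFullE6.xg_inj h36 h1')
  -- the outside involution
  have hPH : ∀ y ∈ P, g * emb ι (y : GL chevE6.Idx K) * g⁻¹ ∈
      chevE6.diagonalSubgroup (AlgebraicClosure K) := fun y hy => by
    obtain ⟨n, rfl⟩ := Subgroup.mem_zpowers_iff.1 (hgen y hy)
    rw [← hφ, map_zpow, hφ, hz]
    exact zpow_mem (certFullE6.torus_mem _) n
  have hlt : tabR T11 (0 : Fin 5) 1 < 72 := by decide +kernel
  obtain ⟨r, hrN, hr⟩ := exists_outside ι hK hF (p := 11) hPH (n := 5) (k := 1) (fl := true)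
    (T := T11) (by norm_num) (by norm_num) (fun _ => by decide) T11_ok (E := 10) (by norm_num)
    (by norm_num) (by norm_num) hxP (by rw [← hxo]; exact pow_orderOf_eq_one _) hz
    (i := (0 : Fin 5)) (j := 1) (by decide) (fun h => by
      rw [tchar_e11 hC hlt, ← _root_.zpow_zero η] at h
      have := dvd_of_zpow_eq hη h
      rw [sub_zero] at this
      exact T11_moved (Int.emod_eq_zero_of_dvd this))
  have hrD : r ∈ Subgroup.centralizer ((⁅C, C⁆ : Subgroup ↥(twistedE6 K 2)) :
      Set ↥(twistedE6 K 2)) := by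
    rw [Subgroup.mem_centralizer_iff]
    intro d hd
    refine hφinj ?_
    rw [map_mul, map_mul]
    have := hr (φ d) fun t ht v => by
      have h1 := List.all_eq_true.1 T11_orb t ht
      simp only [Bool.and_eq_true, decide_eq_true_eq] at h1
      have h2 := hD d hd
      revert h2
      generalize φ d = u
      intro h2
      induction h2 using Subgroup.closure_induction with
      | mem y hy =>
        obtain ⟨s, hs, hin, w, rfl⟩ := hy
        rcases inA_cases hin with rfl | rfl
        · exact E6Sub.nilAt_commute hs h1.1.1 h1.1.2 w v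
        · exact E6Sub.nilAt_commute hs h1.1.1 h1.2 w v
      | one => exact Commute.one_left _
      | mul a b _ _ iha ihb => exact iha.mul_left ihb
      | inv a _ iha => exact iha.inv_left
    rw [← hφ r] at this
    exact this.eq.symm
  have hN : Subgroup.normalizer (P : Set ↥(twistedE6 K 2)) ≤
      Subgroup.normalizer ((⁅C, C⁆ : Subgroup ↥(twistedE6 K 2)) : Set ↥(twistedE6 K 2)) := by
    intro h hh
    have key : ∀ k ∈ Subgroup.normalizer (P : Set ↥(twistedE6 K 2)), ∀ c ∈ C,
        k * c * k⁻¹ ∈ C := by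
      intro k hk c hc
      rw [hCdef, Subgroup.mem_centralizer_iff] at hc ⊢
      intro y hy
      have hy' := hc _ ((Subgroup.mem_normalizer_iff.1 (inv_mem hk) y).1 hy)
      rw [inv_inv] at hy'
      calc y * (k * c * k⁻¹) = k * ((k⁻¹ * y * k) * c) * k⁻¹ := by group
        _ = k * (c * (k⁻¹ * y * k)) * k⁻¹ := by rw [hy']
        _ = _ := by group
    have hCmap : C.map (MulAut.conj h).toMonoidHom = C := by
      refine le_antisymm ?_ fun c hc => ?_
      · rintro _ ⟨c, hc, rfl⟩; exact key h hh c hc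
      · exact ⟨h⁻¹ * c * h, by simpa using key h⁻¹ (inv_mem hh) c hc, by simp [mul_assoc]⟩
    have hDmap : (⁅C, C⁆ : Subgroup ↥(twistedE6 K 2)).map (MulAut.conj h).toMonoidHom = ⁅C, C⁆ := by
      rw [Subgroup.map_commutator, hCmap]
    rw [Subgroup.mem_normalizer_iff]
    intro d
    constructor
    · intro hd
      rw [← hDmap]
      exact ⟨d, hd, rfl⟩
    · intro hd
      rw [← hDmap] at hd
      obtain ⟨d', hd', e⟩ := hd
      have : d' = d := (MulAut.conj h).injective e
      exact this ▸ hd'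
  obtain ⟨hs, hnc⟩ := E6.simple (frobenius K 2) (q := 2) (fun t => frobenius_def 2 t)
    (by rw [hK]; norm_num)
  haveI := hs
  exact not_coatom_of_normalized hnc hDne hN hrD hrN

end Cfsg.Agent.Fus.TwE6Two
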