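import Cfsg.Agent.Lib.Fus.TwE6Two.Levi
import Cfsg.Agent.Lib.Fus.LangSteinberg
import Cfsg.Agent.Lib.Lie.Chev.SLTwo

/-! The frame of an element of order 11: its centraliser is the torus times a group `SL₂`, and the
twisting word is made exact inside it. -/

set_option autoImplicit false
set_option maxRecDepth 20000

namespace Cfsg.Agent.Fus.TwE6Two

open Cfsg.Lie Cfsg.Agent.Lie.Chev Matrix
open scoped MatrixGroups

/-- The word for 11. -/
def R11 : List ℕ := classesE6.reps.getD 14 []
/-- The exponents for 11. -/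
def e11 : Fin 6 → ℤ := ![10, 3, 2, 4, 1, 0]
/-- The two roots killed. -/
def inA (s : ℕ) : Bool := Nat.beq s 35 || Nat.beq s 36

theorem R11_lt : ∀ p ∈ R11, p < chevE6.rank := lt_six (by decide +kernel)
theorem eig11 : eigCheck 11 R11 e11 = true := by decide +kernel
theorem one11 : oneVec certs11 e11 = true := by decide +kernel
theorem ker11 : ((List.range 72).all fun s => if ev e11 s % 11 == 0 then inA s else !inA s) =
    true := by decide +kernel
theorem stab11 : ((stabList [e11] 11).all fun t =>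
    t == (List.range 6).map si || t == (List.range 6).map fun i =>
      certFullE6.T.wlT [5] (si i)) = true := by decide +kernel
theorem fix11 : Mmap R11 36 = 36 ∧ Mmap R11 35 = 35 ∧ si 5 = 36 ∧ certFullE6.T.neg 36 = 35 := by
  decide +kernel

theorem inA_cases {s : ℕ} (h : inA s = true) : s = 35 ∨ s = 36 := by
  simpa [inA] using h

theorem inA_symm : ∀ s < 72, inA s = true → inA (71 - s) = true := fun s _ h => by
  rcases inA_cases h with rfl | rfl <;> rfl

variable {Ω : Type*} [Field Ω] [CharP Ω 2]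

theorem tchar_e11 {z : ℕ → Ωˣ} {η : Ωˣ} (hC : Chi z = expv η e11) {s : ℕ} (hs : s < 72) :
    certFullE6.tchar z s = η ^ ev e11 s := by
  rw [tchar_ev (η₁ := η) (η₂ := 1) (v₁ := e11) (v₂ := e11) z (by rw [hC]; simp [expv_one]) hs,
    _root_.one_zpow, mul_one]

theorem tchar_inA {z : ℕ → Ωˣ} {η : Ωˣ} (hη : orderOf η = 11) (hC : Chi z = expv η e11) {s : ℕ}
    (hs : s < 72) : certFullE6.tchar z s = 1 ↔ inA s = true := by
  have h := List.all_eq_true.1 ker11 s (List.mem_range.2 hs)
  rw [tchar_e11 hC hs]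
  constructor
  · intro he
    rw [← _root_.zpow_zero η] at he
    have hd := dvd_of_zpow_eq hη he
    rw [sub_zero] at hd
    rwa [if_pos (by rw [beq_iff_eq]; exact Int.emod_eq_zero_of_dvd hd)] at h
  · intro hin
    by_cases hd : ev e11 s % 11 = 0
    · obtain ⟨c, hc⟩ := Int.dvd_of_emod_eq_zero hd
      rw [hc, show (11 : ℤ) = ((11 : ℕ) : ℤ) from rfl, _root_.zpow_mul, zpow_natCast, ← hη,
        pow_orderOf_eq_one, _root_.one_zpow]
    · rw [if_neg (by rw [beq_iff_eq]; exact hd), hin] at h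
      exact Bool.noConfusion h

/-- The centraliser of an element of order 11 of the torus. -/
theorem centralizer_e11 {z : ℕ → Ωˣ} {η : Ωˣ} (hη : orderOf η = 11) (hC : Chi z = expv η e11)
    {c : GL chevE6.Idx Ω} (hc : c ∈ chevE6.group Ω)
    (hcomm : c * certFullE6.torus z = certFullE6.torus z * c) :
    c ∈ chevE6.diagonalSubgroup Ω ⊔ XS Ω inA := by
  refine commute_mem (Z := {z}) le_sup_left (fun s hs h1 t => ?_) (fun L hL hfix => ?_) hc
    fun w hw => by rw [Set.mem_singleton_iff] at hw; subst hw; exact hcomm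
  · exact Subgroup.mem_sup_right (XS_xg hs ((tchar_inA hη hC hs).1 (h1 z rfl)) t)
  · have hmem := mem_stabList (vs := [e11]) (m := 11) hL fun v hv i hi => by
      rw [List.mem_singleton] at hv
      subst hv
      have h := hfix z rfl _ (si_lt hi)
      rw [tchar_e11 hC (certFullE6.wl_lt hL (si_lt hi)), tchar_e11 hC (si_lt hi)] at h
      exact dvd_of_zpow_eq hη h
    have h := List.all_eq_true.1 stab11 _ hmem
    simp only [Bool.or_eq_true, beq_iff_eq] at h
    rcases h with h | h
    · exact Subgroup.mem_sup_left (nw_mem_H_of_simple hL h)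
    · have h5 : ∀ p ∈ [5], p < chevE6.rank := by simp [show chevE6.rank = 6 from rfl]
      refine nw_mem_of_same le_sup_left hL h5 (fun i hi => ?_) ?_
      · have e := List.map_inj_left.1 h i (List.mem_range.2 hi)
        rw [certFullE6.wlT_eq] at e
        exact e.symm
      · have := nw_refl_mem (Ω := Ω) inA_symm (L := []) (by simp) (p := 5) (by norm_num)
          (by show inA (si 5) = true; rw [fix11.2.2.1]; rfl)
        simpa using this

theorem tau_XS {u : GL chevE6.Idx Ω} (hu : u ∈ XS Ω inA) : u ∈ chevE6.group Ω := by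
  refine (Subgroup.closure_le _).2 ?_ hu
  rintro _ ⟨s, hs, -, t, rfl⟩
  exact certFullE6.xg_mem_group hs t

/-- The twisting element is made exact inside the centraliser. -/
theorem exists_frame_eleven [IsAlgClosed Ω] {K : Type*} [Field K] [Fintype K]
    (hK : Fintype.card K = 4) (ι : K →+* Ω) {x : ↥(twistedE6 K 2)} (hx : orderOf x = 11) :
    ∃ g : GL chevE6.Idx Ω, Frame R11 g ∧ ∃ (z : ℕ → Ωˣ) (η : Ωˣ), orderOf η = 11 ∧
      g * emb ι (x : GL chevE6.Idx K) * g⁻¹ = certFullE6.torus z ∧ Chi z = expv η e11 := by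
  haveI : Fact (Nat.Prime 11) := ⟨by norm_num⟩
  haveI : Fact (Nat.Prime 2) := ⟨Nat.prime_two⟩
  have hP : IsPGroup 11 (Subgroup.zpowers x) := IsPGroup.of_card (n := 1)
    (by rw [Nat.card_zpowers, hx, pow_one])
  have hexp : ∀ y ∈ Subgroup.zpowers x, y ^ 11 = 1 := fun y hy => by
    obtain ⟨k, rfl⟩ := Subgroup.mem_zpowers_iff.1 hy
    rw [← zpow_natCast, ← _root_.zpow_mul, mul_comm, _root_.zpow_mul, zpow_natCast, ← hx,
      pow_orderOf_eq_one, _root_.one_zpow]
  have hx1 : x ≠ 1 := fun h => by rw [h, orderOf_one] at hx; norm_num at hx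
  obtain ⟨g, hg, z, η, hη, hz, hC⟩ := exists_one hK ι (e := 10) (by norm_num) (by norm_num)
    (by norm_num) (by norm_num) certs11_ok one11 hP hexp (Subgroup.mem_zpowers x) hx1
  have hrel : Rel R11 z := rel_expv eig11 (hη ▸ pow_orderOf_eq_one η) hC
  obtain ⟨n, hn⟩ : ∃ n, n = certFullE6.nw Ω (word0 R11) := ⟨_, rfl⟩
  obtain ⟨u, hu⟩ : ∃ u, u = n⁻¹ * ((sig Ω).act g * g⁻¹) := ⟨_, rfl⟩
  have hnm : n ∈ chevE6.group Ω := hn ▸ certFullE6.N_le_group (certFullE6.nw_mem_N (word0_lt R11_lt))
  have hum : u ∈ chevE6.diagonalSubgroup Ω ⊔ XS Ω inA := by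
    refine centralizer_e11 hη hC (hu ▸ mul_mem (inv_mem hnm) (mul_mem (act_mem hg) (inv_mem hg))) ?_
    have hT : certFullE6.torus z ∈ chevE6.group Ω :=
      certFullE6.B_le_group (certFullE6.H_le_B (certFullE6.torus_mem z))
    have hback : g⁻¹ * certFullE6.torus z * g = emb ι (x : GL chevE6.Idx K) := by rw [← hz]; group
    have h1 := (emb_fixed hK ι x.2).2
    rw [← hback, (sig Ω).act_mul (mul_mem (inv_mem hg) hT) hg, (sig Ω).act_mul (inv_mem hg) hT,
      (sig Ω).act_inv hg, (sig Ω).act_torus, ← nw_conj_of_rel R11_lt hrel, ← hn] at h1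
    rw [hu]
    calc n⁻¹ * ((sig Ω).act g * g⁻¹) * certFullE6.torus z
        = n⁻¹ * (sig Ω).act g * (g⁻¹ * certFullE6.torus z * g) * g⁻¹ := by group
      _ = _ := by rw [← h1]; group
  obtain ⟨a, ha, v, hv, huv⟩ := mem_sup_XS hum
  rw [certFullE6.diagonalSubgroup_eq] at ha
  obtain ⟨y, rfl⟩ := ha
  -- the torus of the group `SL₂`
  have h36 : (36 : ℕ) < 72 := by norm_num
  have hneg : chevE6.neg 36 = 35 := by
    rw [certFullE6.neg_eq (show 36 < chevE6.nroots from h36)]; exact fix11.2.2.2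
  have hsimple : chevE6.simple 5 = 36 := by rw [← si_eq (by norm_num)]; exact fix11.2.2.1
  obtain ⟨s, hs⟩ := units_root (Ω := Ω) (d := 2) (by norm_num) (certFullE6.tchar y 36)⁻¹
  obtain ⟨t5, ht5⟩ : ∃ t5 : ℕ → Ωˣ, t5 = Pi.mulSingle 5 s := ⟨_, rfl⟩
  have hp5 : (5 : ℕ) < chevE6.rank := by show 5 < 6; norm_num
  have ht5eq : certFullE6.hg (chevE6.simple 5) (s : Ω) = certFullE6.torus t5 := by
    rw [certFullE6.hg_eq (certFullE6.simple_lt hp5), Cert.torus_apply, ht5]
    refine dg_ext chevE6 Ω fun u _ => ?_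
    rw [CertFull.pairChar, certFullE6.pairing_simple hp5, Cert.tchar,
      Finset.prod_eq_single_of_mem 5 (Finset.mem_range.2 hp5) fun i _ hi => by
        rw [Pi.mulSingle_eq_of_ne hi, _root_.one_zpow], Pi.mulSingle_eq_same]
  have ht5mem : certFullE6.torus t5 ∈ XS Ω inA := by
    rw [← ht5eq, hsimple, Cert.hg, Cert.ng, Cert.ng, hneg]
    have h1 : ∀ t : Ω, certFullE6.xg 36 t ∈ XS Ω inA := fun t => XS_xg h36 rfl t
    have h2 : ∀ t : Ω, certFullE6.xg 35 t ∈ XS Ω inA := fun t => XS_xg (by norm_num) rfl t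
    exact mul_mem (mul_mem (mul_mem (h1 _) (h2 _)) (h1 _)) (mul_mem (mul_mem (h1 _) (h2 _)) (h1 _))
  have hy36 : certFullE6.tchar (y * t5) 36 = 1 := by
    have hmulc : certFullE6.tchar (y * t5) 36 =
        certFullE6.tchar y 36 * certFullE6.tchar t5 36 := by
      simp [Cert.tchar, mul_zpow, Finset.prod_mul_distrib]
    have h5 : certFullE6.tchar t5 36 = s ^ 2 := by
      have h1 : (certFullE6.T.cartan 5 36 : ℤ) = ((2 : ℕ) : ℤ) := by decide +kernel
      rw [Cert.tchar, Finset.prod_eq_single_of_mem 5 (Finset.mem_range.2 hp5) fun i _ hi => by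
        rw [ht5, Pi.mulSingle_eq_of_ne hi, _root_.one_zpow], ht5, Pi.mulSingle_eq_same, h1,
        zpow_natCast]
    rw [hmulc, h5, hs, mul_inv_cancel]
  have hy35 : certFullE6.tchar (y * t5) 35 = 1 := by
    rw [← hneg, certFullE6.tchar_neg _ (show 36 < chevE6.nroots from h36), hy36, inv_one]
  obtain ⟨A, hA⟩ : ∃ A, A = certFullE6.torus (y * t5) := ⟨_, rfl⟩
  have hAc : ∀ w ∈ XS Ω inA, Commute A w := by
    intro w hw
    induction hw using Subgroup.closure_induction with
    | mem w hw =>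
      obtain ⟨r, hr, hin, t, rfl⟩ := hw
      have h2 : certFullE6.tchar (y * t5) r = 1 := by
        rcases inA_cases hin with rfl | rfl
        exacts [hy35, hy36]
      have h3 := certFullE6.torus_conj_xg (y * t5) (show r < chevE6.nroots from hr) t
      rw [h2, Units.val_one, one_mul, mul_inv_eq_iff_eq_mul] at h3
      rw [hA]
      exact h3
    | one => exact Commute.one_right _
    | mul a b _ _ iha ihb => exact iha.mul_right ihb
    | inv a _ iha => exact iha.inv_right
  obtain ⟨φ, hφr, hφ⟩ := certFullE6.exists_sl_root (F := Ω) (show 36 < chevE6.nroots from h36)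
  have hup : ∀ t : Ω, φ (Matrix.SpecialLinearGroup.transvection (show (0 : Fin 2) ≠ 1 by decide) t) =
      certFullE6.xg 36 t := fun t => (hφ _ t).1 (by
    ext i j; fin_cases i <;> fin_cases j <;> simp [Matrix.SpecialLinearGroup.transvection_coe])
  have hlo : ∀ t : Ω, φ (Matrix.SpecialLinearGroup.transvection (show (1 : Fin 2) ≠ 0 by decide) t) =
      certFullE6.xg 35 t := fun t => by
    rw [(hφ _ t).2 (by
      ext i j; fin_cases i <;> fin_cases j <;> simp [Matrix.SpecialLinearGroup.transvection_coe]),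
      hneg]
  have hrange : XS Ω inA ≤ φ.range := by
    refine (Subgroup.closure_le _).2 ?_
    rintro _ ⟨r, -, hin, t, rfl⟩
    rcases inA_cases hin with rfl | rfl
    exacts [⟨_, hlo t⟩, ⟨_, hup t⟩]
  have hφXS : ∀ B, φ B ∈ XS Ω inA := by
    intro B
    have hB : B ∈ (⊤ : Subgroup SL(2, Ω)) := Subgroup.mem_top B
    rw [← Cfsg.Agent.Classical.SL_closure_transvections] at hB
    induction hB using Subgroup.closure_induction with
    | mem B hB =>
      obtain ⟨⟨i, j, hij, t⟩, rfl⟩ := hB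
      have e : Matrix.TransvectionStruct.toSpecialLinearGroup ⟨i, j, hij, t⟩ =
          Matrix.SpecialLinearGroup.transvection hij t := Subtype.ext rfl
      rw [e]
      fin_cases i <;> fin_cases j
      · exact absurd rfl hij
      · rw [hup]; exact XS_xg h36 rfl t
      · rw [hlo]; exact XS_xg (by norm_num) rfl t
      · exact absurd rfl hij
    | one => rw [map_one]; exact one_mem _
    | mul a b _ _ iha ihb => rw [map_mul]; exact mul_mem iha ihb
    | inv a _ iha => rw [map_inv]; exact inv_mem iha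
  obtain ⟨V, hV⟩ := hrange (mul_mem (inv_mem ht5mem) hv)
  -- the Frobenius map on `SL₂`
  obtain ⟨f, hf⟩ : ∃ f : Ω →+* Ω, f = iterateFrobenius Ω 2 1 := ⟨_, rfl⟩
  have hmap : ∀ B : SL(2, Ω), tau R11 (φ B) = φ (Matrix.SpecialLinearGroup.map f B) := by
    intro B
    have hB : B ∈ (⊤ : Subgroup SL(2, Ω)) := Subgroup.mem_top B
    rw [← Cfsg.Agent.Classical.SL_closure_transvections] at hB
    induction hB using Subgroup.closure_induction with
    | mem B hB =>
      obtain ⟨⟨i, j, hij, t⟩, rfl⟩ := hB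
      have e : Matrix.TransvectionStruct.toSpecialLinearGroup ⟨i, j, hij, t⟩ =
          Matrix.SpecialLinearGroup.transvection hij t := Subtype.ext rfl
      have e' : Matrix.SpecialLinearGroup.map f (Matrix.SpecialLinearGroup.transvection hij t) =
          Matrix.SpecialLinearGroup.transvection hij (f t) := by
        refine Subtype.ext (Matrix.ext fun a b => ?_)
        simp [Matrix.SpecialLinearGroup.transvection_coe, Matrix.one_apply, Matrix.single_apply,
          apply_ite f]
      rw [e, e']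
      have hft : f t = t ^ 2 := by rw [hf, iterateFrobenius_def, pow_one]
      fin_cases i <;> fin_cases j
      · exact absurd rfl hij
      · rw [hup, hup, tau_xg R11_lt h36, fix11.1, hft]
      · rw [hlo, hlo, tau_xg R11_lt (by norm_num), fix11.2.1, hft]
      · exact absurd rfl hij
    | one => rw [map_one, map_one, map_one, tau_one]
    | mul a b _ _ iha ihb =>
      rw [map_mul, map_mul, map_mul, tau_mul R11_lt (tau_XS (hφXS a)) (tau_XS (hφXS b)), iha, ihb]
    | inv a _ iha =>
      have h := tau_mul (R := R11) R11_lt (tau_XS (hφXS a)) (tau_XS (hφXS a⁻¹))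
      rw [← map_mul, mul_inv_cancel, map_one, tau_one, iha] at h
      rw [eq_inv_of_mul_eq_one_right h.symm, map_inv, map_inv]
  obtain ⟨X, hX⟩ := LangSteinberg.exists_eq_mul_map_inv (K := Ω) 2 1 le_rfl 2
    (Matrix.SpecialLinearGroup.toGL V⁻¹)
  have hdet : Matrix.det (X : Matrix (Fin 2) (Fin 2) Ω) = 1 := by
    have h := congrArg (fun M : GL (Fin 2) Ω => Matrix.det (M : Matrix (Fin 2) (Fin 2) Ω))
      (eq_mul_inv_iff_mul_eq.1 hX)
    simp only [Units.val_mul, Matrix.det_mul] at h
    have e1 : Matrix.det ((Matrix.SpecialLinearGroup.toGL V⁻¹ : GL (Fin 2) Ω) :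
        Matrix (Fin 2) (Fin 2) Ω) = 1 := (V⁻¹).2
    rw [e1, one_mul] at h
    have e2 : Matrix.det ((Matrix.GeneralLinearGroup.map (iterateFrobenius Ω 2 1) X : GL (Fin 2) Ω) :
        Matrix (Fin 2) (Fin 2) Ω) = Matrix.det (X : Matrix (Fin 2) (Fin 2) Ω) ^ 2 := by
      rw [show ((Matrix.GeneralLinearGroup.map (iterateFrobenius Ω 2 1) X : GL (Fin 2) Ω) :
        Matrix (Fin 2) (Fin 2) Ω) = (iterateFrobenius Ω 2 1).mapMatrix X from rfl,
        ← RingHom.map_det, iterateFrobenius_def, pow_one]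
    rw [e2, pow_two] at h
    exact mul_left_cancel₀ (Matrix.GeneralLinearGroup.det_ne_zero X) (h.trans (mul_one _).symm)
  obtain ⟨B, hB⟩ : ∃ B : SL(2, Ω),
      Matrix.SpecialLinearGroup.map f B * V * B⁻¹ = 1 := by
    obtain ⟨X', hX'⟩ : ∃ X' : SL(2, Ω), X' = ⟨X, hdet⟩ := ⟨_, rfl⟩
    have h : V⁻¹ * Matrix.SpecialLinearGroup.map f X' = X' := by
      refine Subtype.ext ?_
      have h := congrArg Units.val (eq_mul_inv_iff_mul_eq.1 hX)
      rw [Matrix.SpecialLinearGroup.coe_mul, hX', hf]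
      exact h
    refine ⟨X'⁻¹, ?_⟩
    rw [map_inv, inv_inv]
    calc (Matrix.SpecialLinearGroup.map f X')⁻¹ * V * X'
        = (Matrix.SpecialLinearGroup.map f X')⁻¹ * V *
          (V⁻¹ * Matrix.SpecialLinearGroup.map f X') := by rw [h]
      _ = 1 := by group
  have hbG : φ B ∈ chevE6.group Ω := tau_XS (hφXS B)
  obtain ⟨g', hg'⟩ : ∃ g', g' = φ B * g := ⟨_, rfl⟩
  have hg'm : g' ∈ chevE6.group Ω := hg' ▸ mul_mem hbG hg
  have hk : n⁻¹ * ((sig Ω).act g' * g'⁻¹) = A := by
    have h1 : (sig Ω).act (φ B) = n * φ (Matrix.SpecialLinearGroup.map f B) * n⁻¹ := by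
      rw [← hmap, tau, ← hn]; group
    rw [hg', (sig Ω).act_mul hbG hg, h1, _root_.mul_inv_rev]
    calc n⁻¹ * (n * φ (Matrix.SpecialLinearGroup.map f B) * n⁻¹ * (sig Ω).act g *
          (g⁻¹ * (φ B)⁻¹))
        = φ (Matrix.SpecialLinearGroup.map f B) * u * (φ B)⁻¹ := by rw [hu]; group
      _ = φ (Matrix.SpecialLinearGroup.map f B) * (A * φ V) * (φ B)⁻¹ := by
          rw [huv, hV, hA, map_mul]; group
      _ = A * φ (Matrix.SpecialLinearGroup.map f B * V * B⁻¹) := by
          rw [map_mul, map_mul, map_inv, ← mul_assoc, ← (hAc _ (hφXS _)).eq]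
          simp only [mul_assoc]
      _ = A := by rw [hB, map_one, mul_one]
  obtain ⟨t, hF⟩ := normalise R11_lt (d := 33) (by norm_num) inv11_ok hg'm
    (by rw [← hn, hk, hA]; exact certFullE6.torus_mem _)
  refine ⟨_, hF, z, η, hη, ?_, hC⟩
  have hcz : Commute (φ B) (certFullE6.torus z) := by
    have h := hφXS B
    revert h
    generalize φ B = w
    intro h
    induction h using Subgroup.closure_induction with
    | mem w hw =>
      obtain ⟨r, hr, hin, c, rfl⟩ := hw
      have h3 := certFullE6.torus_conj_xg z (show r < chevE6.nroots from hr) c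
      rw [(tchar_inA hη hC hr).2 hin, Units.val_one, one_mul, mul_inv_eq_iff_eq_mul] at h3
      exact h3.symm
    | one => exact Commute.one_left _
    | mul a b _ _ iha ihb => exact iha.mul_left ihb
    | inv a _ iha => exact iha.inv_left
  rw [hg', _root_.mul_inv_rev, _root_.mul_inv_rev]
  calc certFullE6.torus t * (φ B * g) * emb ι (x : GL chevE6.Idx K) *
        (g⁻¹ * (φ B)⁻¹ * (certFullE6.torus t)⁻¹)
      = certFullE6.torus t * (φ B * (g * emb ι (x : GL chevE6.Idx K) * g⁻¹) * (φ B)⁻¹) *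
          (certFullE6.torus t)⁻¹ := by group
    _ = certFullE6.torus z := by
      rw [hz, hcz.eq, mul_inv_cancel_right, ← map_mul, mul_comm, map_mul, mul_inv_cancel_right]

end Cfsg.Agent.Fus.TwE6Two
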