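import Cfsg.Agent.Lib.Fus.TwE6Two.Frame
import Cfsg.Agent.Lib.Lie.Chev.E6SubfieldConj
import Cfsg.Agent.Lib.Lie.SteinbergSL
import Cfsg.Agent.Lib.Classical.SLNormal

/-! Homomorphisms of `SL_n` over a finite field into E₆ in characteristic two, given by a table of
roots of a subsystem of type `A_{n-1}`. -/

set_option autoImplicit false
set_option maxRecDepth 20000

namespace Cfsg.Agent.Fus.TwE6Two

open Cfsg.Lie Cfsg.Agent.Lie.Chev Matrix
open scoped MatrixGroups

/-- The root at a position. -/
def tabR (T : List (List ℕ)) {n : ℕ} (i j : Fin n) : ℕ := (T.getD i []).getD j 0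

/-- The commutator of the roots `a`, `b` is the root `v`. -/
def oneTerm (a b v : ℕ) : Bool :=
  !(Nat.beq b a) && !(Nat.beq b (71 - a)) &&
  match certFullE6.T.commTerms a b with
    | [(w, C, i, j)] => Nat.beq w v && (intBeq C 1 || intBeq C (-1)) && Nat.beq i 1 && Nat.beq j 1
    | _ => false

/-- The table is one of a subsystem of type `A_{n-1}`. -/
def tabCheck (n : ℕ) (T : List (List ℕ)) : Bool :=
  (List.finRange n).all fun i => (List.finRange n).all fun j => i == j ||
    (decide (tabR T i j < 72) && Nat.beq (tabR T j i) (71 - tabR T i j) &&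
    ((List.finRange n).all fun k => (List.finRange n).all fun l => k == l || j == k || i == l ||
      (Nat.beq (tabR T k l) (tabR T i j) || E6Sub.nilAt (tabR T i j) (tabR T k l))) &&
    (List.finRange n).all fun k => k == i || k == j ||
      oneTerm (tabR T i j) (tabR T j k) (tabR T i k))

section Facts

variable {n : ℕ} {T : List (List ℕ)} (hT : tabCheck n T = true)
include hT

theorem tab_spec {i j : Fin n} (h : i ≠ j) :
    tabR T i j < 72 ∧ tabR T j i = 71 - tabR T i j ∧
    (∀ k l : Fin n, k ≠ l → j ≠ k → i ≠ l → tabR T k l = tabR T i j ∨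
      E6Sub.nilAt (tabR T i j) (tabR T k l) = true) ∧
    ∀ k : Fin n, k ≠ i → k ≠ j → oneTerm (tabR T i j) (tabR T j k) (tabR T i k) = true := by
  have h1 := List.all_eq_true.1 (List.all_eq_true.1 hT i (List.mem_finRange i)) j
    (List.mem_finRange j)
  simp only [Bool.or_eq_true, Bool.and_eq_true, decide_eq_true_eq, beq_iff_eq, Nat.beq_eq] at h1
  obtain ⟨⟨⟨a, b⟩, c⟩, d⟩ := h1.resolve_left h
  refine ⟨a, b, fun k l hkl hjk hil => ?_, fun k hki hkj => ?_⟩
  · have := List.all_eq_true.1 (List.all_eq_true.1 c k (List.mem_finRange k)) l (List.mem_finRange l)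
    simp only [Bool.or_eq_true, beq_iff_eq, Nat.beq_eq] at this
    rcases this with ((e | e) | e) | e
    exacts [absurd e hkl, absurd e hjk, absurd e hil, e]
  · have := List.all_eq_true.1 d k (List.mem_finRange k)
    simp only [Bool.or_eq_true, beq_iff_eq] at this
    exact (this.resolve_left (not_or_intro hki hkj))

theorem tabR_lt {i j : Fin n} (h : i ≠ j) : tabR T i j < 72 := (tab_spec hT h).1

theorem tabR_neg {i j : Fin n} (h : i ≠ j) : tabR T j i = chevE6.neg (tabR T i j) := by
  rw [(tab_spec hT h).2.1, certFullE6.neg_eq (show tabR T i j < chevE6.nroots from tabR_lt hT h)]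
  rfl

variable {Ω : Type*} [Field Ω] [CharP Ω 2]

omit [CharP Ω 2] in
theorem tab_commute {i j k l : Fin n} (hij : i ≠ j) (hkl : k ≠ l) (hjk : j ≠ k) (hil : i ≠ l)
    (t u : Ω) : Commute (certFullE6.xg (tabR T i j) t) (certFullE6.xg (tabR T k l) u) := by
  rcases (tab_spec hT hij).2.2.1 k l hkl hjk hil with e | e
  · rw [e]
    exact (certFullE6.xg_add _ t u).symm.trans ((congrArg _ (add_comm t u)).trans
      (certFullE6.xg_add _ u t))
  · exact E6Sub.nilAt_commute (tabR_lt hT hij) (tabR_lt hT hkl) e t u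

theorem tab_rel {i j k : Fin n} (hij : i ≠ j) (hjk : j ≠ k) (hik : i ≠ k) (t u : Ω) :
    certFullE6.xg (tabR T i j) t * certFullE6.xg (tabR T j k) u =
      certFullE6.xg (tabR T i k) (t * u) * certFullE6.xg (tabR T j k) u *
        certFullE6.xg (tabR T i j) t := by
  have h := (tab_spec hT hij).2.2.2 k hik.symm hjk.symm
  simp only [oneTerm, Bool.and_eq_true, Bool.not_eq_true', Nat.beq_eq] at h
  obtain ⟨⟨h1, h2⟩, h3⟩ := h
  obtain ⟨e, he, h4⟩ := E6Sub.one_term (K := Ω) (tabR_lt hT hij) (tabR_lt hT hjk)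
    (fun e => by rw [Lie.Chev.beq_of_eq e] at h1; exact Bool.noConfusion h1)
    (fun e => by rw [Lie.Chev.beq_of_eq e] at h2; exact Bool.noConfusion h2) h3
  have he' : (e : Ω) = 1 := eq_one_of_sq (by rw [← Int.cast_mul, he, Int.cast_one])
  have h5 := h4 t u
  rw [he', one_mul, mul_inv_eq_iff_eq_mul] at h5
  rw [h5, (tab_commute hT hik hjk hjk.symm hik (t * u) u).eq]

/-- The torus characters are additive on the table. -/
theorem tab_tchar (z : ℕ → Ωˣ) {i j k : Fin n} (hij : i ≠ j) (hjk : j ≠ k) (hik : i ≠ k) :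
    certFullE6.tchar z (tabR T i k) =
      certFullE6.tchar z (tabR T i j) * certFullE6.tchar z (tabR T j k) := by
  have hl : ∀ {a b : Fin n}, a ≠ b → tabR T a b < chevE6.nroots := fun h => tabR_lt hT h
  have h := congrArg (fun y => certFullE6.torus z * y * (certFullE6.torus z)⁻¹)
    (tab_rel hT hij hjk hik (1 : Ω) 1)
  simp only [mul_one] at h
  rw [← MulAut.conj_apply, ← MulAut.conj_apply, map_mul, map_mul, map_mul, MulAut.conj_apply,
    MulAut.conj_apply, MulAut.conj_apply, certFullE6.torus_conj_xg z (hl hij),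
    certFullE6.torus_conj_xg z (hl hjk), certFullE6.torus_conj_xg z (hl hik), mul_one, mul_one,
    mul_one, tab_rel hT hij hjk hik] at h
  exact Units.ext (certFullE6.xg_inj (hl hik) (mul_right_cancel (mul_right_cancel h))).symm

end Facts

variable {Ω : Type*} [Field Ω] [CharP Ω 2]

/-- The homomorphism from a table. -/
theorem exists_slHom {n : ℕ} (hn : 3 ≤ n) {T : List (List ℕ)} (hT : tabCheck n T = true)
    {L : Type*} [Field L] [Finite L] (ι : L →+* Ω) :
    ∃ ψ : SL(n, L) →* GL chevE6.Idx Ω,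
      (∀ (i j : Fin n) (h : i ≠ j) (t : L),
        ψ (Matrix.SpecialLinearGroup.transvection h t) = certFullE6.xg (tabR T i j) (ι t)) ∧
      ∀ A, ψ A ∈ Subgroup.closure {y | ∃ (i j : Fin n) (t : Ω), i ≠ j ∧
        y = certFullE6.xg (tabR T i j) t} := by
  classical
  set S : Set (SL(n, L) × GL chevE6.Idx Ω) := {p | ∃ (i j : Fin n) (h : i ≠ j) (t : L),
    p = (Matrix.SpecialLinearGroup.transvection h t, certFullE6.xg (tabR T i j) (ι t))} with hS
  set Γ := Subgroup.closure S with hΓ
  let X : Fin n → Fin n → L → ↥Γ := fun i j t => if h : i ≠ j then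
    ⟨_, Subgroup.subset_closure (show (Matrix.SpecialLinearGroup.transvection h t,
      certFullE6.xg (tabR T i j) (ι t)) ∈ S from ⟨i, j, h, t, rfl⟩)⟩ else 1
  have hX : ∀ {i j : Fin n} (h : i ≠ j) t, ((X i j t : ↥Γ) : SL(n, L) × GL chevE6.Idx Ω) =
      (Matrix.SpecialLinearGroup.transvection h t, certFullE6.xg (tabR T i j) (ι t)) :=
    fun h t => by simp only [X, dif_pos h]
  have htv : ∀ {i j : Fin n} (h : i ≠ j) (t : L),
      (Matrix.SpecialLinearGroup.transvection h t : Matrix (Fin n) (Fin n) L) =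
        Matrix.transvection i j t := fun h t => rfl
  let P : Lie.SLSteinberg.SLPre L n ↥Γ :=
    { X := X
      add := fun i j h t u => by
        refine Subtype.ext ?_
        rw [Subgroup.coe_mul, hX h, hX h, hX h, Prod.mk_mul_mk, ← certFullE6.xg_add, map_add]
        refine Prod.ext (Subtype.ext ?_) rfl
        rw [Matrix.SpecialLinearGroup.coe_mul, htv, htv, htv,
          Matrix.transvection_mul_transvection_same _ _ h]
      comm₀ := fun i j k l hij hkl hjk hil t u => by
        refine Subtype.ext ?_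
        rw [Subgroup.coe_mul, Subgroup.coe_mul, hX hij, hX hkl, Prod.mk_mul_mk, Prod.mk_mul_mk,
          (tab_commute hT hij hkl hjk hil (ι t) (ι u)).eq]
        refine Prod.ext (Subtype.ext ?_) rfl
        rw [Matrix.SpecialLinearGroup.coe_mul, Matrix.SpecialLinearGroup.coe_mul, htv, htv]
        exact (Lie.SLSteinberg.transvection_rels hij hkl hil t u).1 hjk
      comm₁ := fun i j k hij hjk hik t u => by
        refine Subtype.ext ?_
        rw [Subgroup.coe_mul, Subgroup.coe_mul, Subgroup.coe_mul, hX hij, hX hjk, hX hik,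
          Prod.mk_mul_mk, Prod.mk_mul_mk, Prod.mk_mul_mk]
        refine Prod.ext (Subtype.ext ?_) ?_
        · simp only [Matrix.SpecialLinearGroup.coe_mul, htv]
          exact (Lie.SLSteinberg.transvection_rels hij hjk hik t u).2 rfl
        · rw [map_mul]
          exact tab_rel hT hij hjk hik (ι t) (ι u) }
  let A : Lie.SLSteinberg.SLSt L n ↥Γ :=
    { toSLPre := P
      θ := (MonoidHom.fst _ _).comp Γ.subtype
      θX := fun i j h t => by
        show ((((X i j t : ↥Γ) : SL(n, L) × GL chevE6.Idx Ω)).1 : Matrix (Fin n) (Fin n) L) = _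
        rw [hX h]
        exact htv h t
      rel := P.rel_of_three hn }
  have hgen : Subgroup.closure {g | ∃ i j, i ≠ j ∧ ∃ u, g = A.X i j u} = ⊤ := by
    rw [eq_top_iff, ← Subgroup.closure_closure_coe_preimage (k := S)]
    refine Subgroup.closure_mono ?_
    rintro g ⟨i, j, h, t, e⟩
    exact ⟨i, j, h, t, Subtype.ext (e.trans (hX h t).symm)⟩
  let E := MulEquiv.ofBijective A.θ (Lie.SLSteinberg.bijective (by omega) A hgen)
  refine ⟨((MonoidHom.snd _ _).comp Γ.subtype).comp E.symm.toMonoidHom, fun i j h t => ?_,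
    fun M => ?_⟩
  · have e : E.symm (Matrix.SpecialLinearGroup.transvection h t) = X i j t := by
      rw [MulEquiv.symm_apply_eq]
      refine Eq.symm ?_
      show ((X i j t : ↥Γ) : SL(n, L) × GL chevE6.Idx Ω).1 = _
      rw [hX h]
    show ((E.symm (Matrix.SpecialLinearGroup.transvection h t) : ↥Γ) :
      SL(n, L) × GL chevE6.Idx Ω).2 = _
    rw [e, hX h]
  · have hle : Γ ≤ (Subgroup.closure {y | ∃ (i j : Fin n) (t : Ω), i ≠ j ∧
        y = certFullE6.xg (tabR T i j) t}).comap (MonoidHom.snd _ _) := by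
      refine (Subgroup.closure_le _).2 ?_
      rintro p ⟨i, j, h, t, rfl⟩
      exact Subgroup.subset_closure ⟨i, j, ι t, h, rfl⟩
    exact hle (E.symm M).2

/-- The kernel of such a homomorphism is central. -/
theorem ker_le_center {n : ℕ} (hn : 3 ≤ n) {T : List (List ℕ)} (hT : tabCheck n T = true)
    {L : Type*} [Field L] [Finite L] {ι : L →+* Ω} {ψ : SL(n, L) →* GL chevE6.Idx Ω}
    (hψ : ∀ (i j : Fin n) (h : i ≠ j) (t : L),
      ψ (Matrix.SpecialLinearGroup.transvection h t) = certFullE6.xg (tabR T i j) (ι t)) :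
    ψ.ker ≤ Subgroup.center SL(n, L) := by
  haveI : Nontrivial (Fin n) := Fin.nontrivial_iff_two_le.2 (by omega)
  have h3 : 3 ≤ Fintype.card (Fin n) := by rwa [Fintype.card_fin]
  haveI := Classical.PSL_simple_of_three_le (F := L) h3
  by_contra h
  have htop := Classical.SL_normal_eq_top (Classical.SL_commutator_eq_top_of_three_le h3) ψ.ker h
  obtain ⟨i, j, hij⟩ := exists_pair_ne (Fin n)
  have h1 : ψ (Matrix.SpecialLinearGroup.transvection hij (1 : L)) = 1 :=
    MonoidHom.mem_ker.1 (htop ▸ Subgroup.mem_top _)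
  rw [hψ, map_one, ← certFullE6.xg_zero (F := Ω) (tabR T i j)] at h1
  exact one_ne_zero (certFullE6.xg_inj (tabR_lt hT hij) h1)

end Cfsg.Agent.Fus.TwE6Two
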