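import Cfsg.Agent.Lib.Fus.TwE6Two.Fields
import Cfsg.Agent.Lib.Fus.TwE6Two.SLRoots

/-! Involutions of ²E₆(2) supported by an orbit of subsystems of type `A_{n-1}`: a fixed
transvection in each component. -/

set_option autoImplicit false
set_option maxRecDepth 20000

namespace Cfsg.Agent.Fus.TwE6Two

open Cfsg.Lie Cfsg.Agent.Lie.Chev Matrix
open scoped MatrixGroups

/-- The successor in a cyclic order. -/
def nx {n : ℕ} (i : Fin n) : Fin n := ⟨((i : ℕ) + 1) % n, Nat.mod_lt _ i.pos⟩

theorem nx_injective {n : ℕ} : Function.Injective (nx : Fin n → Fin n) := fun a b h => by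
  have h' := congrArg Fin.val h
  simp only [nx] at h'
  refine Fin.ext ?_
  have ha := a.2
  have hb := b.2
  rcases Nat.lt_or_ge ((a : ℕ) + 1) n with ha' | ha' <;>
    rcases Nat.lt_or_ge ((b : ℕ) + 1) n with hb' | hb'
  · rw [Nat.mod_eq_of_lt ha', Nat.mod_eq_of_lt hb'] at h'; omega
  · rw [Nat.mod_eq_of_lt ha', show (b : ℕ) + 1 = n by omega, Nat.mod_self] at h'; omega
  · rw [show (a : ℕ) + 1 = n by omega, Nat.mod_self, Nat.mod_eq_of_lt hb'] at h'; omega
  · omega

/-- The roots of the components. -/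
def orbitRoots (R : List ℕ) (n k : ℕ) (T : List (List ℕ)) : List ℕ :=
  (List.range k).flatMap fun m => (List.finRange n).flatMap fun i => (List.finRange n).filterMap
    fun j => if i = j then none else some ((Mmap R)^[m] (tabR T i j))

/-- The twisted Frobenius map permutes `k` commuting components of type `A_{n-1}`. -/
def compCheck (R : List ℕ) (n k : ℕ) (fl : Bool) (T : List (List ℕ)) : Bool :=
  tabCheck n T && ((List.finRange n).all fun i => (List.finRange n).all fun j => i == j ||
    Nat.beq ((Mmap R)^[k] (tabR T i j))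
      (if fl then tabR T (nx j) (nx i) else tabR T (nx i) (nx j))) &&
  (List.range k).all fun m => (List.range k).all fun m' => m == m' ||
    (List.finRange n).all fun i => (List.finRange n).all fun j => i == j ||
      (List.finRange n).all fun a => (List.finRange n).all fun b => a == b ||
        E6Sub.nilAt ((Mmap R)^[m] (tabR T i j)) ((Mmap R)^[m'] (tabR T a b))

theorem comp_spec {R : List ℕ} {n k : ℕ} {fl : Bool} {T : List (List ℕ)}
    (h : compCheck R n k fl T = true) :
    tabCheck n T = true ∧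
    (∀ i j : Fin n, i ≠ j → (Mmap R)^[k] (tabR T i j) =
      if fl then tabR T (nx j) (nx i) else tabR T (nx i) (nx j)) ∧
    ∀ m < k, ∀ m' < k, m ≠ m' → ∀ i j a b : Fin n, i ≠ j → a ≠ b →
      E6Sub.nilAt ((Mmap R)^[m] (tabR T i j)) ((Mmap R)^[m'] (tabR T a b)) = true := by
  simp only [compCheck, Bool.and_eq_true] at h
  obtain ⟨⟨h1, h2⟩, h3⟩ := h
  refine ⟨h1, fun i j hij => ?_, fun m hm m' hm' hne i j a b hij hab => ?_⟩
  · have := List.all_eq_true.1 (List.all_eq_true.1 h2 i (List.mem_finRange i)) j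
      (List.mem_finRange j)
    simp only [Bool.or_eq_true, beq_iff_eq, Nat.beq_eq] at this
    exact this.resolve_left hij
  · have h4 := List.all_eq_true.1 (List.all_eq_true.1 h3 m (List.mem_range.2 hm)) m'
      (List.mem_range.2 hm')
    simp only [Bool.or_eq_true, beq_iff_eq] at h4
    have h5 := List.all_eq_true.1 (List.all_eq_true.1 (h4.resolve_left hne) i (List.mem_finRange i))
      j (List.mem_finRange j)
    simp only [Bool.or_eq_true, beq_iff_eq] at h5
    have h6 := List.all_eq_true.1 (List.all_eq_true.1 (h5.resolve_left hij) a (List.mem_finRange a))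
      b (List.mem_finRange b)
    simp only [Bool.or_eq_true, beq_iff_eq] at h6
    exact h6.resolve_left hab

variable {Ω : Type*} [Field Ω] [CharP Ω 2]

/-- The twisted Frobenius map seen in a frame. -/
noncomputable def tau (R : List ℕ) (c : GL chevE6.Idx Ω) : GL chevE6.Idx Ω :=
  (certFullE6.nw Ω (word0 R))⁻¹ * (sig Ω).act c * certFullE6.nw Ω (word0 R)

section Tau

variable {R : List ℕ} (hR : ∀ p ∈ R, p < chevE6.rank)
include hR

theorem tau_mem {c : GL chevE6.Idx Ω} (hc : c ∈ chevE6.group Ω) : tau R c ∈ chevE6.group Ω := by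
  have hn : certFullE6.nw Ω (word0 R) ∈ chevE6.group Ω :=
    certFullE6.N_le_group (certFullE6.nw_mem_N (word0_lt hR))
  exact mul_mem (mul_mem (inv_mem hn) (act_mem hc)) hn

theorem tau_iter_mem {c : GL chevE6.Idx Ω} (hc : c ∈ chevE6.group Ω) (m : ℕ) :
    (tau R)^[m] c ∈ chevE6.group Ω := by
  induction m with
  | zero => exact hc
  | succ m ih => rw [Function.iterate_succ_apply']; exact tau_mem hR ih

theorem tau_mul {a b : GL chevE6.Idx Ω} (ha : a ∈ chevE6.group Ω) (hb : b ∈ chevE6.group Ω) :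
    tau R (a * b) = tau R a * tau R b := by
  rw [tau, tau, tau, (sig Ω).act_mul ha hb]; group

theorem tau_iter_mul {a b : GL chevE6.Idx Ω} (ha : a ∈ chevE6.group Ω) (hb : b ∈ chevE6.group Ω)
    (m : ℕ) : (tau R)^[m] (a * b) = (tau R)^[m] a * (tau R)^[m] b := by
  induction m with
  | zero => rfl
  | succ m ih =>
    rw [Function.iterate_succ_apply', ih, tau_mul hR (tau_iter_mem hR ha m)
      (tau_iter_mem hR hb m), ← Function.iterate_succ_apply' (tau R),
      ← Function.iterate_succ_apply' (tau R)]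

omit hR in
theorem tau_one : tau R (1 : GL chevE6.Idx Ω) = 1 := by
  rw [tau, (sig Ω).act_one, mul_one, inv_mul_cancel]

omit hR in
theorem tau_iter_one (m : ℕ) : (tau R)^[m] (1 : GL chevE6.Idx Ω) = 1 :=
  Function.iterate_fixed tau_one m

theorem tau_xg {s : ℕ} (hs : s < 72) (v : Ω) :
    tau R (certFullE6.xg s v) = certFullE6.xg (Mmap R s) (v ^ 2) := by
  rw [tau, act_xg hs, ← wl_word0 hR hs, ← nw_conj_xg (word0_lt hR) (Mmap_lt hR hs)]
  group

theorem Mmap_iter_lt {s : ℕ} (hs : s < 72) (m : ℕ) : (Mmap R)^[m] s < 72 := by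
  induction m with
  | zero => exact hs
  | succ m ih => rw [Function.iterate_succ_apply']; exact Mmap_lt hR ih

theorem tau_iter_xg {s : ℕ} (hs : s < 72) (v : Ω) (m : ℕ) :
    (tau R)^[m] (certFullE6.xg s v) = certFullE6.xg ((Mmap R)^[m] s) (v ^ 2 ^ m) := by
  induction m with
  | zero => simp
  | succ m ih =>
    rw [Function.iterate_succ_apply', ih, tau_xg hR (Mmap_iter_lt hR hs m),
      Function.iterate_succ_apply', ← pow_mul, pow_succ]

omit hR in
theorem Frame.fixed_of_tau {g : GL chevE6.Idx Ω} (hF : Frame R g) {a : GL chevE6.Idx Ω}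
    (ha : a ∈ chevE6.group Ω) (h : tau R a = a) :
    (sig Ω).act (g⁻¹ * a * g) = g⁻¹ * a * g := by
  refine (hF.fixed_iff (mul_mem (mul_mem (inv_mem hF.mem) ha) hF.mem)).2 ?_
  rw [show g * (g⁻¹ * a * g) * g⁻¹ = a by group]
  conv_rhs => rw [← h, tau]
  group

end Tau

/-- The permutation of the cyclic order. -/
noncomputable def nxE (n : ℕ) : Fin n ≃ Fin n :=
  Equiv.ofBijective nx (Finite.injective_iff_bijective.1 nx_injective)

theorem nxE_symm {n : ℕ} (c : Fin n) : (nxE n).symm (nx c) = c :=
  Equiv.ofBijective_symm_apply_apply _ _ c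

/-- The inverse transpose. -/
def invT (n : ℕ) (L : Type*) [Field L] : SL(n, L) →* SL(n, L) :=
  MonoidHom.mk' (fun A => ⟨(A⁻¹ : SL(n, L)).1ᵀ, by rw [Matrix.det_transpose]; exact (A⁻¹).2⟩)
    fun A B => Subtype.ext (by
      show ((A * B)⁻¹ : SL(n, L)).1ᵀ = (A⁻¹ : SL(n, L)).1ᵀ * (B⁻¹ : SL(n, L)).1ᵀ
      rw [_root_.mul_inv_rev, Matrix.SpecialLinearGroup.coe_mul, Matrix.transpose_mul])

/-- The renumbering. -/
noncomputable def reidx (n : ℕ) (L : Type*) [Field L] : SL(n, L) →* SL(n, L) :=
  MonoidHom.mk' (fun A => ⟨A.1.submatrix (nxE n).symm (nxE n).symm, by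
      rw [Matrix.det_submatrix_equiv_self]; exact A.2⟩)
    fun A B => Subtype.ext (by
      show (A.1 * B.1).submatrix _ _ = A.1.submatrix _ _ * B.1.submatrix _ _
      rw [Matrix.submatrix_mul_equiv])

/-- The twisted Frobenius map of `SL_n`. -/
noncomputable def twMap {n : ℕ} {L : Type*} [Field L] (f : L →+* L) (fl : Bool) :
    SL(n, L) →* SL(n, L) :=
  (reidx n L).comp (if fl then (invT n L).comp (Matrix.SpecialLinearGroup.map f)
    else Matrix.SpecialLinearGroup.map f)

theorem twMap_apply {n : ℕ} {L : Type*} [Field L] (f : L →+* L) (fl : Bool) (A : SL(n, L))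
    (a b : Fin n) :
    (twMap f fl A : Matrix (Fin n) (Fin n) L) (nx a) (nx b) =
      if fl then ((Matrix.SpecialLinearGroup.map f A)⁻¹ : SL(n, L)).1 b a
      else f ((A : Matrix (Fin n) (Fin n) L) a b) := by
  cases fl
  · show ((A : Matrix (Fin n) (Fin n) L).map f).submatrix _ _ _ _ = _
    rw [Matrix.submatrix_apply, nxE_symm, nxE_symm]
    rfl
  · show ((Matrix.SpecialLinearGroup.map f A)⁻¹ : SL(n, L)).1ᵀ.submatrix _ _ _ _ = _
    rw [Matrix.submatrix_apply, nxE_symm, nxE_symm]
    rfl

theorem conj_transvection {n : ℕ} {L : Type*} [Field L] {d : Fin n → L} (hd : ∀ i, d i ≠ 0)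
    {i j : Fin n} (h : i ≠ j) (t : L) (a c : Fin n) :
    d a * (Matrix.SpecialLinearGroup.transvection h t : Matrix (Fin n) (Fin n) L) a c / d c =
      (Matrix.SpecialLinearGroup.transvection h (d i / d j * t) : Matrix (Fin n) (Fin n) L) a c := by
  rw [Matrix.SpecialLinearGroup.transvection_coe, Matrix.SpecialLinearGroup.transvection_coe,
    Matrix.add_apply, Matrix.add_apply, Matrix.single_apply, Matrix.single_apply]
  by_cases h2 : i = a ∧ j = c
  · obtain ⟨rfl, rfl⟩ := h2
    rw [Matrix.one_apply_ne h, if_pos ⟨rfl, rfl⟩, if_pos ⟨rfl, rfl⟩]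
    ring
  rw [if_neg h2, if_neg h2, add_zero]
  by_cases h1 : a = c
  · subst h1; rw [Matrix.one_apply_eq, mul_one, div_self (hd a)]
  · rw [Matrix.one_apply_ne h1, mul_zero, zero_div]

theorem nx_surj {n : ℕ} (a : Fin n) : ∃ c, nx c = a :=
  (Finite.injective_iff_surjective.1 nx_injective) a

/-- The fixed involution of an orbit of components. -/
theorem exists_elem [IsAlgClosed Ω] {R : List ℕ} (hR : ∀ p ∈ R, p < chevE6.rank) {n k : ℕ}
    {fl : Bool} {T : List (List ℕ)} (hk : 0 < k) (hn : 3 ≤ n) (hodd : fl = true → Odd n)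
    (hc : compCheck R n k fl T = true) {E p : ℕ}
    (hE : (if fl then 2 * (k * n) else k * n) ∣ E) (hE0 : 0 < E) (hp : p ∣ 2 ^ E - 1) :
    ∃ a ∈ chevE6.group Ω, a * a = 1 ∧ tau R a = a ∧
      a ∈ Subgroup.closure {y | ∃ r ∈ orbitRoots R n k T, ∃ t : Ω, y = certFullE6.xg r t} ∧
      ∀ z : ℕ → Ωˣ, certFullE6.torus z ^ p = 1 →
        a * certFullE6.torus z * a⁻¹ ∈ chevE6.diagonalSubgroup Ω →
        ∀ i j : Fin n, i ≠ j → certFullE6.tchar z (tabR T i j) = 1 := by
  classical
  obtain ⟨hT, htw, hcomm⟩ := comp_spec hc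
  obtain ⟨L, _, _, ι, hι⟩ := exists_finite (Ω := Ω) hE0
  obtain ⟨ψ, hψ, hψmem⟩ := exists_slHom (Ω := Ω) hn hT ι
  haveI : CharP L 2 := (RingHom.charP_iff_charP ι 2).2 inferInstance
  obtain ⟨u₀, φ₀, hu₀, hφ₀, hsum, hrec⟩ := exists_entries (Ω := Ω) fl hk hn hodd hE
  choose u hu using fun a => hι _ (hu₀ a).2
  choose φ hφ using fun a => hι _ (hφ₀ a).2
  have hdot : ∑ a, φ a * u a = 0 := ι.injective (by
    rw [map_sum, map_zero, ← hsum]
    exact Finset.sum_congr rfl fun a _ => by rw [map_mul, hu, hφ])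
  obtain ⟨M, hM⟩ : ∃ M : Matrix (Fin n) (Fin n) L, M = 1 + Matrix.vecMulVec u φ := ⟨_, rfl⟩
  have hM2 : M * M = 1 := by
    have e : Matrix.vecMulVec u φ * Matrix.vecMulVec u φ = 0 := by
      ext i j
      rw [Matrix.mul_apply]
      simp only [Matrix.vecMulVec_apply, Matrix.zero_apply]
      rw [show ∑ x, u i * φ x * (u x * φ j) = u i * φ j * ∑ x, φ x * u x by
        rw [Finset.mul_sum]; exact Finset.sum_congr rfl fun x _ => by ring, hdot, mul_zero]
    rw [hM, add_mul, one_mul, mul_add, mul_one, e, add_zero, add_assoc]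
    ext i j
    simp [CharTwo.add_self_eq_zero]
  have hdet : M.det = 1 := by
    have h := congrArg Matrix.det hM2
    rw [Matrix.det_mul, Matrix.det_one] at h
    exact (mul_self_eq_one_iff.1 h).elim id fun h => by rw [h, CharTwo.neg_eq]
  obtain ⟨B, hB⟩ : ∃ B : SL(n, L), (B : Matrix (Fin n) (Fin n) L) = M := ⟨⟨M, hdet⟩, rfl⟩
  have hB2 : B * B = 1 := Subtype.ext (by rw [Matrix.SpecialLinearGroup.coe_mul, hB, hM2]; rfl)
  have hBinv : B⁻¹ = B := inv_eq_of_mul_eq_one_right hB2
  have hBoff : ∀ a b : Fin n, a ≠ b → (B : Matrix (Fin n) (Fin n) L) a b ≠ 0 := fun a b h => by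
    rw [hB, hM, Matrix.add_apply, Matrix.one_apply_ne h, zero_add, Matrix.vecMulVec_apply]
    intro e
    have := congrArg ι e
    rw [map_mul, map_zero, hu, hφ] at this
    exact mul_ne_zero (hu₀ a).1 (hφ₀ b).1 this
  -- the twisted Frobenius map
  set f : L →+* L := iterateFrobenius L 2 k with hf
  have hψG : ∀ A, ψ A ∈ chevE6.group Ω := fun A => by
    refine (Subgroup.closure_le _).2 ?_ (hψmem A)
    rintro _ ⟨i, j, t, h, rfl⟩
    exact certFullE6.xg_mem_group (tabR_lt hT h) t
  let Φ : SL(n, L) →* GL chevE6.Idx Ω := MonoidHom.mk' (fun A => (tau R)^[k] (ψ A)) fun A B => by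
    rw [map_mul, tau_iter_mul hR (hψG A) (hψG B)]
  have heq : Φ = ψ.comp (twMap f fl) := by
    refine MonoidHom.eq_of_eqOn_dense Cfsg.Agent.Classical.SL_closure_transvections ?_
    rintro _ ⟨⟨i, j, hij, t⟩, rfl⟩
    have e : Matrix.TransvectionStruct.toSpecialLinearGroup ⟨i, j, hij, t⟩ =
        Matrix.SpecialLinearGroup.transvection hij t := Subtype.ext rfl
    have hmap : Matrix.SpecialLinearGroup.map f (Matrix.SpecialLinearGroup.transvection hij t) =
        Matrix.SpecialLinearGroup.transvection hij (f t) := by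
      refine Subtype.ext (Matrix.ext fun a b => ?_)
      simp [Matrix.SpecialLinearGroup.transvection_coe, Matrix.one_apply, Matrix.single_apply,
        apply_ite f]
    have hn' : ∀ {a b : Fin n}, a ≠ b → nx a ≠ nx b := fun h e => h (nx_injective e)
    have htwv : twMap f fl (Matrix.SpecialLinearGroup.transvection hij t) =
        if fl then Matrix.SpecialLinearGroup.transvection (hn' hij.symm) (f t)
        else Matrix.SpecialLinearGroup.transvection (hn' hij) (f t) := by
      refine Subtype.ext (Matrix.ext fun a b => ?_)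
      obtain ⟨a, rfl⟩ := nx_surj a
      obtain ⟨b, rfl⟩ := nx_surj b
      rw [twMap_apply, hmap, Matrix.SpecialLinearGroup.transvection_inv, CharTwo.neg_eq]
      cases fl <;>
        simp [Matrix.SpecialLinearGroup.transvection_coe, Matrix.one_apply, Matrix.single_apply,
          nx_injective.eq_iff, apply_ite f, and_comm, eq_comm]
    show (tau R)^[k] (ψ _) = ψ (twMap f fl _)
    rw [e, htwv, hψ, tau_iter_xg hR (tabR_lt hT hij), htw i j hij]
    cases fl <;> simp [hψ, hf, iterateFrobenius_def, map_pow]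
  have hfix : twMap f fl B = B := by
    refine Subtype.ext (Matrix.ext fun a b => ?_)
    obtain ⟨a, rfl⟩ := nx_surj a
    obtain ⟨b, rfl⟩ := nx_surj b
    rw [twMap_apply, ← map_inv, hBinv, hB, hM]
    refine ι.injective ?_
    have h := hrec a b (nx a) (nx b) rfl rfl
    cases fl
    · simp only [Bool.false_eq_true, if_false] at h ⊢
      rw [hf, iterateFrobenius_def, map_pow, Matrix.add_apply, Matrix.add_apply,
        Matrix.vecMulVec_apply, Matrix.vecMulVec_apply, map_add, map_add, map_mul, map_mul,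
        hu, hu, hφ, hφ, h]
      by_cases e : a = b
      · subst e; simp [Matrix.one_apply, add_pow_char_pow]
      · simp [Matrix.one_apply, e, nx_injective.eq_iff]
    · simp only [if_true] at h ⊢
      rw [Matrix.SpecialLinearGroup.map_apply_coe, RingHom.mapMatrix_apply, Matrix.map_apply, hB, hM, hf,
        iterateFrobenius_def, map_pow, Matrix.add_apply, Matrix.add_apply,
        Matrix.vecMulVec_apply, Matrix.vecMulVec_apply, map_add, map_add, map_mul, map_mul,
        hu, hu, hφ, hφ, h]
      by_cases e : a = b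
      · subst e; simp [Matrix.one_apply, add_pow_char_pow]
      · simp [Matrix.one_apply, e, Ne.symm e, nx_injective.eq_iff]
  obtain ⟨b, hb⟩ : ∃ b, b = ψ B := ⟨_, rfl⟩
  have hbG : b ∈ chevE6.group Ω := hb ▸ hψG B
  have hbk : (tau R)^[k] b = b := by
    have := DFunLike.congr_fun heq B
    rw [MonoidHom.comp_apply, hfix] at this
    rw [hb]; exact this
  have hb2 : b * b = 1 := by rw [hb, ← map_mul, hB2, map_one]
  -- the components
  obtain ⟨C, hC⟩ : ∃ C : ℕ → Subgroup (GL chevE6.Idx Ω), C = fun m => Subgroup.closure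
      {y | ∃ (i j : Fin n) (t : Ω), i ≠ j ∧
        y = certFullE6.xg ((Mmap R)^[m] (tabR T i j)) t} := ⟨_, rfl⟩
  have hCb : ∀ m, (tau R)^[m] b ∈ C m := by
    intro m
    have h1 : ∀ y ∈ Subgroup.closure {y | ∃ (i j : Fin n) (t : Ω), i ≠ j ∧
        y = certFullE6.xg (tabR T i j) t}, y ∈ chevE6.group Ω ∧ (tau R)^[m] y ∈ C m := by
      intro y hy
      induction hy using Subgroup.closure_induction with
      | mem y hy =>
        obtain ⟨i, j, t, hij, rfl⟩ := hy
        refine ⟨certFullE6.xg_mem_group (tabR_lt hT hij) t, ?_⟩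
        rw [tau_iter_xg hR (tabR_lt hT hij), hC]
        exact Subgroup.subset_closure ⟨i, j, _, hij, rfl⟩
      | one => exact ⟨one_mem _, by rw [tau_iter_one]; exact one_mem _⟩
      | mul a c _ _ iha ihc =>
        exact ⟨mul_mem iha.1 ihc.1, by rw [tau_iter_mul hR iha.1 ihc.1]; exact mul_mem iha.2 ihc.2⟩
      | inv a _ iha =>
        refine ⟨inv_mem iha.1, ?_⟩
        have h := tau_iter_mul hR iha.1 (inv_mem iha.1) m
        rw [mul_inv_cancel, tau_iter_one] at h
        rw [eq_inv_of_mul_eq_one_right h.symm]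
        exact inv_mem iha.2
    exact (h1 b (hb ▸ hψmem B)).2
  have hCC : ∀ m < k, ∀ m' < k, m ≠ m' → ∀ x ∈ C m, ∀ y ∈ C m', Commute x y := by
    intro m hm m' hm' hne x hx y hy
    rw [hC] at hx hy
    induction hx using Subgroup.closure_induction with
    | one => exact Commute.one_left _
    | mul a c _ _ iha ihc => exact iha.mul_left ihc
    | inv a _ iha => exact iha.inv_left
    | mem x hx =>
      obtain ⟨i, j, t, hij, rfl⟩ := hx
      induction hy using Subgroup.closure_induction with
      | one => exact Commute.one_right _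
      | mul a c _ _ iha ihc => exact iha.mul_right ihc
      | inv a _ iha => exact iha.inv_right
      | mem y hy =>
        obtain ⟨i', j', t', hij', rfl⟩ := hy
        exact E6Sub.nilAt_commute (Mmap_iter_lt hR (tabR_lt hT hij) m)
          (Mmap_iter_lt hR (tabR_lt hT hij') m') (hcomm m hm m' hm' hne i j i' j' hij hij') t t'
  obtain ⟨k', rfl⟩ : ∃ k', k = k' + 1 := ⟨k - 1, by omega⟩
  obtain ⟨rest, hrest⟩ : ∃ rest, rest =
      ((List.range k').map fun m => (tau R)^[m + 1] b).prod := ⟨_, rfl⟩
  have hrestG : rest ∈ chevE6.group Ω := hrest ▸ list_prod_mem fun x hx => by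
    obtain ⟨m, -, rfl⟩ := List.mem_map.1 hx
    exact tau_iter_mem hR hbG _
  have hrestC : ∀ y ∈ C 0, Commute rest y := fun y hy => by
    rw [hrest]
    refine Commute.list_prod_left _ _ fun x hx => ?_
    obtain ⟨m, hm, rfl⟩ := List.mem_map.1 hx
    exact hCC _ (by rw [List.mem_range] at hm; omega) 0 hk (by omega) _ (hCb (m + 1)) y hy
  have hbC : b ∈ C 0 := hCb 0
  have hcbr : Commute rest b := hrestC b hbC
  have htau : tau R (b * rest) = b * rest := by
    have h1 : ∀ j, tau R ((List.range j).map fun m => (tau R)^[m] b).prod =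
        ((List.range j).map fun m => (tau R)^[m + 1] b).prod ∧
        ((List.range j).map fun m => (tau R)^[m] b).prod ∈ chevE6.group Ω := by
      intro j
      induction j with
      | zero => exact ⟨by simp [tau_one], by simp [one_mem]⟩
      | succ j ih =>
        simp only [List.range_succ, List.map_append, List.map_cons, List.map_nil, List.prod_append,
          List.prod_cons, List.prod_nil, mul_one]
        refine ⟨?_, mul_mem ih.2 (tau_iter_mem hR hbG j)⟩
        rw [tau_mul hR ih.2 (tau_iter_mem hR hbG j), ih.1, ← Function.iterate_succ_apply' (tau R)]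
    have h2 : ((List.range (k' + 1)).map fun m => (tau R)^[m] b).prod = b * rest := by
      rw [List.range_succ_eq_map, List.map_cons, List.prod_cons, List.map_map, hrest]
      rfl
    have h3 := (h1 (k' + 1)).1
    rw [h2, List.range_succ, List.map_append, List.prod_append, ← hrest, List.map_cons,
      List.map_nil, List.prod_cons, List.prod_nil, mul_one, hbk, hcbr.eq] at h3
    exact h3
  have hr2 : rest * rest = 1 := by
    have h1 : ∀ j ≤ k', ((List.range j).map fun m => (tau R)^[m + 1] b).prod *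
        ((List.range j).map fun m => (tau R)^[m + 1] b).prod = 1 := by
      intro j hj
      induction j with
      | zero => simp
      | succ j ih =>
        simp only [List.range_succ, List.map_append, List.map_cons, List.map_nil, List.prod_append,
          List.prod_cons, List.prod_nil, mul_one]
        set P := ((List.range j).map fun m => (tau R)^[m + 1] b).prod with hP
        have hc' : Commute P ((tau R)^[j + 1] b) := by
          rw [hP]
          refine Commute.list_prod_left _ _ fun x hx => ?_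
          obtain ⟨m, hm, rfl⟩ := List.mem_map.1 hx
          rw [List.mem_range] at hm
          exact hCC (m + 1) (by omega) (j + 1) (by omega) (by omega) _ (hCb _) _ (hCb _)
        rw [hc'.symm.mul_mul_mul_comm, ih (by omega), ← tau_iter_mul hR hbG hbG, hb2, tau_iter_one,
          one_mul]
    rw [hrest]; exact h1 k' le_rfl
  have ha2 : b * rest * (b * rest) = 1 := by rw [hcbr.mul_mul_mul_comm, hb2, hr2, one_mul]
  refine ⟨b * rest, mul_mem hbG hrestG, ha2, htau, ?_, fun z hz hnorm => ?_⟩
  · have hle : ∀ m < k' + 1, C m ≤ Subgroup.closure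
        {y | ∃ r ∈ orbitRoots R n (k' + 1) T, ∃ t : Ω, y = certFullE6.xg r t} := fun m hm => by
      rw [hC, Subgroup.closure_le]
      rintro _ ⟨i, j, t, hij, rfl⟩
      refine Subgroup.subset_closure ⟨_, ?_, t, rfl⟩
      simp only [orbitRoots, List.mem_flatMap, List.mem_range, List.mem_filterMap]
      exact ⟨m, hm, i, List.mem_finRange i, j, List.mem_finRange j, by rw [if_neg hij]⟩
    refine mul_mem (hle 0 (by omega) hbC) (hrest ▸ list_prod_mem fun x hx => ?_)
    obtain ⟨m, hm, rfl⟩ := List.mem_map.1 hx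
    rw [List.mem_range] at hm
    exact hle (m + 1) (by omega) (hCb _)
  -- an element normalising the torus
  obtain ⟨a, ha⟩ : ∃ a, a = b * rest := ⟨_, rfl⟩
  rw [← ha] at hnorm ha2
  have hainv : a⁻¹ = a := inv_eq_of_mul_eq_one_right ha2
  rw [certFullE6.diagonalSubgroup_eq] at hnorm
  obtain ⟨z', hz'⟩ := hnorm
  have hz'p : certFullE6.torus z' ^ p = 1 := by rw [hz', conj_pow, hz, mul_one, mul_inv_cancel]
  have hchar : ∀ {y : ℕ → Ωˣ}, certFullE6.torus y ^ p = 1 → ∀ s < 72,
      ∃ x : L, ι x = (certFullE6.tchar y s : Ω) := fun {y} hy s hs => by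
    refine hι _ ?_
    have h1 : certFullE6.tchar y s ^ p = 1 := by
      rw [← certFullE6.tchar_pow]
      rw [← map_pow, ← map_one certFullE6.torus, Cert.torus_apply, Cert.torus_apply] at hy
      rw [(dg_eq_iff chevE6 Ω).1 hy s hs]
      simp [Cert.tchar]
    obtain ⟨c, hc'⟩ := hp
    have h2 : certFullE6.tchar y s ^ (2 ^ E - 1) = 1 := by rw [hc', pow_mul, h1, one_pow]
    calc (certFullE6.tchar y s : Ω) ^ 2 ^ E
        = (certFullE6.tchar y s : Ω) ^ (2 ^ E - 1) * (certFullE6.tchar y s : Ω) := by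
          rw [← pow_succ, Nat.sub_add_cancel Nat.one_le_two_pow]
      _ = _ := by rw [← Units.val_pow_eq_pow_val, h2, Units.val_one, one_mul]
  -- the diagonal matrix
  obtain ⟨i₀⟩ : Nonempty (Fin n) := ⟨⟨0, by omega⟩⟩
  obtain ⟨d, hd⟩ : ∃ d : Fin n → L, ∀ i, ι (d i) =
      if i = i₀ then 1 else (certFullE6.tchar z (tabR T i i₀) : Ω) := by
    have : ∀ i, ∃ x : L, ι x = if i = i₀ then 1 else (certFullE6.tchar z (tabR T i i₀) : Ω) :=
      fun i => by
        by_cases e : i = i₀
        · exact ⟨1, by rw [if_pos e, map_one]⟩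
        · rw [if_neg e]; exact hchar hz _ (tabR_lt hT e)
    choose d hd using this
    exact ⟨d, hd⟩
  have hd0 : ∀ i, d i ≠ 0 := fun i e => by
    have := hd i
    rw [e, map_zero] at this
    split_ifs at this
    · exact one_ne_zero this.symm
    · exact (certFullE6.tchar z (tabR T i i₀)).ne_zero this.symm
  have hzd : ∀ i j, i ≠ j → (certFullE6.tchar z (tabR T i j) : Ω) = ι (d i / d j) := by
    intro i j hij
    rw [map_div₀, hd, hd, eq_div_iff (by rw [← hd]; exact fun e => hd0 j (ι.injective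
      (e.trans (map_zero ι).symm)))]
    by_cases hi : i = i₀
    · subst hi
      rw [if_pos rfl, if_neg (Ne.symm hij), tabR_neg hT hij,
        certFullE6.tchar_neg z (tabR_lt hT hij), ← Units.val_mul, mul_inv_cancel, Units.val_one]
    by_cases hj : j = i₀
    · subst hj
      rw [if_pos rfl, if_neg hi, mul_one]
    · rw [if_neg hi, if_neg hj, ← Units.val_mul, ← tab_tchar hT z hij hj hi]
  obtain ⟨cd, hcd⟩ : ∃ cd : SL(n, L) →* SL(n, L), ∀ (A : SL(n, L)) i j,
      (cd A : Matrix (Fin n) (Fin n) L) i j = d i * (A : Matrix (Fin n) (Fin n) L) i j / d j := by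
    have hinv : Matrix.diagonal (fun i => (d i)⁻¹) * Matrix.diagonal d = 1 := by
      rw [Matrix.diagonal_mul_diagonal, ← Matrix.diagonal_one]
      exact congrArg _ (funext fun i => inv_mul_cancel₀ (hd0 i))
    refine ⟨MonoidHom.mk' (fun A => ⟨Matrix.diagonal d * A.1 * Matrix.diagonal fun i => (d i)⁻¹,
      by rw [Matrix.det_mul_right_comm, Matrix.det_mul, Matrix.diagonal_mul_diagonal,
        Matrix.det_diagonal, Finset.prod_eq_one fun i _ => mul_inv_cancel₀ (hd0 i), A.2,
        one_mul]⟩) fun A B => Subtype.ext ?_, fun A i j => ?_⟩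
    · show Matrix.diagonal d * (A.1 * B.1) * Matrix.diagonal (fun i => (d i)⁻¹) =
        Matrix.diagonal d * A.1 * Matrix.diagonal (fun i => (d i)⁻¹) *
        (Matrix.diagonal d * B.1 * Matrix.diagonal fun i => (d i)⁻¹)
      rw [show Matrix.diagonal d * A.1 * Matrix.diagonal (fun i => (d i)⁻¹) *
        (Matrix.diagonal d * B.1 * Matrix.diagonal fun i => (d i)⁻¹) = Matrix.diagonal d * A.1 *
          (Matrix.diagonal (fun i => (d i)⁻¹) * Matrix.diagonal d) * B.1 *
          Matrix.diagonal (fun i => (d i)⁻¹) by simp only [Matrix.mul_assoc], hinv]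
      simp only [Matrix.mul_one, Matrix.mul_assoc]
    · show (Matrix.diagonal d * A.1 * Matrix.diagonal fun i => (d i)⁻¹) i j = _
      rw [Matrix.mul_diagonal, Matrix.diagonal_mul, div_eq_mul_inv]
  have hconj : ∀ A, certFullE6.torus z * ψ A * (certFullE6.torus z)⁻¹ = ψ (cd A) := by
    intro A
    have heq' : (MulAut.conj (certFullE6.torus z)).toMonoidHom.comp ψ = ψ.comp cd := by
      refine MonoidHom.eq_of_eqOn_dense Cfsg.Agent.Classical.SL_closure_transvections ?_
      rintro _ ⟨⟨i, j, hij, t⟩, rfl⟩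
      have e : Matrix.TransvectionStruct.toSpecialLinearGroup ⟨i, j, hij, t⟩ =
          Matrix.SpecialLinearGroup.transvection hij t := Subtype.ext rfl
      have ecd : cd (Matrix.SpecialLinearGroup.transvection hij t) =
          Matrix.SpecialLinearGroup.transvection hij (d i / d j * t) := by
        exact Subtype.ext (Matrix.ext fun a c => by rw [hcd, conj_transvection hd0])
      show certFullE6.torus z * ψ _ * (certFullE6.torus z)⁻¹ = ψ (cd _)
      rw [e, ecd, hψ, hψ, certFullE6.torus_conj_xg z (tabR_lt hT hij), map_mul, hzd i j hij]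
    exact DFunLike.congr_fun heq' A
  -- conjugate the root elements
  have key : ∀ i j : Fin n, ∀ hij : i ≠ j, ∃ x : L, ∀ e : SL(n, L),
      e = Matrix.SpecialLinearGroup.transvection hij 1 →
      (B * cd B) * e * (B * cd B)⁻¹ * (Matrix.SpecialLinearGroup.transvection hij x)⁻¹ ∈
        Subgroup.center SL(n, L) := by
    intro i j hij
    obtain ⟨x', hx'⟩ := hchar hz'p (tabR T i j) (tabR_lt hT hij)
    obtain ⟨x₀, hx₀⟩ := hchar hz (tabR T i j) (tabR_lt hT hij)
    refine ⟨x' / x₀, fun e he => ker_le_center hn hT hψ (MonoidHom.mem_ker.2 ?_)⟩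
    have hC0 : ∀ y, ψ y ∈ C 0 := fun y => by rw [hC]; exact hψmem y
    obtain ⟨T', hT'⟩ : ∃ T', T' = certFullE6.torus z := ⟨_, rfl⟩
    have e1 : T'⁻¹ * ψ e * T' =
        ψ (Matrix.SpecialLinearGroup.transvection hij x₀⁻¹) := by
      have hx₀0 : x₀ ≠ 0 := fun h0 => (certFullE6.tchar z (tabR T i j)).ne_zero
        (by rw [← hx₀, h0, map_zero])
      have h' : ψ e = T' * ψ (Matrix.SpecialLinearGroup.transvection hij x₀⁻¹) * T'⁻¹ := by
        rw [hψ _ _ hij x₀⁻¹, hT', certFullE6.torus_conj_xg z (tabR_lt hT hij), ← hx₀, ← map_mul,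
          mul_inv_cancel₀ hx₀0, he, hψ]
      rw [h']; group
    have e2 : ψ (B * cd B * e * (B * cd B)⁻¹) = a * T' * a⁻¹ * (T'⁻¹ * ψ e * T') *
        (a * T' * a⁻¹)⁻¹ := by
      have hy : ∀ y, a * ψ y * a⁻¹ = b * ψ y * b⁻¹ := fun y => by
        rw [ha, show b * rest * ψ y * (b * rest)⁻¹ = b * (rest * ψ y) * rest⁻¹ * b⁻¹ by group,
          (hrestC _ (hC0 y)).eq]
        group
      have hy' : ∀ y, a⁻¹ * ψ y * a = b * ψ y * b⁻¹ := fun y => by
        have h := hy y
        rw [hainv] at h ⊢
        exact h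
      rw [e1]
      obtain ⟨X, hX⟩ : ∃ X, X = ψ (Matrix.SpecialLinearGroup.transvection hij x₀⁻¹) := ⟨_, rfl⟩
      have hX' : X = ψ (Matrix.SpecialLinearGroup.transvection hij x₀⁻¹) := hX
      rw [← hX', show a * T' * a⁻¹ * X * (a * T' * a⁻¹)⁻¹ =
        a * (T' * (a⁻¹ * X * a) * T'⁻¹) * a⁻¹ by group, hX', hy', hb, ← map_inv, ← map_mul,
        ← map_mul, hT', hconj, hy, hb, ← map_inv, ← map_mul, ← map_mul]
      congr 1
      rw [map_mul, map_mul, map_inv]
      have h' : cd (Matrix.SpecialLinearGroup.transvection hij x₀⁻¹) = e := by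
        refine Subtype.ext (Matrix.ext fun r c => ?_)
        have hx : d i / d j * x₀⁻¹ = 1 := by
          have : x₀ = d i / d j := ι.injective (by rw [hx₀, hzd i j hij])
          rw [this, mul_inv_cancel₀ (div_ne_zero (hd0 i) (hd0 j))]
        rw [hcd, he, conj_transvection hd0, hx]
      rw [h']
      group
    rw [map_mul, map_inv, e2, e1, hψ, hψ, hT', ← hz', certFullE6.torus_conj_xg z' (tabR_lt hT hij),
      ← hx', ← map_mul, div_eq_mul_inv, mul_inv_cancel]
  obtain ⟨Cm, hCm⟩ : ∃ Cm, Cm = ((B * cd B : SL(n, L)) : Matrix (Fin n) (Fin n) L) := ⟨_, rfl⟩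
  have hdiag : ∀ r c : Fin n, r ≠ c → Cm r c = 0 := by
    intro r c hrc
    obtain ⟨x, hx⟩ := key c r hrc.symm
    obtain ⟨l, hl, hscal⟩ := Matrix.SpecialLinearGroup.mem_center_iff.1 (hx _ rfl)
    obtain ⟨W, hW⟩ : ∃ W, W = (B * cd B) * Matrix.SpecialLinearGroup.transvection hrc.symm (1 : L) *
        (B * cd B)⁻¹ * (Matrix.SpecialLinearGroup.transvection hrc.symm x)⁻¹ := ⟨_, rfl⟩
    rw [← hW] at hscal
    have e0 : (B * cd B) * Matrix.SpecialLinearGroup.transvection hrc.symm (1 : L) =
        W * Matrix.SpecialLinearGroup.transvection hrc.symm x * (B * cd B) := by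
      rw [hW]; group
    have e : ∀ p q : Fin n, Cm p q + (if r = q then Cm p c else 0) =
        l * (Cm p q + (if p = c then x * Cm r q else 0)) := by
      intro p q
      have h := congrFun (congrFun (congrArg Subtype.val e0) p) q
      simp only [Matrix.SpecialLinearGroup.coe_mul, ← hscal, ← hCm,
        Matrix.SpecialLinearGroup.transvection_coe, Matrix.scalar_apply] at h
      rw [Matrix.mul_assoc, Matrix.diagonal_mul, Matrix.mul_add, Matrix.mul_one, Matrix.add_mul,
        Matrix.one_mul, Matrix.add_apply, Matrix.add_apply] at h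
      by_cases h1 : r = q <;> by_cases h2 : p = c
      · subst h1; subst h2
        simpa using h
      · subst h1
        rw [Matrix.mul_single_apply_same, Matrix.single_mul_apply_of_ne _ _ _ _ _ h2, mul_one] at h
        simpa [h2] using h
      · subst h2
        rw [Matrix.mul_single_apply_of_ne _ _ _ _ _ (Ne.symm h1), Matrix.single_mul_apply_same] at h
        simpa [h1] using h
      · rw [Matrix.mul_single_apply_of_ne _ _ _ _ _ (Ne.symm h1),
          Matrix.single_mul_apply_of_ne _ _ _ _ _ h2] at h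
        simpa [h1, h2] using h
    by_cases hl1 : l = 1
    · have h := e r r
      rw [hl1, one_mul, if_pos rfl, if_neg hrc, add_zero] at h
      exact add_eq_left.1 h
    · exfalso
      obtain ⟨p₁, hp₁, p₂, hp₂, h12⟩ := Finset.one_lt_card.1
        (show 1 < (Finset.univ.erase c).card by
          rw [Finset.card_erase_of_mem (Finset.mem_univ _), Finset.card_univ, Fintype.card_fin]
          omega)
      have hrow : ∀ p ∈ Finset.univ.erase c, ∀ q, q ≠ r → Cm p q = 0 := fun p hp q hq => by
        have h := e p q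
        rw [if_neg (Ne.symm hq), if_neg (Finset.ne_of_mem_erase hp), add_zero] at h
        by_contra hne
        exact hl1 (mul_right_cancel₀ hne (by rw [one_mul]; exact h.symm))
      have hinv : ∀ p q, ∑ y, Cm p y * ((B * cd B)⁻¹ : SL(n, L)).1 y q =
          (1 : Matrix (Fin n) (Fin n) L) p q := fun p q => by
        rw [← Matrix.mul_apply, hCm, ← Matrix.SpecialLinearGroup.coe_mul, mul_inv_cancel]
        rfl
      have hs : ∀ p ∈ Finset.univ.erase c, ∀ q,
          Cm p r * ((B * cd B)⁻¹ : SL(n, L)).1 r q = (1 : Matrix (Fin n) (Fin n) L) p q := by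
        intro p hp q
        rw [← hinv p q, Finset.sum_eq_single r]
        · intro y _ hy; rw [hrow p hp y hy, zero_mul]
        · intro h; exact absurd (Finset.mem_univ r) h
      have h1 := hs p₁ hp₁ p₁
      have h2 := hs p₂ hp₂ p₁
      rw [Matrix.one_apply_eq] at h1
      rw [Matrix.one_apply_ne (Ne.symm h12)] at h2
      have h3 := hs p₂ hp₂ p₂
      rw [Matrix.one_apply_eq] at h3
      rcases mul_eq_zero.1 h2 with h2 | h2
      · rw [h2, zero_mul] at h3; exact zero_ne_one h3
      · rw [h2, mul_zero] at h1; exact zero_ne_one h1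
  -- so the diagonal matrix is scalar
  have hscal : ∀ p q : Fin n, p ≠ q → Cm q q = d p / d q := by
    intro p q hpq
    have h : cd B = B * (B * cd B) := by rw [← mul_assoc, hB2, one_mul]
    have h' := congrFun (congrFun (congrArg Subtype.val h) p) q
    rw [hcd, Matrix.SpecialLinearGroup.coe_mul, ← hCm, Matrix.mul_apply,
      Finset.sum_eq_single q (fun y _ hy => by rw [hdiag y q hy, mul_zero])
        (fun h => absurd (Finset.mem_univ q) h)] at h'
    refine mul_left_cancel₀ (hBoff p q hpq) ?_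
    rw [← h']; ring
  intro i j hij
  obtain ⟨q, hq⟩ : ∃ q : Fin n, q ∉ ({i, j} : Finset (Fin n)) :=
    Finset.exists_mem_notMem_of_card_lt_card (t := Finset.univ) (by
      rw [Finset.card_univ, Fintype.card_fin, Finset.card_pair hij]; omega) |>.imp fun _ h => h.2
  simp only [Finset.mem_insert, Finset.mem_singleton, not_or] at hq
  have h := (hscal i q (Ne.symm hq.1)).symm.trans (hscal j q (Ne.symm hq.2))
  rw [div_left_inj' (hd0 q)] at h
  refine Units.ext ?_
  rw [hzd i j hij, h, div_self (hd0 j), map_one, Units.val_one]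

end Cfsg.Agent.Fus.TwE6Two
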