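import Cfsg.Agent.Lib.Fus.TwE6Two.Cases
import Cfsg.Agent.Lib.Fus.TwE6Two.Center
import Cfsg.Agent.Lib.Fus.TwE6Two.Transv

/-! A normaliser lying below the stabiliser of an element of order three of the torus. -/

set_option autoImplicit false
set_option maxRecDepth 20000

namespace Cfsg.Agent.Fus.TwE6Two

open Cfsg.Lie Cfsg.Agent.Lie.Chev Matrix

variable {Ω : Type*} [Field Ω] [CharP Ω 2]

theorem exists_cube_root [IsAlgClosed Ω] : ∃ ω : Ωˣ, IsPrimitiveRoot ω 3 := by
  obtain ⟨x, hx⟩ := IsAlgClosed.exists_root (Polynomial.X ^ 2 + Polynomial.X + 1 : Polynomial Ω) (by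
    intro h
    have h1 : (Polynomial.X ^ 2 + Polynomial.X + 1 : Polynomial Ω).natDegree = 2 := by
      compute_degree!
    rw [Polynomial.natDegree_eq_of_degree_eq_some (n := 0) h] at h1
    omega)
  simp only [Polynomial.IsRoot, Polynomial.eval_add, Polynomial.eval_pow, Polynomial.eval_X,
    Polynomial.eval_one] at hx
  have h2 : (2 : Ω) = 0 := CharTwo.two_eq_zero
  have h3 : x ^ 3 = 1 := by linear_combination (x - 1) * hx
  have h1 : x ≠ 1 := fun e => by
    rw [e] at hx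
    exact one_ne_zero (by linear_combination hx - h2 : (1 : Ω) = 0)
  have hx0 : x ≠ 0 := fun e => by rw [e] at h3; simp at h3
  refine ⟨Units.mk0 x hx0, ?_⟩
  haveI : Fact (Nat.Prime 3) := ⟨Nat.prime_three⟩
  have ho : orderOf (Units.mk0 x hx0) = 3 :=
    orderOf_eq_prime (Units.ext h3) fun e => h1 (congrArg Units.val e)
  have := IsPrimitiveRoot.orderOf (Units.mk0 x hx0)
  rwa [ho] at this

omit [CharP Ω 2] in
theorem tchar_pow_eq_one {z : ℕ → Ωˣ} {p : ℕ} (h : certFullE6.torus z ^ p = 1) {s : ℕ}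
    (hs : s < 72) : certFullE6.tchar z s ^ p = 1 := by
  rw [← map_pow, ← map_one certFullE6.torus, Cert.torus_apply, Cert.torus_apply] at h
  rw [← certFullE6.tchar_pow, (dg_eq_iff chevE6 Ω).1 h s hs]
  simp [Cert.tchar]

variable {K : Type*} [Field K] [Fintype K] (hK : Fintype.card K = 4) (ι : K →+* Ω)

/-- An involution of ²E₆(2) supported by an orbit of components, outside a normaliser. -/
theorem exists_outside [IsAlgClosed Ω] (hK : Fintype.card K = 4) {R : List ℕ}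
    {g : GL chevE6.Idx Ω} (hF : Frame R g) {p : ℕ} {P : Subgroup ↥(twistedE6 K 2)}
    (hPH : ∀ x ∈ P, g * emb ι (x : GL chevE6.Idx K) * g⁻¹ ∈ chevE6.diagonalSubgroup Ω)
    {n k : ℕ} {fl : Bool} {T : List (List ℕ)} (hk : 0 < k) (hn : 3 ≤ n)
    (hodd : fl = true → Odd n) (hc : compCheck R n k fl T = true) {E : ℕ}
    (hE : (if fl then 2 * (k * n) else k * n) ∣ E) (hE0 : 0 < E) (hp : p ∣ 2 ^ E - 1)
    {x : ↥(twistedE6 K 2)} (hx : x ∈ P) (hxp : x ^ p = 1) {z : ℕ → Ωˣ}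
    (hz : g * emb ι (x : GL chevE6.Idx K) * g⁻¹ = certFullE6.torus z)
    {i j : Fin n} (hij : i ≠ j) (hne : certFullE6.tchar z (tabR T i j) ≠ 1) :
    ∃ r : ↥(twistedE6 K 2), r ∉ Subgroup.normalizer (P : Set ↥(twistedE6 K 2)) ∧
      ∀ c : GL chevE6.Idx Ω,
        (∀ s ∈ orbitRoots R n k T, ∀ t : Ω, Commute c (certFullE6.xg s t)) →
        Commute (g * emb ι (r : GL chevE6.Idx K) * g⁻¹) c := by
  obtain ⟨a, ha, ha2, hta, hsupp, hnn⟩ := exists_elem hF.lt hk hn hodd hc hE hE0 hp (Ω := Ω)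
  have hfix := hF.fixed_of_tau ha hta
  obtain ⟨y, hy, hye⟩ := descend hK ι (mul_mem (mul_mem (inv_mem hF.mem) ha) hF.mem) hfix
    (m := 2) (by rw [pow_two, show g⁻¹ * a * g * (g⁻¹ * a * g) = g⁻¹ * (a * a) * g by group, ha2,
      mul_one, inv_mul_cancel]) (by norm_num)
  obtain ⟨r, hr⟩ : ∃ r : ↥(twistedE6 K 2), r = ⟨y, hy⟩ := ⟨_, rfl⟩
  have hre : g * emb ι (r : GL chevE6.Idx K) * g⁻¹ = a := by
    rw [hr]
    show g * emb ι y * g⁻¹ = a
    rw [hye]; group
  refine ⟨r, fun hrN => hne (hnn z ?_ ?_ i j hij), fun c hc' => ?_⟩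
  · rw [← hz, conj_pow, ← map_pow, ← Subgroup.coe_pow, hxp, Subgroup.coe_one, map_one, mul_one,
      mul_inv_cancel]
  · have h := hPH _ ((Subgroup.mem_normalizer_iff.1 hrN x).1 hx)
    rw [← hz, ← hre]
    convert h using 1
    simp only [Subgroup.coe_mul, Subgroup.coe_inv, map_mul, map_inv]
    group
  · rw [hre]
    revert hsupp
    generalize a = b
    intro hsupp
    induction hsupp using Subgroup.closure_induction with
    | mem b hb => obtain ⟨s, hs, t, rfl⟩ := hb; exact (hc' s hs t).symm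
    | one => exact Commute.one_left _
    | mul u v _ _ ihu ihv => exact ihu.mul_left ihv
    | inv u _ ihu => exact ihu.inv_left

include hK

/-- A subgroup normalising a nontrivial cyclic subgroup of E₆, with an element outside that
centralises the generator, is not maximal. -/
theorem not_coatom_of_stable {N : Subgroup ↥(twistedE6 K 2)} {y : GL chevE6.Idx Ω}
    (hy : y ∈ chevE6.group Ω) (hy1 : y ≠ 1)
    (hN : ∀ h ∈ N, emb ι (h : GL chevE6.Idx K) * y * (emb ι (h : GL chevE6.Idx K))⁻¹ ∈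
      Subgroup.zpowers y)
    {r : ↥(twistedE6 K 2)} (hr : Commute (emb ι (r : GL chevE6.Idx K)) y) (hrN : r ∉ N) :
    ¬ IsCoatom N := by
  haveI := charP_K hK
  obtain ⟨φ, hφ⟩ : ∃ φ : ↥(twistedE6 K 2) →* GL chevE6.Idx Ω,
      φ = (emb ι).comp (twistedE6 K 2).subtype := ⟨_, rfl⟩
  have hφ' : ∀ h, φ h = emb ι (h : GL chevE6.Idx K) := fun h => by rw [hφ]; rfl
  obtain ⟨M, hM⟩ : ∃ M : Subgroup ↥(twistedE6 K 2),
      ∀ h, h ∈ M ↔ (φ h * y * (φ h)⁻¹ ∈ Subgroup.zpowers y ∧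
        (φ h)⁻¹ * y * φ h ∈ Subgroup.zpowers y) := by
    have hz : ∀ {a : GL chevE6.Idx Ω}, a * y * a⁻¹ ∈ Subgroup.zpowers y →
        ∀ b ∈ Subgroup.zpowers y, a * b * a⁻¹ ∈ Subgroup.zpowers y := fun {a} ha b hb => by
      obtain ⟨i, rfl⟩ := Subgroup.mem_zpowers_iff.1 hb
      rw [← conj_zpow]; exact zpow_mem ha i
    refine ⟨{ carrier := {h | φ h * y * (φ h)⁻¹ ∈ Subgroup.zpowers y ∧
        (φ h)⁻¹ * y * φ h ∈ Subgroup.zpowers y}
              one_mem' := by simp
              mul_mem' := ?_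
              inv_mem' := ?_ }, fun h => Iff.rfl⟩
    · rintro a b ⟨ha, ha'⟩ ⟨hb, hb'⟩
      refine ⟨?_, ?_⟩
      · rw [map_mul, show φ a * φ b * y * (φ a * φ b)⁻¹ =
          φ a * (φ b * y * (φ b)⁻¹) * (φ a)⁻¹ by group]
        exact hz ha _ hb
      · rw [map_mul, show (φ a * φ b)⁻¹ * y * (φ a * φ b) =
          (φ b)⁻¹ * ((φ a)⁻¹ * y * φ a) * ((φ b)⁻¹)⁻¹ by group]
        exact hz (by rw [inv_inv]; exact hb') _ ha'
    · rintro a ⟨ha, ha'⟩
      refine ⟨?_, ?_⟩ <;> rw [map_inv]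
      · rw [inv_inv]; exact ha'
      · rw [inv_inv]; exact ha
  have hNM : N ≤ M := fun h hh => (hM h).2 ⟨by rw [hφ']; exact hN h hh, by
    have := hN h⁻¹ (inv_mem hh)
    rw [Subgroup.coe_inv, map_inv, inv_inv] at this
    rw [hφ']; exact this⟩
  have hrM : r ∈ M := by
    rw [hM, hφ']
    constructor
    · rw [hr.eq, mul_inv_cancel_right]; exact Subgroup.mem_zpowers y
    · rw [mul_assoc, ← hr.eq, inv_mul_cancel_left]; exact Subgroup.mem_zpowers y
  have htop : M ≠ ⊤ := by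
    intro htop
    obtain ⟨x, hx⟩ := exists_noncommuting hK ι hy hy1
    refine hx ?_
    obtain ⟨hs, hnc⟩ := E6.simple (frobenius K 2) (q := 2) (fun t => frobenius_def 2 t)
      (by rw [hK]; norm_num)
    have hall : ∀ h, ∃ i : ℤ, y ^ i = φ h * y * (φ h)⁻¹ := fun h =>
      Subgroup.mem_zpowers_iff.1 ((hM h).1 (htop ▸ Subgroup.mem_top h)).1
    have hle : commutator ↥(twistedE6 K 2) ≤
        (Subgroup.centralizer ({y} : Set (GL chevE6.Idx Ω))).comap φ := by
      rw [commutator_def, Subgroup.commutator_le]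
      intro a _ b _
      rw [Subgroup.mem_comap, Subgroup.mem_centralizer_singleton_iff]
      obtain ⟨i, hi⟩ := hall a
      obtain ⟨j, hj⟩ := hall b
      have e : φ a * φ b * y * (φ b)⁻¹ * (φ a)⁻¹ = φ b * φ a * y * (φ a)⁻¹ * (φ b)⁻¹ := by
        calc φ a * φ b * y * (φ b)⁻¹ * (φ a)⁻¹
            = φ a * (φ b * y * (φ b)⁻¹) * (φ a)⁻¹ := by group
          _ = φ b * (φ a * y * (φ a)⁻¹) * (φ b)⁻¹ := by
              rw [← hi, ← hj, ← conj_zpow, ← conj_zpow, ← hi, ← hj, ← _root_.zpow_mul,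
                ← _root_.zpow_mul, mul_comm i j]
          _ = _ := by group
      rw [commutatorElement_def, map_mul, map_mul, map_mul, map_inv, map_inv]
      obtain ⟨c, hc⟩ : ∃ c, c = φ a * φ b * (φ a)⁻¹ * (φ b)⁻¹ := ⟨_, rfl⟩
      obtain ⟨Y, hY⟩ : ∃ Y, Y = φ (b * a) * y * (φ (b * a))⁻¹ := ⟨_, rfl⟩
      have hY' : Y = φ b * φ a * y * (φ a)⁻¹ * (φ b)⁻¹ := by rw [hY, map_mul]; group
      have hcY : Commute c Y := by
        calc c * Y = φ a * φ b * y * (φ b)⁻¹ * (φ a)⁻¹ * c := by rw [hY', hc]; group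
          _ = Y * c := by rw [e, ← hY']
      obtain ⟨l, hl⟩ := hall (b * a)⁻¹
      have hyY : y = Y ^ l := by
        rw [hY, conj_zpow, hl, map_inv]; group
      have hfin := hcY.zpow_right l
      rw [← hyY] at hfin
      rw [← hc]
      exact hfin
    have hperf : commutator ↥(twistedE6 K 2) = ⊤ := by
      haveI := hs
      refine ((inferInstance : (commutator ↥(twistedE6 K 2)).Normal).eq_bot_or_eq_top).resolve_left
        fun h => hnc ?_
      exact ⟨⟨fun a b => by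
        have := Subgroup.commutator_mem_commutator (Subgroup.mem_top a) (Subgroup.mem_top b)
        rw [← commutator_def, h] at this
        exact commutatorElement_eq_one_iff_mul_comm.1 (Subgroup.mem_bot.1 this)⟩⟩
    have h := hle (hperf ▸ Subgroup.mem_top x)
    rw [Subgroup.mem_comap, Subgroup.mem_centralizer_singleton_iff, hφ'] at h
    exact h.symm
  exact fun hco => htop (hco.2 M (lt_of_le_of_ne hNM fun e => hrN (e ▸ hrM)))

/-- The case of an element of order three of the torus whose kernel contains the components. -/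
theorem not_coatom_of_three [IsAlgClosed Ω] {R : List ℕ} {g : GL chevE6.Idx Ω}
    (hF : Frame R g) {p : ℕ} {P : Subgroup ↥(twistedE6 K 2)}
    (hPH : ∀ x ∈ P, g * emb ι (x : GL chevE6.Idx K) * g⁻¹ ∈ chevE6.diagonalSubgroup Ω)
    (hC : ∀ c ∈ chevE6.group Ω, (sig Ω).act c = c →
      (∀ x ∈ P, Commute c (emb ι (x : GL chevE6.Idx K))) →
      ∃ w, g * c * g⁻¹ = certFullE6.torus w ∧ Rel R w)
    {cc : KerCert} (hcc : cc.check 3 R = true) (hv₂ : cc.v₂ = 0)
    (heig : eigCheck 3 R cc.v₁ = true) (hv : ∃ s < 72, ev cc.v₁ s % 3 ≠ 0)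
    {n k : ℕ} {fl : Bool} {T : List (List ℕ)} (hk : 0 < k) (hn : 3 ≤ n)
    (hodd : fl = true → Odd n) (hc : compCheck R n k fl T = true)
    (horb : (orbitRoots R n k T).all (fun s => decide (s < 72) && ev cc.v₁ s % 3 == 0) = true)
    {E : ℕ} (hE : (if fl then 2 * (k * n) else k * n) ∣ E) (hE0 : 0 < E) (hp : p ∣ 2 ^ E - 1)
    {x : ↥(twistedE6 K 2)} (hx : x ∈ P) (hxp : x ^ p = 1) {z : ℕ → Ωˣ}
    (hz : g * emb ι (x : GL chevE6.Idx K) * g⁻¹ = certFullE6.torus z)
    {i j : Fin n} (hij : i ≠ j) (hne : certFullE6.tchar z (tabR T i j) ≠ 1) :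
    ¬ IsCoatom (Subgroup.normalizer (P : Set ↥(twistedE6 K 2))) := by
  obtain ⟨ω, hω⟩ := exists_cube_root (Ω := Ω)
  obtain ⟨w, hw⟩ := exists_torus (Ω := Ω) (expv ω cc.v₁)
  have hrel : Rel R w := rel_expv heig hω.pow_eq_one hw
  have hev : ∀ s < 72, certFullE6.tchar w s = ω ^ ev cc.v₁ s := fun s hs => by
    rw [tchar_ev (η₁ := ω) (η₂ := (1 : Ωˣ)) (v₁ := cc.v₁) (v₂ := cc.v₁) w
      (by rw [hw]; simp [expv_one]) hs]
    simp
  have h3 : certFullE6.torus w ^ 3 = 1 := by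
    rw [← map_pow, ← map_one certFullE6.torus, Cert.torus_apply, Cert.torus_apply]
    refine (dg_eq_iff chevE6 Ω).2 fun s hs => ?_
    rw [certFullE6.tchar_pow, hev s hs, ← zpow_natCast, ← _root_.zpow_mul, mul_comm,
      _root_.zpow_mul, zpow_natCast, hω.pow_eq_one, _root_.one_zpow]
    simp [Cert.tchar]
  obtain ⟨y, hy⟩ : ∃ y, y = g⁻¹ * certFullE6.torus w * g := ⟨_, rfl⟩
  obtain ⟨hym, hyfix⟩ := hF.fixed_of_rel hrel
  rw [← hy] at hym hyfix
  have hgy : g * y * g⁻¹ = certFullE6.torus w := by rw [hy]; group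
  have hy1 : y ≠ 1 := by
    intro e
    obtain ⟨s, hs, hsv⟩ := hv
    rw [e, mul_one, mul_inv_cancel, ← map_one certFullE6.torus, Cert.torus_apply,
      Cert.torus_apply] at hgy
    have h1 := (dg_eq_iff chevE6 Ω).1 hgy s hs
    rw [hev s hs] at h1
    simp [Cert.tchar] at h1
    exact hsv (Int.emod_eq_zero_of_dvd ((hω.zpow_eq_one_iff_dvd _).1 h1.symm))
  have hcomm : ∀ x' ∈ P, Commute y (emb ι (x' : GL chevE6.Idx K)) := by
    intro x' hx'
    have h := certFullE6.H_commutative (certFullE6.torus_mem w) (hPH x' hx')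
    rw [← hgy] at h
    have h' : g * (y * emb ι (x' : GL chevE6.Idx K)) * g⁻¹ =
        g * (emb ι (x' : GL chevE6.Idx K) * y) * g⁻¹ := by
      calc g * (y * emb ι (x' : GL chevE6.Idx K)) * g⁻¹
          = g * y * g⁻¹ * (g * emb ι (x' : GL chevE6.Idx K) * g⁻¹) := by group
        _ = g * emb ι (x' : GL chevE6.Idx K) * g⁻¹ * (g * y * g⁻¹) := h
        _ = _ := by group
    exact mul_left_cancel (mul_right_cancel h')
  obtain ⟨r, hrN, hr⟩ := exists_outside ι hK hF hPH hk hn hodd hc hE hE0 hp hx hxp hz hij hne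
  refine not_coatom_of_stable hK ι hym hy1 (fun h hh => ?_) ?_ hrN
  · obtain ⟨u, hu⟩ : ∃ u, u = emb ι (h : GL chevE6.Idx K) := ⟨_, rfl⟩
    obtain ⟨humem, hufix⟩ := emb_fixed hK ι h.2
    rw [← hu] at humem hufix ⊢
    obtain ⟨w', hw', hrel'⟩ := hC (u * y * u⁻¹) (mul_mem (mul_mem humem hym) (inv_mem humem))
      (by rw [(sig Ω).act_mul (mul_mem humem hym) (inv_mem humem), (sig Ω).act_mul humem hym,
        (sig Ω).act_inv humem, hufix, hyfix]) fun x' hx' => by
      have h1 := hcomm _ ((Subgroup.mem_normalizer_iff.1 (inv_mem hh) x').1 hx')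
      rw [inv_inv, Subgroup.coe_mul, Subgroup.coe_mul, Subgroup.coe_inv, map_mul, map_mul, map_inv,
        ← hu] at h1
      calc u * y * u⁻¹ * emb ι (x' : GL chevE6.Idx K)
          = u * (y * (u⁻¹ * emb ι (x' : GL chevE6.Idx K) * u)) * u⁻¹ := by group
        _ = u * (u⁻¹ * emb ι (x' : GL chevE6.Idx K) * u * y) * u⁻¹ := by rw [h1.eq]
        _ = _ := by group
    have h3' : certFullE6.torus w' ^ 3 = 1 := by
      rw [← hw', conj_pow, conj_pow, hy,
        show g⁻¹ * certFullE6.torus w * g = g⁻¹ * certFullE6.torus w * (g⁻¹)⁻¹ by group, conj_pow,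
        h3]
      group
    have hm : ∀ i, Chi w' i ^ 3 = 1 := fun i => tchar_pow_eq_one h3' (si_lt i.2)
    have hsp := KerCert.spec hcc hrel' hm
    rw [hv₂, expv_zero, mul_one] at hsp
    obtain ⟨ξ, hξ⟩ : ∃ ξ, ξ = ∏ j, Chi w' j ^ cc.r₁ j := ⟨_, rfl⟩
    rw [← hξ] at hsp
    have hξ3 : ξ ^ 3 = 1 := by
      rw [hξ, ← Finset.prod_pow]
      refine Finset.prod_eq_one fun j _ => ?_
      rw [← zpow_natCast, ← _root_.zpow_mul, mul_comm, _root_.zpow_mul, zpow_natCast, hm j,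
        _root_.one_zpow]
    obtain ⟨e, -, he⟩ := (IsPrimitiveRoot.coe_units_iff.2 hω).eq_pow_of_pow_eq_one
      (ξ := (ξ : Ω)) (by rw [← Units.val_pow_eq_pow_val, hξ3, Units.val_one])
    replace he : ω ^ e = ξ := Units.ext (by rw [Units.val_pow_eq_pow_val, he])
    have hChi : Chi w' = Chi (w ^ e) := by
      funext i
      rw [hsp, ← he, Chi, certFullE6.tchar_pow, show certFullE6.tchar w (si i) = Chi w i from rfl,
        hw]
      simp only [expv, ← zpow_natCast, ← _root_.zpow_mul, mul_comm]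
    refine Subgroup.mem_zpowers_iff.2 ⟨(e : ℤ), ?_⟩
    have h4 : g * (u * y * u⁻¹) * g⁻¹ = g * y ^ e * g⁻¹ := by
      rw [hw', torus_eq hChi, map_pow, ← conj_pow, hgy]
    rw [zpow_natCast]
    exact (mul_left_cancel (mul_right_cancel h4)).symm
  · have h := hr (certFullE6.torus w) fun s hs t => by
      have h1 := List.all_eq_true.1 horb s hs
      simp only [Bool.and_eq_true, decide_eq_true_eq, beq_iff_eq] at h1
      have h2 : certFullE6.tchar w s = 1 := by
        rw [hev s h1.1, hω.zpow_eq_one_iff_dvd]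
        exact Int.dvd_of_emod_eq_zero h1.2
      have h3 := certFullE6.torus_conj_xg w (show s < chevE6.nroots from h1.1) t
      rw [h2, Units.val_one, one_mul, mul_inv_eq_iff_eq_mul] at h3
      exact h3
    rw [← hgy] at h
    have h' : g * (emb ι (r : GL chevE6.Idx K) * y) * g⁻¹ =
        g * (y * emb ι (r : GL chevE6.Idx K)) * g⁻¹ := by
      calc g * (emb ι (r : GL chevE6.Idx K) * y) * g⁻¹
          = g * emb ι (r : GL chevE6.Idx K) * g⁻¹ * (g * y * g⁻¹) := by group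
        _ = g * y * g⁻¹ * (g * emb ι (r : GL chevE6.Idx K) * g⁻¹) := h
        _ = _ := by group
    exact mul_left_cancel (mul_right_cancel h')

end Cfsg.Agent.Fus.TwE6Two
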