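import Cfsg.Agent.Lib.Fus.TwE6Two.Basic

/-! Finite fields inside an algebraically closed field of characteristic two, and the entries of
transvections fixed by twisted Frobenius maps. -/

set_option autoImplicit false

namespace Cfsg.Agent.Fus.TwE6Two

open Cfsg.Agent.Lie.Chev

variable {Ω : Type*} [Field Ω] [CharP Ω 2]

theorem exists_finite [IsAlgClosed Ω] {E : ℕ} (hE : 0 < E) :
    ∃ (L : Type) (_ : Field L) (_ : Finite L) (j : L →+* Ω),
      ∀ x : Ω, x ^ 2 ^ E = x → ∃ y, j y = x := by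
  classical
  obtain ⟨L, _, _, _, hL⟩ : ∃ (L : Type) (_ : Field L) (_ : Fintype L) (_ : CharP L 2),
      Fintype.card L = 2 ^ E := by
    haveI := Fact.mk Nat.prime_two
    letI : Fintype (GaloisField 2 E) := Fintype.ofFinite _
    exact ⟨GaloisField 2 E, inferInstance, inferInstance, inferInstance, by
      rw [← Nat.card_eq_fintype_card, GaloisField.card 2 E hE.ne']⟩
  haveI := Fact.mk Nat.prime_two
  obtain ⟨j⟩ : Nonempty (L →+* Ω) := by
    letI := ZMod.algebra L 2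
    letI := ZMod.algebra Ω 2
    haveI : Algebra.IsAlgebraic (ZMod 2) L := Algebra.IsAlgebraic.of_finite _ _
    exact ⟨(IsAlgClosed.lift : L →ₐ[ZMod 2] Ω).toRingHom⟩
  have hr : Set.range j = {t : Ω | iterateFrobenius Ω 2 E t = t} :=
    CertFull.range_eq_fixed j hL fun t => iterateFrobenius_def 2 E t
  refine ⟨L, inferInstance, Finite.of_fintype L, j, fun x hx => ?_⟩
  have : x ∈ Set.range j := by
    rw [hr]
    show iterateFrobenius Ω 2 E x = x
    rw [iterateFrobenius_def, hx]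
  exact this

/-- Powers by a periodic exponent. -/
theorem pow_periodic {M : Type*} [Monoid M] {x : M} {Q d : ℕ} (h : x ^ Q ^ d = x) (a b : ℕ) :
    x ^ Q ^ (a + d * b) = x ^ Q ^ a := by
  induction b with
  | zero => simp
  | succ b ih =>
    rw [show a + d * (b + 1) = d + (a + d * b) by ring, pow_add Q, pow_mul, h, ih]

theorem pow_periodic_mod {M : Type*} [Monoid M] {x : M} {Q d : ℕ} (h : x ^ Q ^ d = x) {a b : ℕ}
    (hab : a % d = b % d) : x ^ Q ^ a = x ^ Q ^ b := by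
  conv_lhs => rw [← Nat.mod_add_div a d, pow_periodic h, hab, ← pow_periodic h (b % d) (b / d),
    Nat.mod_add_div b d]

/-- A nonzero root of the trace to the field with `2 ^ k` elements. -/
theorem exists_trace [IsAlgClosed Ω] {k n : ℕ} (hk : 0 < k) (hn : 2 ≤ n) :
    ∃ ν : Ω, ν ≠ 0 ∧ ∑ m ∈ Finset.range n, ν ^ (2 ^ k) ^ m = 0 ∧ ν ^ (2 ^ k) ^ n = ν := by
  classical
  obtain ⟨Q, hQ⟩ : ∃ Q, Q = 2 ^ k := ⟨_, rfl⟩
  rw [← hQ]
  have hQ2 : 2 ≤ Q := hQ ▸ (Nat.pow_le_pow_right (by norm_num) hk : 2 ^ 1 ≤ 2 ^ k)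
  have hpos : ∀ m : ℕ, 1 ≤ Q ^ m := fun m => Nat.one_le_pow _ _ (by omega)
  obtain ⟨p, hp⟩ : ∃ p : Polynomial Ω, p = ∑ m ∈ Finset.range n, Polynomial.X ^ (Q ^ m - 1) :=
    ⟨_, rfl⟩
  have hcoeff : p.coeff (Q ^ (n - 1) - 1) = 1 ∧ p.coeff 0 = 1 := by
    constructor <;> rw [hp, Polynomial.finset_sum_coeff]
    · rw [Finset.sum_eq_single (n - 1)]
      · simp
      · intro m hm hne
        rw [Polynomial.coeff_X_pow, if_neg]
        intro e
        refine hne (Nat.pow_right_injective hQ2 ?_)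
        have := hpos m; have := hpos (n - 1)
        show Q ^ m = Q ^ (n - 1)
        omega
      · intro h; exact absurd (Finset.mem_range.2 (by omega)) h
    · rw [Finset.sum_eq_single 0]
      · simp
      · intro m hm hne
        rw [Polynomial.coeff_X_pow, if_neg]
        have : Q ≤ Q ^ m := Nat.le_self_pow hne Q
        omega
      · intro h; exact absurd (Finset.mem_range.2 (by omega)) h
  have hdeg : 0 < Q ^ (n - 1) - 1 := by
    have : Q ≤ Q ^ (n - 1) := Nat.le_self_pow (by omega) Q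
    omega
  obtain ⟨ν, hν⟩ := IsAlgClosed.exists_root p (fun h => by
    have h1 := Polynomial.le_natDegree_of_ne_zero (p := p) (n := Q ^ (n - 1) - 1)
      (by rw [hcoeff.1]; exact one_ne_zero)
    rw [Polynomial.natDegree_eq_of_degree_eq_some (n := 0) h] at h1
    omega)
  have hν0 : ν ≠ 0 := fun h => by
    rw [h, Polynomial.IsRoot, ← Polynomial.coeff_zero_eq_eval_zero, hcoeff.2] at hν
    exact one_ne_zero hν
  have hsum : ∑ m ∈ Finset.range n, ν ^ Q ^ m = 0 := by
    rw [hp, Polynomial.IsRoot, Polynomial.eval_finset_sum] at hν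
    calc ∑ m ∈ Finset.range n, ν ^ Q ^ m
        = (∑ m ∈ Finset.range n, ν ^ (Q ^ m - 1)) * ν := by
          rw [Finset.sum_mul]
          exact Finset.sum_congr rfl fun m _ => by
            rw [← pow_succ, Nat.sub_add_cancel (hpos m)]
      _ = 0 := by simp only [Polynomial.eval_pow, Polynomial.eval_X] at hν; rw [hν, zero_mul]
  refine ⟨ν, hν0, hsum, ?_⟩
  have h1 : ∑ m ∈ Finset.range n, ν ^ Q ^ (m + 1) = 0 := by
    have h := congrArg (iterateFrobenius Ω 2 k) hsum
    rw [map_sum, map_zero] at h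
    simp only [iterateFrobenius_def, ← hQ, ← pow_mul, ← pow_succ] at h
    exact h
  have h2 := Finset.sum_range_succ' (fun m => ν ^ Q ^ m) n
  rw [Finset.sum_range_succ, hsum, h1, zero_add, zero_add, pow_zero, pow_one] at h2
  exact h2

/-- The entries of a transvection fixed by the twisted Frobenius map of `SL_n(2 ^ (k n'))`. -/
theorem exists_entries [IsAlgClosed Ω] (fl : Bool) {k n : ℕ} (hk : 0 < k) (hn : 3 ≤ n)
    (hodd : fl = true → Odd n) {E : ℕ} (hE : (if fl then 2 * (k * n) else k * n) ∣ E) :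
    ∃ u φ : Fin n → Ω, (∀ a, u a ≠ 0 ∧ u a ^ 2 ^ E = u a) ∧ (∀ a, φ a ≠ 0 ∧ φ a ^ 2 ^ E = φ a) ∧
      (∑ a, φ a * u a = 0) ∧ ∀ a b a' b' : Fin n, (a' : ℕ) = ((a : ℕ) + 1) % n →
        (b' : ℕ) = ((b : ℕ) + 1) % n →
        u a' * φ b' = if fl then (u b * φ a) ^ 2 ^ k else (u a * φ b) ^ 2 ^ k := by
  obtain ⟨ν, hν0, hsum, hν⟩ := exists_trace (Ω := Ω) hk (by omega : 2 ≤ n)
  obtain ⟨Q, hQ⟩ : ∃ Q, Q = 2 ^ k := ⟨_, rfl⟩
  rw [← hQ] at hsum hν ⊢
  have hper : ∀ {x : Ω} {d : ℕ}, x ^ Q ^ d = x → k * d ∣ E → x ^ 2 ^ E = x := by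
    rintro x d hx ⟨c, rfl⟩
    rw [mul_assoc, pow_mul, ← hQ]
    simpa using pow_periodic hx 0 c
  have hfin : ∀ f : ℕ → Ω, ∑ a : Fin n, f (a : ℕ) = ∑ m ∈ Finset.range n, f m :=
    fun f => (Finset.sum_range f).symm
  cases fl with
  | false =>
    refine ⟨fun _ => 1, fun a => ν ^ Q ^ (a : ℕ), fun a => ⟨one_ne_zero, one_pow _⟩,
      fun a => ⟨pow_ne_zero _ hν0, ?_⟩, ?_, fun a b a' b' _ hb => ?_⟩
    · rw [pow_right_comm, hper hν hE]
    · simp only [mul_one]
      rw [hfin (fun m => ν ^ Q ^ m), hsum]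
    · simp only [one_mul, Bool.false_eq_true, if_false]
      rw [← pow_mul, ← pow_succ, hb]
      exact pow_periodic_mod hν (Nat.mod_mod _ _)
  | true =>
    obtain ⟨v, hv⟩ := IsAlgClosed.exists_pow_nat_eq ν (n := 1 + Q ^ n) (by omega)
    have hQpos : 1 ≤ Q := hQ ▸ Nat.one_le_two_pow
    have hv0 : v ≠ 0 := fun h => hν0 (by rw [← hv, h, zero_pow (by omega)])
    have hv2 : v ^ Q ^ (2 * n) = v := by
      have h := hν
      rw [← hv, ← pow_mul, add_mul, one_mul, pow_add, ← pow_add Q, ← two_mul, pow_add,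
        pow_one] at h
      refine mul_left_cancel₀ (pow_ne_zero (Q ^ n) hv0) ?_
      rw [h, mul_comm]
    obtain ⟨d, hd⟩ : 2 ∣ n + 1 := by obtain ⟨c, hc⟩ := hodd rfl; exact ⟨c + 1, by omega⟩
    have hmod : ∀ x : ℕ, (n + 1) * (x % n) % (2 * n) = (n + 1) * x % (2 * n) := by
      intro x
      rw [hd, mul_assoc, mul_assoc, Nat.mul_mod_mul_left, Nat.mul_mod_mul_left, Nat.mul_mod,
        Nat.mod_mod, ← Nat.mul_mod]
    refine ⟨fun a => v ^ Q ^ ((n + 1) * (a : ℕ)), fun a => v ^ Q ^ ((n + 1) * (a : ℕ) + n),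
      fun a => ⟨pow_ne_zero _ hv0, ?_⟩, fun a => ⟨pow_ne_zero _ hv0, ?_⟩, ?_,
      fun a b a' b' ha hb => ?_⟩
    · rw [pow_right_comm, hper hv2 (by rwa [mul_left_comm])]
    · rw [pow_right_comm, hper hv2 (by rwa [mul_left_comm])]
    · rw [hfin (fun m => v ^ Q ^ ((n + 1) * m + n) * v ^ Q ^ ((n + 1) * m)), ← hsum]
      refine Finset.sum_congr rfl fun m _ => ?_
      have hm : ((n + 1) * m) % (2 * n) = m % (2 * n) ∧ ((n + 1) * m + n) % (2 * n) =
          (m + n) % (2 * n) ∨ ((n + 1) * m) % (2 * n) = (m + n) % (2 * n) ∧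
          ((n + 1) * m + n) % (2 * n) = m % (2 * n) := by
        obtain ⟨c, rfl | rfl⟩ := Nat.even_or_odd' m
        · left
          constructor
          · rw [show (n + 1) * (2 * c) = 2 * c + 2 * n * c by ring, Nat.add_mul_mod_self_left]
          · rw [show (n + 1) * (2 * c) + n = 2 * c + n + 2 * n * c by ring,
              Nat.add_mul_mod_self_left]
        · right
          constructor
          · rw [show (n + 1) * (2 * c + 1) = 2 * c + 1 + n + 2 * n * c by ring,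
              Nat.add_mul_mod_self_left]
          · rw [show (n + 1) * (2 * c + 1) + n = 2 * c + 1 + 2 * n * (c + 1) by ring,
              Nat.add_mul_mod_self_left]
      rcases hm with ⟨e1, e2⟩ | ⟨e1, e2⟩ <;>
        rw [pow_periodic_mod hv2 e1, pow_periodic_mod hv2 e2, ← hv, ← pow_mul, ← pow_add,
          pow_add Q] <;>
        congr 1 <;> ring
    · simp only [if_true]
      rw [mul_pow, ← pow_mul, ← pow_mul, ← pow_succ, ← pow_succ, ha, hb]
      have e1 : (n + 1) * (((a : ℕ) + 1) % n) % (2 * n) =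
          ((n + 1) * (a : ℕ) + n + 1) % (2 * n) := by
        rw [hmod, show (n + 1) * ((a : ℕ) + 1) = (n + 1) * (a : ℕ) + n + 1 by ring]
      have e2 : ((n + 1) * (((b : ℕ) + 1) % n) + n) % (2 * n) =
          ((n + 1) * (b : ℕ) + 1) % (2 * n) := by
        rw [Nat.add_mod, hmod, ← Nat.add_mod,
          show (n + 1) * ((b : ℕ) + 1) + n = (n + 1) * (b : ℕ) + 1 + 2 * n * 1 by ring,
          Nat.add_mul_mod_self_left]
      rw [pow_periodic_mod hv2 e1, pow_periodic_mod hv2 e2, mul_comm]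

end Cfsg.Agent.Fus.TwE6Two
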