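import Cfsg.Agent.Lib.Fus.TwE6Two.Torus
import Cfsg.Agent.Lib.Lie.Chev.OrderE6
import Cfsg.Agent.Lib.Lie.Chev.CycToriInst

/-! Frames: an element `g` of E₆ over an algebraically closed field conjugating a `p`-subgroup of
²E₆(2) into the split torus, with `σ(g) g⁻¹` a fixed representative of the twisting word. -/

set_option autoImplicit false
set_option maxRecDepth 20000

namespace Cfsg.Agent.Fus.TwE6Two

open Cfsg.Lie Cfsg.Agent.Lie.Chev Matrix

/-- The longest word. -/
def w0 : List ℕ :=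
  [0, 1, 2, 0, 3, 1, 2, 0, 3, 2, 4, 3, 1, 2, 0, 3, 2, 4, 3, 1, 5, 4, 3, 1, 2, 0, 3, 2, 4, 3, 1, 5,
    4, 3, 2, 0]

theorem w0_ok : w0.all (fun p => decide (p < 6)) = true := by decide +kernel

theorem w0_spec : (List.range 72).all (fun s =>
    certFullE6.T.neg (graphE6.ρ s) == certFullE6.T.wlT w0 s) = true := by decide +kernel

theorem wl_w0 {s : ℕ} (hs : s < 72) :
    certFullE6.wl w0 s = chevE6.neg (graphE6.ρ s) := by
  have h := List.all_eq_true.1 w0_spec s (List.mem_range.2 hs)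
  rw [beq_iff_eq] at h
  rw [← certFullE6.wlT_eq, ← h, certFullE6.neg_eq (show graphE6.ρ s < chevE6.nroots from
    (graphE6.root_spec (show s < chevE6.nroots from hs)).1)]

theorem rho_rho' {s : ℕ} (hs : s < 72) : graphE6.ρ (graphE6.ρ s) = s := by
  simpa using List.all_eq_true.1 rho_rho s (List.mem_range.2 hs)

theorem rho_lt {s : ℕ} (hs : s < 72) : graphE6.ρ s < 72 :=
  (graphE6.root_spec (show s < chevE6.nroots from hs)).1

/-- The twisting word with eigenvalue word `R`. -/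
def word0 (R : List ℕ) : List ℕ := w0 ++ R.reverse

/-- The permutation of the roots of the twisted Frobenius. -/
def Mmap (R : List ℕ) (s : ℕ) : ℕ := certFullE6.T.neg (certFullE6.T.wlT R s)

theorem Mmap_eq {R : List ℕ} (hR : ∀ p ∈ R, p < chevE6.rank) {s : ℕ} (hs : s < 72) :
    Mmap R s = chevE6.neg (certFullE6.wl R s) := by
  rw [Mmap, certFullE6.wlT_eq, certFullE6.neg_eq (certFullE6.wl_lt hR hs)]

theorem Mmap_lt {R : List ℕ} (hR : ∀ p ∈ R, p < chevE6.rank) {s : ℕ} (hs : s < 72) :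
    Mmap R s < 72 := by
  rw [Mmap_eq hR hs]
  exact certFullE6.neg_lt (certFullE6.wl_lt hR hs)

theorem word0_lt {R : List ℕ} (hR : ∀ p ∈ R, p < chevE6.rank) :
    ∀ p ∈ word0 R, p < chevE6.rank := fun p hp =>
  (List.mem_append.1 hp).elim (lt_six w0_ok p) fun h => hR p (List.mem_reverse.1 h)

theorem neg_neg' {s : ℕ} (hs : s < chevE6.nroots) : chevE6.neg (chevE6.neg s) = s := by
  rw [certFullE6.neg_val (certFullE6.neg_lt hs), certFullE6.neg_val hs]
  omega

theorem wl_word0 {R : List ℕ} (hR : ∀ p ∈ R, p < chevE6.rank) {s : ℕ} (hs : s < 72) :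
    certFullE6.wl (word0 R) (Mmap R s) = graphE6.ρ s := by
  have hR' : ∀ p ∈ R.reverse, p < chevE6.rank := fun p hp => hR p (List.mem_reverse.1 hp)
  have hwl := certFullE6.wl_lt hR (show s < chevE6.nroots from hs)
  rw [word0, certFullE6.wl_append, Mmap_eq hR hs, certFullE6.wl_neg hR' hwl]
  have e : certFullE6.wl R.reverse (certFullE6.wl R s) = s := by
    rw [← certFullE6.wl_append]
    exact certFullE6.wl_eq_self_of_wmat
      (fun p hp => (List.mem_append.1 hp).elim (hR' p) (hR p))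
      (by rw [certFullE6.wmat_append hR' hR]; exact certFullE6.wmat_reverse' hR) hs
  rw [e, certFullE6.wl_neg (lt_six w0_ok) hs, wl_w0 hs, neg_neg']
  exact rho_lt hs

/-- The matrix cutting out the fixed torus. -/
def Amat (R : List ℕ) : Matrix (Fin 6) (Fin 6) ℤ := W6 R + ((2 : ℕ) : ℤ) • 1

variable {Ω : Type*} [Field Ω]

/-- The relation of a torus element fixed by the twisted Frobenius. -/
def Rel (R : List ℕ) (z : ℕ → Ωˣ) : Prop := mpow (Amat R)ᵀ (Chi z) = 1

theorem mpow_Amat {G : Type*} [CommGroup G] (R : List ℕ) (X : Fin 6 → G) :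
    mpow (Amat R)ᵀ X = mpow (W6 R)ᵀ X * X ^ 2 := by
  funext i
  rw [Pi.mul_apply, mpow_transpose, mpow_transpose, Pi.pow_apply]
  simp only [Amat, Matrix.add_apply, _root_.zpow_add, Finset.prod_mul_distrib]
  congr 1
  rw [Finset.prod_eq_single i]
  · simp
  · intro b _ hb
    simp [Matrix.one_apply_ne (Ne.symm hb)]
  · simp

theorem tchar_wl_R {R : List ℕ} (hR : ∀ p ∈ R, p < chevE6.rank) {z : ℕ → Ωˣ} (h : Rel R z)
    {s : ℕ} (hs : s < 72) :
    certFullE6.tchar z (certFullE6.wl R s) = (certFullE6.tchar z s ^ 2)⁻¹ := by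
  have h1 : ∀ i : Fin 6, certFullE6.tchar z (certFullE6.wl R (si i)) = (Chi z i ^ 2)⁻¹ := by
    intro i
    have h2 := congrFun (show mpow (W6 R)ᵀ (Chi z) * Chi z ^ 2 = 1 by rw [← mpow_Amat]; exact h) i
    rw [mpow_W6 z hR] at h2
    exact eq_inv_of_mul_eq_one_left h2
  have e := certFullE6.tchar_wl z hR (show s < chevE6.nroots from hs)
  rw [e, tchar_eq z hs, ← Finset.prod_pow, ← Finset.prod_inv_distrib]
  refine Finset.prod_congr rfl fun i _ => ?_
  rw [show chevE6.simple (i : ℕ) = si i from (si_eq i.2).symm, h1 i, _root_.inv_zpow,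
    ← zpow_natCast, ← zpow_natCast, ← _root_.zpow_mul, ← _root_.zpow_mul, mul_comm]

theorem tchar_Mmap {R : List ℕ} (hR : ∀ p ∈ R, p < chevE6.rank) {z : ℕ → Ωˣ} (h : Rel R z)
    {s : ℕ} (hs : s < 72) :
    certFullE6.tchar z (Mmap R s) = certFullE6.tchar z s ^ 2 := by
  rw [Mmap_eq hR hs, certFullE6.tchar_neg z (certFullE6.wl_lt hR hs), tchar_wl_R hR h hs, inv_inv]

theorem mpow_W6_inj {G : Type*} [CommGroup G] {R : List ℕ} (hR : ∀ p ∈ R, p < chevE6.rank)
    {X : Fin 6 → G} (h : mpow (W6 R)ᵀ X = 1) : X = 1 := by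
  have hR' : ∀ p ∈ R.reverse, p < chevE6.rank := fun p hp => hR p (List.mem_reverse.1 hp)
  have e : W6 R.reverse * W6 R = 1 := by
    rw [W6_eq, W6_eq]; exact certFullE6.wmat_reverse hR
  have := congrArg (fun A : Matrix (Fin 6) (Fin 6) ℤ => mpow Aᵀ X) e
  simp only [Matrix.transpose_mul, mpow_mul, h, map_one, Matrix.transpose_one, mpow_one] at this
  exact this.symm

variable [CharP Ω 2]

theorem rel_of_act {R : List ℕ} (hR : ∀ p ∈ R, p < chevE6.rank) {w : ℕ → Ωˣ}
    (h : (sig Ω).act (certFullE6.torus w) = certFullE6.nw Ω (word0 R) * certFullE6.torus w *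
      (certFullE6.nw Ω (word0 R))⁻¹) : Rel R w := by
  rw [(sig Ω).act_torus] at h
  refine funext fun i => ?_
  have hsi := si_lt i.2
  rw [mpow_Amat, Pi.mul_apply, mpow_W6 w hR]
  have h1 := certFullE6.tchar_of_nw_conj (word0_lt hR) h.symm
    (show Mmap R (si i) < chevE6.nroots from Mmap_lt hR hsi)
  rw [wl_word0 hR hsi, tchar_zAct w hsi, Mmap_eq hR hsi,
    certFullE6.tchar_neg w (certFullE6.wl_lt hR hsi)] at h1
  show certFullE6.tchar w (certFullE6.wl R (si i)) * Chi w i ^ 2 = 1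
  rw [Chi, h1, mul_inv_cancel]

theorem nw_conj_of_rel {R : List ℕ} (hR : ∀ p ∈ R, p < chevE6.rank) {z : ℕ → Ωˣ} (h : Rel R z) :
    certFullE6.nw Ω (word0 R) * certFullE6.torus z * (certFullE6.nw Ω (word0 R))⁻¹ =
      certFullE6.torus ((sig Ω).zAct z) := by
  refine certFullE6.nw_conj_torus (word0_lt hR) fun s hs => ?_
  obtain ⟨t, ht, rfl⟩ : ∃ t < 72, Mmap R t = s := by
    have hfun : Function.Injective fun t : Fin 72 => (⟨Mmap R t, Mmap_lt hR t.2⟩ : Fin 72) := by
      intro a b e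
      have e' := congrArg (certFullE6.wl (word0 R)) (congrArg Fin.val e)
      simp only [wl_word0 hR a.2, wl_word0 hR b.2] at e'
      exact Fin.ext (by rw [← rho_rho' a.2, e', rho_rho' b.2])
    obtain ⟨t, ht⟩ := (Finite.injective_iff_surjective.1 hfun) ⟨s, hs⟩
    exact ⟨t, t.2, congrArg Fin.val ht⟩
  rw [wl_word0 hR ht, tchar_zAct z ht, tchar_Mmap hR h ht]

/-- A frame with twisting word from `R`. -/
structure Frame (R : List ℕ) (g : GL chevE6.Idx Ω) : Prop where
  lt : ∀ p ∈ R, p < chevE6.rank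
  mem : g ∈ chevE6.group Ω
  act_eq : (sig Ω).act g * g⁻¹ = certFullE6.nw Ω (word0 R)

namespace Frame

variable {R : List ℕ} {g : GL chevE6.Idx Ω} (hF : Frame R g)
include hF

theorem act_g : (sig Ω).act g = certFullE6.nw Ω (word0 R) * g := by
  rw [← hF.act_eq, inv_mul_cancel_right]

/-- Fixed elements, seen in the frame. -/
theorem fixed_iff {c : GL chevE6.Idx Ω} (hc : c ∈ chevE6.group Ω) :
    (sig Ω).act c = c ↔ (sig Ω).act (g * c * g⁻¹) =
      certFullE6.nw Ω (word0 R) * (g * c * g⁻¹) * (certFullE6.nw Ω (word0 R))⁻¹ := by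
  rw [(sig Ω).act_mul (mul_mem hF.mem hc) (inv_mem hF.mem), (sig Ω).act_mul hF.mem hc,
    (sig Ω).act_inv hF.mem, hF.act_g, _root_.mul_inv_rev]
  constructor
  · intro h; rw [h]; group
  · intro h
    calc (sig Ω).act c = (certFullE6.nw Ω (word0 R) * g)⁻¹ *
          (certFullE6.nw Ω (word0 R) * g * (sig Ω).act c * (g⁻¹ * (certFullE6.nw Ω (word0 R))⁻¹)) *
          (certFullE6.nw Ω (word0 R) * g) := by group
      _ = c := by rw [h]; group

theorem act_xg_frame {s : ℕ} (hs : s < 72) (v : Ω) :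
    (sig Ω).act (certFullE6.xg s v) = certFullE6.nw Ω (word0 R) *
      certFullE6.xg (Mmap R s) (v ^ 2) * (certFullE6.nw Ω (word0 R))⁻¹ := by
  rw [act_xg hs, nw_conj_xg (word0_lt hF.lt) (Mmap_lt hF.lt hs), wl_word0 hF.lt hs]

/-- The parameters of a fixed element conjugated into the torus. -/
theorem rel_of_fixed {c : GL chevE6.Idx Ω} (hc : c ∈ chevE6.group Ω)
    (hfix : (sig Ω).act c = c) {w : ℕ → Ωˣ} (hw : g * c * g⁻¹ = certFullE6.torus w) : Rel R w :=
  rel_of_act hF.lt (by rw [← hw]; exact (hF.fixed_iff hc).1 hfix)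

/-- A torus element with the relation gives a fixed element. -/
theorem fixed_of_rel {w : ℕ → Ωˣ} (hw : Rel R w) :
    g⁻¹ * certFullE6.torus w * g ∈ chevE6.group Ω ∧
      (sig Ω).act (g⁻¹ * certFullE6.torus w * g) = g⁻¹ * certFullE6.torus w * g := by
  have hc : g⁻¹ * certFullE6.torus w * g ∈ chevE6.group Ω :=
    mul_mem (mul_mem (inv_mem hF.mem)
      (certFullE6.B_le_group (certFullE6.H_le_B (certFullE6.torus_mem w)))) hF.mem
  refine ⟨hc, (hF.fixed_iff hc).2 ?_⟩
  rw [show g * (g⁻¹ * certFullE6.torus w * g) * g⁻¹ = certFullE6.torus w by group,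
    (sig Ω).act_torus, nw_conj_of_rel hF.lt hw]

end Frame

/-- Normalising the twisting word by a torus element. -/
theorem normalise [IsAlgClosed Ω] {R : List ℕ} (hR : ∀ p ∈ R, p < chevE6.rank)
    {d : ℕ} (hd : 0 < d) {P : Matrix (Fin 6) (Fin 6) ℤ}
    (hP : P * (Amat R)ᵀ = ((d : ℕ) : ℤ) • 1)
    {g : GL chevE6.Idx Ω} (hg : g ∈ chevE6.group Ω)
    (hm : (certFullE6.nw Ω (word0 R))⁻¹ * ((sig Ω).act g * g⁻¹) ∈ chevE6.diagonalSubgroup Ω) :
    ∃ t, Frame R (certFullE6.torus t * g) := by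
  obtain ⟨n, hn⟩ : ∃ n, n = certFullE6.nw Ω (word0 R) := ⟨_, rfl⟩
  rw [← hn] at hm
  rw [certFullE6.diagonalSubgroup_eq] at hm
  obtain ⟨h, hh⟩ := hm
  obtain ⟨X, hX⟩ := exists_mpow hP (units_root hd)
    (fun i : Fin 6 => certFullE6.tchar h (certFullE6.wl R (si i)))
  obtain ⟨t, rfl⟩ := exists_torus (Ω := Ω) X
  refine ⟨t, hR, mul_mem (certFullE6.B_le_group (certFullE6.H_le_B (certFullE6.torus_mem t))) hg,
    ?_⟩
  rw [(sig Ω).act_mul (certFullE6.B_le_group (certFullE6.H_le_B (certFullE6.torus_mem t))) hg,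
    (sig Ω).act_torus, ← hn]
  have hN := certFullE6.N_conj_H (inv_mem (hn ▸ certFullE6.nw_mem_N (F := Ω) (word0_lt hR)))
    (certFullE6.torus_mem ((sig Ω).zAct t))
  rw [inv_inv, certFullE6.diagonalSubgroup_eq] at hN
  obtain ⟨t', ht'⟩ := hN
  have ht'' : n * certFullE6.torus t' * n⁻¹ = certFullE6.torus ((sig Ω).zAct t) := by
    rw [ht']; group
  have key : certFullE6.torus (t' * h) = certFullE6.torus t := by
    have e : t' * h * t⁻¹ * t = t' * h := inv_mul_cancel_right _ _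
    refine torus_eq ?_
    rw [← e, Chi_mul]
    suffices h1 : Chi (t' * h * t⁻¹) = 1 by rw [h1, one_mul]
    refine mpow_W6_inj hR ?_
    funext i
    have hsi := si_lt i.2
    have hwl := certFullE6.wl_lt hR hsi
    rw [mpow_W6 _ hR, Pi.one_apply]
    have h1 := certFullE6.tchar_of_nw_conj (word0_lt hR) (hn ▸ ht'')
      (show Mmap R (si i) < chevE6.nroots from Mmap_lt hR hsi)
    rw [wl_word0 hR hsi, tchar_zAct t hsi, Mmap_eq hR hsi,
      certFullE6.tchar_neg _ hwl] at h1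
    have h2 := congrFun hX i
    rw [mpow_Amat, Pi.mul_apply, mpow_W6 t hR, Pi.pow_apply] at h2
    simp only at h2
    have hmulc : ∀ a b : ℕ → Ωˣ, ∀ s, certFullE6.tchar (a * b) s =
        certFullE6.tchar a s * certFullE6.tchar b s := fun a b s => by
      simp [Cert.tchar, mul_zpow, Finset.prod_mul_distrib]
    have hinv : certFullE6.tchar t⁻¹ (certFullE6.wl R (si i)) =
        (certFullE6.tchar t (certFullE6.wl R (si i)))⁻¹ := by
      simp [Cert.tchar, _root_.inv_zpow]
    show certFullE6.tchar (t' * h * t⁻¹) (certFullE6.wl R (si i)) = 1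
    rw [hmulc, hmulc, hinv, ← h2, ← inv_inv (certFullE6.tchar t' _), ← h1, Chi]
    simp [mul_comm, mul_left_comm]
  rw [map_mul] at key
  calc certFullE6.torus ((sig Ω).zAct t) * (sig Ω).act g * (certFullE6.torus t * g)⁻¹
      = certFullE6.torus ((sig Ω).zAct t) * n * (n⁻¹ * ((sig Ω).act g * g⁻¹)) *
          (certFullE6.torus t)⁻¹ := by group
    _ = n * (certFullE6.torus t' * certFullE6.torus h) * (certFullE6.torus t)⁻¹ := by
        rw [← hh, ← ht'']; group
    _ = n := by rw [key, mul_inv_cancel_right]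

section Start

variable {K : Type*} [Field K] [Fintype K] (hK : Fintype.card K = 4) (ι : K →+* Ω)

/-- A set of elements of the twisted group in `Ω`, conjugate into the split torus. -/
def InTorus (g : GL chevE6.Idx Ω) (P : Set (GL chevE6.Idx Ω)) (R : List ℕ) : Prop :=
  ∀ x ∈ P, ∃ z : ℕ → Ωˣ, g * x * g⁻¹ = certFullE6.torus z ∧ Rel R z

/-- Some representative word fits a set of fixed elements of the torus. -/
theorem exists_rep {P : Set (GL chevE6.Idx Ω)} (hP : ∀ x ∈ P, x ∈ chevE6.group Ω ∧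
    (sig Ω).act x = x) {g : GL chevE6.Idx Ω} (hg : g ∈ chevE6.group Ω)
    (hgP : ∀ x ∈ P, g * x * g⁻¹ ∈ chevE6.diagonalSubgroup Ω) :
    ∃ i < classesE6.reps.length, (∀ p ∈ classesE6.reps.getD i [], p < chevE6.rank) ∧
      ∃ g' ∈ chevE6.group Ω, InTorus g' P (classesE6.reps.getD i []) := by
  obtain ⟨k, hk⟩ : ∃ k, k = (sig Ω).act g * g⁻¹ := ⟨_, rfl⟩
  have hkm : k ∈ chevE6.group Ω := hk ▸ mul_mem (act_mem hg) (inv_mem hg)
  obtain ⟨b, hb, a, ha, W, hW, u, hu, hke⟩ := certFullE6.bruhat_exists hkm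
  obtain ⟨v, hv, d, hd, rfl⟩ := certFullE6.mem_borel_iff.1 hb
  have hrel : ∀ x ∈ P, ∀ z, g * x * g⁻¹ = certFullE6.torus z → ∀ s < 72,
      certFullE6.tchar z (certFullE6.wl (W.reverse ++ w0) s) =
        (certFullE6.tchar z s ^ 2)⁻¹ := by
    intro x hx z hz
    have hkz : k * certFullE6.torus z = certFullE6.torus ((sig Ω).zAct z) * k := by
      rw [← (sig Ω).act_torus, ← hz, (sig Ω).act_mul (mul_mem hg (hP x hx).1) (inv_mem hg),
        (sig Ω).act_mul hg (hP x hx).1, (sig Ω).act_inv hg, (hP x hx).2, hk]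
      group
    have hn := (certFullE6.conj_factors hW hv hd ha hu (by rw [← hke]; exact hkz)).1
    intro s hs
    have hWr : ∀ p ∈ W.reverse, p < chevE6.rank := fun p hp => hW p (List.mem_reverse.1 hp)
    have hρ := rho_lt hs
    have hlt := certFullE6.wl_lt hWr (show graphE6.ρ s < chevE6.nroots from hρ)
    rw [certFullE6.wl_append, wl_w0 hs, certFullE6.wl_neg hWr hρ,
      certFullE6.tchar_neg z hlt]
    have h := certFullE6.tchar_of_nw_conj hW hn hlt
    have e : certFullE6.wl W (certFullE6.wl W.reverse (graphE6.ρ s)) = graphE6.ρ s := by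
      exact certFullE6.wl_reverse hW (show graphE6.ρ s < chevE6.nroots from hρ)
    rw [e, tchar_zAct z hs] at h
    rw [h]
  have hV : ∀ p ∈ W.reverse ++ w0, p < chevE6.rank := fun p hp =>
    (List.mem_append.1 hp).elim (fun h => hW p (List.mem_reverse.1 h)) (lt_six w0_ok p)
  obtain ⟨i, hi, w, hw, hR, hVw⟩ := certFullE6.exists_rep_of_check classesE6_check hV
  refine ⟨i, hi, hR, _,
    mul_mem (certFullE6.N_le_group (certFullE6.nw_mem_N (F := Ω) fun p hp =>
      hw p (List.mem_reverse.1 hp))) hg, fun x hx => ?_⟩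
  have hwr : ∀ p ∈ w.reverse, p < chevE6.rank := fun p hp => hw p (List.mem_reverse.1 hp)
  have hz := hgP x hx
  rw [certFullE6.diagonalSubgroup_eq] at hz
  obtain ⟨z, hz⟩ := hz
  have hz' := certFullE6.N_conj_H (certFullE6.nw_mem_N (F := Ω) hwr) (certFullE6.torus_mem z)
  rw [certFullE6.diagonalSubgroup_eq] at hz'
  obtain ⟨z', hz'⟩ := hz'
  refine ⟨z', by rw [hz', hz]; group, ?_⟩
  have hC : Chi z' = mpow (W6 w)ᵀ (Chi z) := by
    rw [mpow_W6 z hw]
    funext j
    have hsi := si_lt j.2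
    have h := certFullE6.tchar_of_nw_conj hwr hz'.symm (certFullE6.wl_lt hw hsi)
    have e : certFullE6.wl w.reverse (certFullE6.wl w (si j)) = si j := by
      have := certFullE6.wl_reverse (L := w.reverse) hwr hsi
      rwa [List.reverse_reverse] at this
    rw [e] at h
    exact h
  have hVz : mpow (W6 (W.reverse ++ w0))ᵀ (Chi z) = (Chi z ^ 2)⁻¹ := by
    rw [mpow_W6 z hV]
    funext j
    exact hrel x hx z hz.symm _ (si_lt j.2)
  have hmat : W6 (classesE6.reps.getD i []) * W6 w = W6 w * W6 (W.reverse ++ w0) := by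
    have e1 : W6 w * W6 w.reverse = 1 := by
      rw [W6_eq, W6_eq]; exact certFullE6.wmat_reverse' hw
    have e2 : W6 (W.reverse ++ w0) = W6 w.reverse * W6 (classesE6.reps.getD i []) * W6 w := by
      rw [W6_eq, W6_eq, W6_eq, W6_eq]; exact hVw
    rw [e2, ← Matrix.mul_assoc, ← Matrix.mul_assoc, e1, Matrix.one_mul]
  rw [Rel, mpow_Amat, hC, ← mpow_mul, ← Matrix.transpose_mul, hmat, Matrix.transpose_mul,
    mpow_mul, hVz, map_inv, map_pow, inv_mul_cancel]

omit [CharP Ω 2] in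
theorem exists_into_diag [IsAlgClosed Ω] {p e : ℕ} [Fact p.Prime] (he : 0 < e) (he2 : 2 ∣ e)
    (hpe : p ∣ 2 ^ e - 1) (hpW : ¬ p ∣ 51840) [CharP Ω 2]
    {P : Subgroup ↥(twistedE6 K 2)} (hP : IsPGroup p P) (hK : Fintype.card K = 4) :
    ∃ g ∈ chevE6.group Ω, ∀ x ∈ P,
      g * emb ι (x : GL chevE6.Idx K) * g⁻¹ ∈ chevE6.diagonalSubgroup Ω := by
  classical
  obtain ⟨L, _, _, _, hL⟩ : ∃ (L : Type) (_ : Field L) (_ : Fintype L) (_ : CharP L 2),
      Fintype.card L = 2 ^ e := by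
    haveI := Fact.mk Nat.prime_two
    letI : Fintype (GaloisField 2 e) := Fintype.ofFinite _
    exact ⟨GaloisField 2 e, inferInstance, inferInstance, inferInstance, by
      rw [← Nat.card_eq_fintype_card, GaloisField.card 2 e he.ne']⟩
  haveI := Fact.mk Nat.prime_two
  obtain ⟨j⟩ : Nonempty (L →+* Ω) := by
    letI := ZMod.algebra L 2
    letI := ZMod.algebra Ω 2
    haveI : Algebra.IsAlgebraic (ZMod 2) L := Algebra.IsAlgebraic.of_finite _ _
    exact ⟨(IsAlgClosed.lift : L →ₐ[ZMod 2] Ω).toRingHom⟩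
  obtain ⟨κ, hκ⟩ : ∃ κ : K →+* L, j.comp κ = ι := by
    have hr : Set.range j = {t : Ω | iterateFrobenius Ω 2 e t = t} :=
      CertFull.range_eq_fixed j hL fun t => iterateFrobenius_def 2 e t
    have hmem : ∀ t : K, ι t ∈ Set.range j := fun t => by
      obtain ⟨k, rfl⟩ := he2
      rw [hr, Set.mem_setOf_eq, iterateFrobenius_def, ← map_pow]
      congr 1
      rw [pow_mul, show (2 : ℕ) ^ 2 = Fintype.card K by rw [hK]; norm_num,
        FiniteField.pow_card_pow]
    choose κ hκ using hmem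
    exact ⟨{ toFun := κ
             map_one' := j.injective (by rw [hκ, map_one, map_one])
             map_mul' := fun a b => j.injective (by rw [hκ, map_mul, map_mul, hκ, hκ])
             map_zero' := j.injective (by rw [hκ, map_zero, map_zero])
             map_add' := fun a b => j.injective (by rw [hκ, map_add, map_add, hκ, hκ]) },
      RingHom.ext hκ⟩
  subst hκ
  have hle : twistedE6 K 2 ≤ chevE6.group K := by
    haveI := charP_K hK
    rw [twisted_eq hK]
    exact Twist.fix_le_group _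
  let φ : ↥(twistedE6 K 2) →* ↥(chevE6.group L) :=
    ((emb κ).comp (twistedE6 K 2).subtype).codRestrict (chevE6.group L)
      fun x => certFullE6.mapHom_mem_group κ (hle x.2)
  have hL1 : ((Fintype.card L : ℕ) : ZMod p) = 1 := by
    have h := (ZMod.natCast_eq_zero_iff _ p).2 hpe
    rw [Nat.cast_sub Nat.one_le_two_pow, Nat.cast_one, sub_eq_zero] at h
    rw [hL, h]
  obtain ⟨g, -, hg⟩ := certFullE6.exists_conj_diag
    (certFullE6.not_dvd_torus_index (L := L) chainE6_ok chainE6_len hL1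
      (by rw [CycToriInst.length_chainWords,
        show (chainE6.map List.length).prod = 51840 by decide +kernel]; exact hpW))
    (H := ⊤) le_top (P := P.map φ) le_top (hP.map φ)
  refine ⟨emb j (g : GL chevE6.Idx L), certFullE6.mapHom_mem_group j g.2, fun x hx => ?_⟩
  have h := hg (φ x) ⟨x, hx, rfl⟩
  rw [certFullE6.diagonalSubgroup_eq] at h
  obtain ⟨w, hw⟩ := h
  have e : emb (j.comp κ) (x : GL chevE6.Idx K) = emb j ((φ x : ↥(chevE6.group L)) :
      GL chevE6.Idx L) := Units.ext (Matrix.ext fun _ _ => rfl)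
  rw [e, ← map_mul, ← map_inv, ← map_mul]
  simp only [Subgroup.coe_mul, Subgroup.coe_inv] at hw
  rw [← hw, emb, certFullE6.torus_mapHom]
  exact certFullE6.torus_mem _

end Start

end Cfsg.Agent.Fus.TwE6Two
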