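import Cfsg.Agent.Lib.Fus.TwE6Two.Engine

/-! Reductive subgroups `H X_Φ`: their commutators lie in `X_Φ`, and reflections in roots of `Φ`
lie in them. -/

set_option autoImplicit false
set_option maxRecDepth 20000

namespace Cfsg.Agent.Fus.TwE6Two

open Cfsg.Lie Cfsg.Agent.Lie.Chev Matrix
open scoped commutatorElement

variable {Ω : Type*} [Field Ω]

/-- The subgroup generated by the root subgroups of a set of roots. -/
def XS (Ω : Type*) [Field Ω] (inΦ : ℕ → Bool) : Subgroup (GL chevE6.Idx Ω) :=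
  Subgroup.closure {y | ∃ s < 72, inΦ s = true ∧ ∃ t : Ω, y = certFullE6.xg s t}

theorem XS_xg {inΦ : ℕ → Bool} {s : ℕ} (hs : s < 72) (h : inΦ s = true) (t : Ω) :
    certFullE6.xg s t ∈ XS Ω inΦ :=
  Subgroup.subset_closure ⟨s, hs, h, t, rfl⟩

theorem H_conj_XS {inΦ : ℕ → Bool} {a u : GL chevE6.Idx Ω}
    (ha : a ∈ chevE6.diagonalSubgroup Ω) (hu : u ∈ XS Ω inΦ) : a * u * a⁻¹ ∈ XS Ω inΦ := by
  rw [certFullE6.diagonalSubgroup_eq] at ha
  obtain ⟨z, rfl⟩ := ha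
  have hle : XS Ω inΦ ≤ (XS Ω inΦ).comap (MulAut.conj (certFullE6.torus z)).toMonoidHom := by
    refine (Subgroup.closure_le _).2 ?_
    rintro _ ⟨s, hs, h, t, rfl⟩
    show certFullE6.torus z * certFullE6.xg s t * (certFullE6.torus z)⁻¹ ∈ XS Ω inΦ
    rw [certFullE6.torus_conj_xg z (show s < chevE6.nroots from hs)]
    exact XS_xg hs h _
  exact hle hu

theorem mem_sup_XS {inΦ : ℕ → Bool} {v : GL chevE6.Idx Ω}
    (hv : v ∈ chevE6.diagonalSubgroup Ω ⊔ XS Ω inΦ) :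
    ∃ h ∈ chevE6.diagonalSubgroup Ω, ∃ u ∈ XS Ω inΦ, v = h * u := by
  rw [Subgroup.sup_eq_closure] at hv
  induction hv using Subgroup.closure_induction with
  | mem v hv =>
    rcases hv with hv | hv
    · exact ⟨v, hv, 1, one_mem _, (mul_one v).symm⟩
    · exact ⟨1, one_mem _, v, hv, (one_mul v).symm⟩
  | one => exact ⟨1, one_mem _, 1, one_mem _, (mul_one 1).symm⟩
  | mul a b _ _ iha ihb =>
    obtain ⟨h, hh, u, hu, rfl⟩ := iha
    obtain ⟨k, hk, w, hw, rfl⟩ := ihb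
    refine ⟨h * k, mul_mem hh hk, k⁻¹ * u * (k⁻¹)⁻¹ * w,
      mul_mem (H_conj_XS (inv_mem hk) hu) hw, ?_⟩
    group
  | inv a _ iha =>
    obtain ⟨h, hh, u, hu, rfl⟩ := iha
    refine ⟨h⁻¹, inv_mem hh, h * u⁻¹ * h⁻¹, H_conj_XS hh (inv_mem hu), ?_⟩
    group

theorem commutator_mem_XS {inΦ : ℕ → Bool} {v w : GL chevE6.Idx Ω}
    (hv : v ∈ chevE6.diagonalSubgroup Ω ⊔ XS Ω inΦ)
    (hw : w ∈ chevE6.diagonalSubgroup Ω ⊔ XS Ω inΦ) : ⁅v, w⁆ ∈ XS Ω inΦ := by
  obtain ⟨h, hh, u, hu, rfl⟩ := mem_sup_XS hv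
  obtain ⟨k, hk, w', hw', rfl⟩ := mem_sup_XS hw
  have hc : h⁻¹ * k⁻¹ = k⁻¹ * h⁻¹ := certFullE6.H_commutative (inv_mem hh) (inv_mem hk)
  have e : ⁅h * u, k * w'⁆ = (h * k) *
      (k⁻¹ * u * (k⁻¹)⁻¹ * w' * u⁻¹ * (h⁻¹ * w'⁻¹ * (h⁻¹)⁻¹)) * (h * k)⁻¹ := by
    calc ⁅h * u, k * w'⁆ = (h * k) * (k⁻¹ * u * (k⁻¹)⁻¹ * w' * u⁻¹ *
          (h⁻¹ * w'⁻¹ * (h⁻¹)⁻¹)) * (h⁻¹ * k⁻¹) := by rw [commutatorElement_def]; group
      _ = _ := by rw [hc, _root_.mul_inv_rev]
  rw [e]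
  exact H_conj_XS (mul_mem hh hk) (mul_mem (mul_mem (mul_mem (H_conj_XS (inv_mem hk) hu) hw')
    (inv_mem hu)) (H_conj_XS (inv_mem hh) (inv_mem hw')))

theorem wl_cancel {A : List ℕ} (hA : ∀ p ∈ A, p < chevE6.rank) {s : ℕ} (hs : s < 72) :
    certFullE6.wl A.reverse (certFullE6.wl A s) = s := by
  have hA' : ∀ p ∈ A.reverse, p < chevE6.rank := fun p hp => hA p (List.mem_reverse.1 hp)
  rw [← certFullE6.wl_append]
  exact certFullE6.wl_eq_self_of_wmat (fun p hp => (List.mem_append.1 hp).elim (hA' p) (hA p))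
    (by rw [certFullE6.wmat_append hA' hA]; exact certFullE6.wmat_reverse' hA) hs

theorem wl_cancel' {A : List ℕ} (hA : ∀ p ∈ A, p < chevE6.rank) {s : ℕ} (hs : s < 72) :
    certFullE6.wl A (certFullE6.wl A.reverse s) = s := by
  simpa using wl_cancel (A := A.reverse) (fun p hp => hA p (List.mem_reverse.1 hp)) hs

theorem nw_mul_nw_reverse {A : List ℕ} (hA : ∀ p ∈ A, p < chevE6.rank) :
    certFullE6.nw Ω A * certFullE6.nw Ω A.reverse ∈ chevE6.diagonalSubgroup Ω := by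
  rw [← certFullE6.nw_append]
  refine nw_mem_H_of_simple (fun p hp => (List.mem_append.1 hp).elim (hA p) fun h =>
    hA p (List.mem_reverse.1 h)) (List.map_congr_left fun i hi => ?_)
  rw [List.mem_range] at hi
  rw [certFullE6.wl_append, wl_cancel' hA (si_lt hi)]

/-- Equal action on fundamental roots: representatives differ by the torus. -/
theorem nw_mem_of_same {X : Subgroup (GL chevE6.Idx Ω)}
    (hH : chevE6.diagonalSubgroup Ω ≤ X) {L W : List ℕ} (hL : ∀ p ∈ L, p < chevE6.rank)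
    (hW : ∀ p ∈ W, p < chevE6.rank)
    (h : ∀ i < 6, certFullE6.wl W (si i) = certFullE6.wl L (si i))
    (hWX : certFullE6.nw Ω W ∈ X) : certFullE6.nw Ω L ∈ X := by
  have hW' : ∀ p ∈ W.reverse, p < chevE6.rank := fun p hp => hW p (List.mem_reverse.1 hp)
  have h1 : certFullE6.nw Ω W.reverse * certFullE6.nw Ω L ∈ chevE6.diagonalSubgroup Ω := by
    rw [← certFullE6.nw_append]
    refine nw_mem_H_of_simple (fun p hp => (List.mem_append.1 hp).elim (hW' p) (hL p))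
      (List.map_congr_left fun i hi => ?_)
    rw [List.mem_range] at hi
    rw [certFullE6.wl_append, ← h i hi, wl_cancel hW (si_lt hi)]
  have h2 : certFullE6.nw Ω W.reverse ∈ X := by
    have := mul_mem (inv_mem hWX) (hH (nw_mul_nw_reverse (Ω := Ω) hW))
    rwa [inv_mul_cancel_left] at this
  have := mul_mem (inv_mem h2) (hH h1)
  rwa [inv_mul_cancel_left] at this

variable [CharP Ω 2]

/-- The reflection in a root of `Φ` lies in `H X_Φ`. -/
theorem nw_refl_mem {inΦ : ℕ → Bool} (hsymm : ∀ s < 72, inΦ s = true → inΦ (71 - s) = true)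
    {L : List ℕ} (hL : ∀ p ∈ L, p < chevE6.rank) {p : ℕ} (hp : p < 6)
    (hr : inΦ (certFullE6.wl L (si p)) = true) :
    certFullE6.nw Ω (L ++ [p] ++ L.reverse) ∈ chevE6.diagonalSubgroup Ω ⊔ XS Ω inΦ := by
  have hp' : ∀ q ∈ [p], q < chevE6.rank := fun q hq => by rw [List.mem_singleton] at hq; exact hq ▸ hp
  have hlt : certFullE6.wl L (si p) < 72 := certFullE6.wl_lt hL (si_lt hp)
  have hroot : ∀ t : Ω, certFullE6.nw Ω L * certFullE6.xg (si p) t * (certFullE6.nw Ω L)⁻¹ ∈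
      chevE6.diagonalSubgroup Ω ⊔ XS Ω inΦ := fun t => by
    rw [nw_conj_xg hL (si_lt hp)]
    exact Subgroup.mem_sup_right (XS_xg hlt hr t)
  have hnegr : ∀ t : Ω, certFullE6.nw Ω L * certFullE6.xg (chevE6.neg (si p)) t *
      (certFullE6.nw Ω L)⁻¹ ∈ chevE6.diagonalSubgroup Ω ⊔ XS Ω inΦ := fun t => by
    rw [nw_conj_xg hL (certFullE6.neg_lt (si_lt hp)), certFullE6.wl_neg hL (si_lt hp),
      certFullE6.neg_eq (show certFullE6.wl L (si p) < chevE6.nroots from hlt)]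
    exact Subgroup.mem_sup_right (XS_xg (by
      show chevE6.nroots - 1 - certFullE6.wl L (si p) < 72
      have : chevE6.nroots = 72 := rfl
      omega) (hsymm _ hlt hr) t)
  have e : certFullE6.nw Ω (L ++ [p] ++ L.reverse) =
      (certFullE6.nw Ω L * certFullE6.xg (si p) 1 * (certFullE6.nw Ω L)⁻¹) *
      (certFullE6.nw Ω L * certFullE6.xg (chevE6.neg (si p)) (-(1 : Ω)⁻¹) *
        (certFullE6.nw Ω L)⁻¹) *
      (certFullE6.nw Ω L * certFullE6.xg (si p) 1 * (certFullE6.nw Ω L)⁻¹) *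
      (certFullE6.nw Ω L * certFullE6.nw Ω L.reverse) := by
    rw [certFullE6.nw_append, certFullE6.nw_append]
    have : certFullE6.nw Ω [p] = certFullE6.xg (si p) 1 *
        certFullE6.xg (chevE6.neg (si p)) (-(1 : Ω)⁻¹) * certFullE6.xg (si p) 1 := by
      rw [si_eq hp]
      simp [Cert.nw, Cert.np, Cert.ng]
    rw [this]; group
  rw [e]
  exact mul_mem (mul_mem (mul_mem (hroot 1) (hnegr _)) (hroot 1))
    (Subgroup.mem_sup_left (nw_mul_nw_reverse hL))

/-- A subgroup of a simple group normalised by a subgroup and centralised by an outside element. -/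
theorem not_coatom_of_normalized {G : Type*} [Group G] [IsSimpleGroup G]
    (hnc : ¬ IsMulCommutative G) {N D : Subgroup G} (hD : D ≠ ⊥)
    (hN : N ≤ Subgroup.normalizer (D : Set G)) {r : G}
    (hr : r ∈ Subgroup.centralizer (D : Set G)) (hrN : r ∉ N) : ¬ IsCoatom N := by
  intro hco
  have htop : Subgroup.normalizer (D : Set G) = ⊤ :=
    hco.2 _ (lt_of_le_of_ne hN fun e => hrN (e ▸ Subgroup.centralizer_le_normalizer _ hr))
  haveI : D.Normal := Subgroup.normalizer_eq_top_iff.1 htop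
  have hDtop : D = ⊤ := (‹D.Normal›.eq_bot_or_eq_top).resolve_left hD
  have hrc : r ∈ Subgroup.center G := Subgroup.mem_center_iff.2 fun y =>
    Subgroup.mem_centralizer_iff.1 hr y (by rw [hDtop]; trivial)
  rcases (inferInstance : (Subgroup.center G).Normal).eq_bot_or_eq_top with h | h
  · rw [h, Subgroup.mem_bot] at hrc
    exact hrN (hrc ▸ one_mem N)
  · refine hnc ⟨⟨fun a b => ?_⟩⟩
    have := Subgroup.mem_center_iff.1 (h ▸ Subgroup.mem_top a : a ∈ Subgroup.center G) b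
    exact this.symm

end Cfsg.Agent.Fus.TwE6Two
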