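import Cfsg.Agent.Lib.Fus.TwE6Two.Seven
import Cfsg.Agent.Lib.Fus.TwE6Two.Eleven

/-! In ²E₆(2) no normaliser of a nontrivial subgroup of prime power order `p ^ m`, `p > 5`, is
maximal. -/

set_option autoImplicit false
set_option maxRecDepth 20000

namespace Cfsg.Agent.Fus.TwE6Two

open Cfsg.Lie

variable {K : Type*} [Field K] [Fintype K] (hK : Fintype.card K = 4)
include hK

theorem normalizer_not_coatom {p : ℕ} (hp : p.Prime) (h5 : 5 < p)
    {P : Subgroup ↥(twistedE6 K 2)} (hP : IsPGroup p P) (hP1 : P ≠ ⊥) :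
    ¬ IsCoatom (Subgroup.normalizer (P : Set ↥(twistedE6 K 2))) := by
  haveI := charP_K hK
  haveI := Fact.mk hp
  haveI : Finite ↥(twistedE6 K 2) := Nat.finite_of_card_ne_zero (by rw [card_twisted hK]; norm_num)
  obtain ⟨m, hm⟩ := IsPGroup.iff_card.1 hP
  have hm0 : m ≠ 0 := fun h => hP1 (Subgroup.card_eq_one.1 (by rw [hm, h, pow_zero]))
  have hdvd : p ^ m ∣ 76532479683774853939200 := by
    rw [← card_twisted hK, ← hm]; exact Subgroup.card_subgroup_dvd_card P
  have hcases : p = 7 ∨ p = 11 ∨ p = 13 ∨ p = 17 ∨ p = 19 := by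
    have h1 : p ∣ 2 ^ 36 * 3 ^ 9 * 5 ^ 2 * 7 ^ 2 * 11 * 13 * 17 * 19 := by
      norm_num
      exact dvd_trans (dvd_pow_self p hm0) hdvd
    have hq : ∀ {q : ℕ}, q.Prime → p ∣ q → p = q := fun hq h =>
      (Nat.prime_dvd_prime_iff_eq hp hq).1 h
    rcases (Nat.Prime.dvd_mul hp).1 h1 with h1 | h
    · rcases (Nat.Prime.dvd_mul hp).1 h1 with h1 | h
      · rcases (Nat.Prime.dvd_mul hp).1 h1 with h1 | h
        · rcases (Nat.Prime.dvd_mul hp).1 h1 with h1 | h
          · rcases (Nat.Prime.dvd_mul hp).1 h1 with h1 | h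
            · rcases (Nat.Prime.dvd_mul hp).1 h1 with h1 | h
              · rcases (Nat.Prime.dvd_mul hp).1 h1 with h1 | h
                · have := hq Nat.prime_two (hp.dvd_of_dvd_pow h1); omega
                · have := hq Nat.prime_three (hp.dvd_of_dvd_pow h); omega
              · have := hq Nat.prime_five (hp.dvd_of_dvd_pow h); omega
            · exact Or.inl (hq (by norm_num) (hp.dvd_of_dvd_pow h))
          · exact Or.inr (Or.inl (hq (by norm_num) h))
        · exact Or.inr (Or.inr (Or.inl (hq (by norm_num) h)))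
      · exact Or.inr (Or.inr (Or.inr (Or.inl (hq (by norm_num) h))))
    · exact Or.inr (Or.inr (Or.inr (Or.inr (hq (by norm_num) h))))
  have hle : ∀ e : ℕ, ¬ p ^ (e + 1) ∣ 76532479683774853939200 → m ≤ e := fun e he => by
    by_contra h
    exact he (dvd_trans (pow_dvd_pow p (by omega)) hdvd)
  rcases hcases with rfl | rfl | rfl | rfl | rfl
  · rcases (show m = 1 ∨ m = 2 from by have := hle 2 (by norm_num); omega) with rfl | rfl
    · exact normalizer_not_coatom_seven hK (by rw [hm, pow_one])
    · let ι : K →+* AlgebraicClosure K := algebraMap K (AlgebraicClosure K)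
      haveI : CharP (AlgebraicClosure K) 2 := charP_of_injective_ringHom ι.injective 2
      exact normalizer_not_coatom_fortynine hK hP (pow_seven hK ι hP hm) hm
  all_goals obtain rfl : m = 1 := by have := hle 1 (by norm_num); omega
  all_goals rw [pow_one] at hm
  · exact normalizer_not_coatom_eleven hK hm
  · exact normalizer_not_coatom_thirteen hK (Or.inl rfl) hm
  · exact normalizer_not_coatom_thirteen hK (Or.inr rfl) hm
  · exact normalizer_not_coatom_nineteen hK hm

end Cfsg.Agent.Fus.TwE6Two
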