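import Cfsg.Agent.Lib.Fus.TwE6Two.Engine

/-! The normalisers of the subgroups of order 19 and 49. -/

set_option autoImplicit false
set_option maxRecDepth 20000

namespace Cfsg.Agent.Fus.TwE6Two

open Cfsg.Lie Cfsg.Agent.Lie.Chev Matrix

/-- The roots of the component for 19. -/
def T19 : List (List ℕ) := [[0, 68, 45], [3, 0, 10], [26, 61, 0]]
/-- The roots of a component for `7²`. -/
def T49 : List (List ℕ) := [[0, 55, 71], [16, 0, 61], [0, 10, 0]]

theorem T19_ok : compCheck R19 3 3 true T19 = true := by decide +kernel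
theorem T19_orb : (orbitRoots R19 3 3 T19).all
    (fun s => decide (s < 72) && ev three19.v₁ s % 3 == 0) = true := by decide +kernel
theorem T19_eig : eigCheck 3 R19 three19.v₁ = true := by decide +kernel
theorem T19_moved : ev e19 (tabR T19 (0 : Fin 3) 1) % 19 ≠ 0 ∧ ev three19.v₁ 56 % 3 ≠ 0 := by
  decide +kernel
theorem T49_ok : compCheck R7 3 1 false T49 = true := by decide +kernel
theorem T49_orb : (orbitRoots R7 3 1 T49).all
    (fun s => decide (s < 72) && ev three7.v₁ s % 3 == 0) = true := by decide +kernel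
theorem T49_eig : eigCheck 3 R7 three7.v₁ = true := by decide +kernel
theorem T49_moved : ev e7b (tabR T49 (0 : Fin 3) 1) % 7 ≠ 0 ∧ ev three7.v₁ 56 % 3 ≠ 0 := by
  decide +kernel

variable {K : Type*} [Field K] [Fintype K] (hK : Fintype.card K = 4)
include hK

theorem normalizer_not_coatom_nineteen {P : Subgroup ↥(twistedE6 K 2)} (hP : Nat.card P = 19) :
    ¬ IsCoatom (Subgroup.normalizer (P : Set ↥(twistedE6 K 2))) := by
  haveI := charP_K hK
  haveI : Fact (Nat.Prime 19) := ⟨by norm_num⟩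
  let ι : K →+* AlgebraicClosure K := algebraMap K (AlgebraicClosure K)
  haveI : CharP (AlgebraicClosure K) 2 := charP_of_injective_ringHom ι.injective 2
  haveI : Finite P := Nat.finite_of_card_ne_zero (by rw [hP]; norm_num)
  obtain ⟨x, hx⟩ := exists_prime_orderOf_dvd_card' (G := P) 19 (by rw [hP])
  have hx' : orderOf (x : ↥(twistedE6 K 2)) = 19 := by rw [Subgroup.orderOf_coe, hx]
  obtain ⟨g, hF, z, η, hη, hz, hChi, hC⟩ := exists_frame_one hK ι (e := 18) (by norm_num)
    (by norm_num) (by norm_num) (by norm_num) certs19_ok R19_lt (d := 57) (by norm_num) inv19_ok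
    one19 eig19 reg19 hx'
  have hgen : ∀ y ∈ P, ∃ m : ℕ, (x : ↥(twistedE6 K 2)) ^ m = y := fun y hy => by
    have hmem : (⟨y, hy⟩ : P) ∈ Subgroup.zpowers x := by
      rw [Subgroup.eq_top_of_card_eq (Subgroup.zpowers x) (by rw [Nat.card_zpowers, hx, hP])]
      exact Subgroup.mem_top _
    rw [← mem_powers_iff_mem_zpowers, Submonoid.mem_powers_iff] at hmem
    obtain ⟨m, hm⟩ := hmem
    exact ⟨m, congrArg Subtype.val hm⟩
  refine not_coatom_of_three hK ι hF (p := 19) (fun y hy => ?_) (fun c hc hfix h => ?_)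
    three19_ok (by decide +kernel) T19_eig ⟨56, by norm_num, T19_moved.2⟩ (n := 3) (k := 3) (fl := true)
    (by norm_num) le_rfl (fun _ => by decide) T19_ok T19_orb (E := 18) (by norm_num) (by norm_num)
    (by norm_num) x.2 (by rw [← hx']; exact pow_orderOf_eq_one _) hz
    (i := (0 : Fin 3)) (j := 1) (by decide) ?_
  · obtain ⟨m, rfl⟩ := hgen y hy
    rw [Subgroup.coe_pow, map_pow, ← conj_pow, hz, ← map_pow]
    exact certFullE6.torus_mem _
  · exact hC c hc hfix (h _ x.2)
  · intro h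
    rw [tchar_ev (η₁ := η) (η₂ := 1) (v₁ := e19) (v₂ := e19) z (by simp [hChi, expv_one])
      (show tabR T19 (0 : Fin 3) 1 < 72 by decide +kernel)] at h
    simp only [_root_.one_zpow, mul_one] at h
    rw [← _root_.zpow_zero η] at h
    have := dvd_of_zpow_eq hη h
    rw [sub_zero] at this
    exact T19_moved.1 (Int.emod_eq_zero_of_dvd this)

theorem normalizer_not_coatom_fortynine {P : Subgroup ↥(twistedE6 K 2)} (hP : IsPGroup 7 P)
    (hexp : ∀ x ∈ P, x ^ 7 = 1) (hcard : Nat.card P = 7 ^ 2) :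
    ¬ IsCoatom (Subgroup.normalizer (P : Set ↥(twistedE6 K 2))) := by
  haveI := charP_K hK
  haveI : Fact (Nat.Prime 7) := ⟨by norm_num⟩
  let ι : K →+* AlgebraicClosure K := algebraMap K (AlgebraicClosure K)
  haveI : CharP (AlgebraicClosure K) 2 := charP_of_injective_ringHom ι.injective 2
  obtain ⟨g, hF, ζ, hζ, hall, hex⟩ := exists_frame_seven hK ι hP hexp hcard
  obtain ⟨x, hx, z, hz, hChi⟩ := hex 0 1
  refine not_coatom_of_three hK ι hF (p := 7) (fun y hy => ?_) (fun c hc hfix h => ?_)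
    three7_ok (by decide +kernel) T49_eig ⟨56, by norm_num, T49_moved.2⟩ (n := 3) (k := 1) (fl := false)
    (by norm_num) le_rfl (fun h => by simp at h) T49_ok T49_orb (E := 6) (by norm_num) (by norm_num)
    (by norm_num) hx (hexp x hx) hz (i := (0 : Fin 3)) (j := 1) (by decide) ?_
  · obtain ⟨w, -, -, -, -, hw, -⟩ := hall y hy
    rw [hw]
    exact certFullE6.torus_mem _
  · obtain ⟨Z, hZdef⟩ : ∃ Z : Set (ℕ → (AlgebraicClosure K)ˣ), Z = {w | ∃ y ∈ P,
        g * emb ι (y : GL chevE6.Idx K) * g⁻¹ = certFullE6.torus w} := ⟨_, rfl⟩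
    have hgc : g * c * g⁻¹ ∈ chevE6.diagonalSubgroup (AlgebraicClosure K) := by
      refine regular_centralizer reg7 (Z := Z) (fun v hv => ?_)
        (mul_mem (mul_mem hF.mem hc) (inv_mem hF.mem)) fun w hw => ?_
      · simp only [List.mem_cons, List.not_mem_nil, or_false] at hv
        rcases hv with rfl | rfl
        · obtain ⟨y, hy, w, hw, hC⟩ := hex 1 0
          exact ⟨w, hZdef ▸ ⟨y, hy, hw⟩, ζ, hζ, by rw [hC, pow_zero, pow_one, expv_one, mul_one]⟩
        · obtain ⟨y, hy, w, hw, hC⟩ := hex 0 1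
          exact ⟨w, hZdef ▸ ⟨y, hy, hw⟩, ζ, hζ, by rw [hC, pow_zero, pow_one, expv_one, one_mul]⟩
      · rw [hZdef] at hw
        obtain ⟨y, hy, hy'⟩ := hw
        rw [← hy']
        calc g * c * g⁻¹ * (g * emb ι (y : GL chevE6.Idx K) * g⁻¹)
            = g * (c * emb ι (y : GL chevE6.Idx K)) * g⁻¹ := by group
          _ = _ := by rw [(h y hy).eq]; group
    rw [certFullE6.diagonalSubgroup_eq] at hgc
    obtain ⟨w, hw⟩ := hgc
    exact ⟨w, hw.symm, hF.rel_of_fixed hc hfix hw.symm⟩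
  · intro h
    rw [tchar_ev (η₁ := ζ ^ 0) (η₂ := ζ ^ 1) (v₁ := e7a) (v₂ := e7b) z hChi
      (show tabR T49 (0 : Fin 3) 1 < 72 by decide +kernel)] at h
    simp only [pow_zero, pow_one, _root_.one_zpow, one_mul] at h
    rw [← _root_.zpow_zero ζ] at h
    have := dvd_of_zpow_eq hζ h
    rw [sub_zero] at this
    exact T49_moved.1 (Int.emod_eq_zero_of_dvd this)

end Cfsg.Agent.Fus.TwE6Two
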