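import Cfsg.Agent.Lib.Fus.TwE6Two.Data

/-! Frames of the subgroups of order 7², 13, 17 and 19 (regular in the torus), and the common first
steps for the others. -/

set_option autoImplicit false
set_option maxRecDepth 20000

namespace Cfsg.Agent.Fus.TwE6Two

open Cfsg.Lie Cfsg.Agent.Lie.Chev Matrix

variable {Ω : Type*} [Field Ω]

theorem expv_eq_one {η : Ωˣ} {p : ℕ} (hη : η ^ p = 1) {v : Fin 6 → ℤ}
    (h : ∀ i, (p : ℤ) ∣ v i) : expv η v = 1 := by
  funext i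
  obtain ⟨d, hd⟩ := h i
  rw [expv, hd, _root_.zpow_mul, zpow_natCast, hη, _root_.one_zpow, Pi.one_apply]

theorem expv_one (v : Fin 6 → ℤ) : expv (1 : Ωˣ) v = 1 := by
  funext i; simp [expv]

theorem expv_zero (η : Ωˣ) : expv η (0 : Fin 6 → ℤ) = 1 := by
  funext i; simp [expv]

theorem mpow_expv (A : Matrix (Fin 6) (Fin 6) ℤ) (η : Ωˣ) (v : Fin 6 → ℤ) :
    mpow Aᵀ (expv η v) = expv η (A *ᵥ v) := by
  funext k
  rw [mpow_transpose]
  simp only [expv, ← _root_.zpow_mul, zpow_sum_eq, Matrix.mulVec, dotProduct, mul_comm]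

/-- A vector killed modulo `p` by the twisting matrix of `R`. -/
def eigCheck (p : ℕ) (R : List ℕ) (v : Fin 6 → ℤ) : Bool :=
  (List.finRange 6).all fun i => (Amat R *ᵥ v) i % (p : ℤ) == 0

theorem rel_expv {p : ℕ} {R : List ℕ} {v : Fin 6 → ℤ} (h : eigCheck p R v = true) {η : Ωˣ}
    (hη : η ^ p = 1) {z : ℕ → Ωˣ} (hz : Chi z = expv η v) : Rel R z := by
  rw [Rel, hz, mpow_expv]
  refine expv_eq_one hη fun i => Int.dvd_of_emod_eq_zero ?_
  simpa using List.all_eq_true.1 h i (List.mem_finRange i)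

theorem dvd_of_zpow_eq {η : Ωˣ} {p : ℕ} (hη : orderOf η = p) {a b : ℤ} (h : η ^ a = η ^ b) :
    (p : ℤ) ∣ a - b := by
  rw [← hη, orderOf_dvd_iff_zpow_eq_one, _root_.zpow_sub, h, mul_inv_cancel]

theorem orderOf_of_pow {η : Ωˣ} {p : ℕ} [hp : Fact p.Prime] (h : η ^ p = 1) (h1 : η ≠ 1) :
    orderOf η = p := orderOf_eq_prime h h1

variable [CharP Ω 2] {K : Type*} [Field K] [Fintype K] (hK : Fintype.card K = 4) (ι : K →+* Ω)

/-- The image of a subgroup of ²E₆(2). -/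
def imgSet (P : Subgroup ↥(twistedE6 K 2)) : Set (GL chevE6.Idx Ω) :=
  {y | ∃ x ∈ P, emb ι (x : GL chevE6.Idx K) = y}

omit [CharP Ω 2] in
theorem Chi_pow (z : ℕ → Ωˣ) (n : ℕ) : Chi (z ^ n) = Chi z ^ n := by
  funext i
  exact certFullE6.tchar_pow z n (si i)

include hK

/-- A subgroup of exponent `p` in a torus, with the certificate of its word. -/
theorem exists_start [IsAlgClosed Ω] {p e : ℕ} [Fact p.Prime] (he : 0 < e) (he2 : 2 ∣ e)
    (hpe : p ∣ 2 ^ e - 1) (hpW : ¬ p ∣ 51840) {cs : List KerCert}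
    (hcs : checkAll p cs = true) {P : Subgroup ↥(twistedE6 K 2)} (hP : IsPGroup p P)
    (hexp : ∀ x ∈ P, x ^ p = 1) :
    ∃ c ∈ cs, ∃ g ∈ chevE6.group Ω, ∀ x ∈ P, ∃ (z : ℕ → Ωˣ) (a b : Ωˣ), a ^ p = 1 ∧ b ^ p = 1 ∧
      g * emb ι (x : GL chevE6.Idx K) * g⁻¹ = certFullE6.torus z ∧
      Chi z = expv a c.v₁ * expv b c.v₂ := by
  obtain ⟨g₀, hg₀, hd⟩ := exists_into_diag ι he he2 hpe hpW hP hK
  obtain ⟨i, hi, -, g, hg, hT⟩ := exists_rep (P := imgSet ι P)
    (fun y ⟨x, _, hy⟩ => hy ▸ emb_fixed hK ι x.2) hg₀ (fun y ⟨x, hx, hy⟩ => hy ▸ hd x hx)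
  obtain ⟨hj, hck⟩ := checkAll_spec hcs hi
  refine ⟨cs[i], List.getElem_mem hj, g, hg, fun x hx => ?_⟩
  obtain ⟨z, hz, hrel⟩ := hT _ ⟨x, hx, rfl⟩
  have hzp : Chi z ^ p = 1 := by
    rw [← Chi_pow, Chi_eq]
    have h1 : certFullE6.torus (z ^ p) = 1 := by
      rw [map_pow, ← hz, conj_pow, ← map_pow, ← Subgroup.coe_pow, hexp x hx, Subgroup.coe_one,
        map_one, mul_one, mul_inv_cancel]
    funext k
    exact ((dg_eq_iff chevE6 Ω).1 (h1.trans (map_one (dg chevE6 Ω)).symm) _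
      (certFullE6.simple_lt k.2))
  have hpr : ∀ r : Fin 6 → ℤ, (∏ j, Chi z j ^ r j) ^ p = 1 := fun r => by
    rw [← Finset.prod_pow]
    refine Finset.prod_eq_one fun j _ => ?_
    rw [← zpow_natCast, ← _root_.zpow_mul, mul_comm, _root_.zpow_mul, zpow_natCast,
      show Chi z j ^ p = 1 from congrFun hzp j, _root_.one_zpow]
  exact ⟨z, _, _, hpr _, hpr _, hz, KerCert.spec hck hrel fun j => congrFun hzp j⟩

omit hK in
/-- The elements are recovered from their parameters. -/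
theorem eq_of_conj {g : GL chevE6.Idx Ω} {x y : ↥(twistedE6 K 2)} {z w : ℕ → Ωˣ}
    (hx : g * emb ι (x : GL chevE6.Idx K) * g⁻¹ = certFullE6.torus z)
    (hy : g * emb ι (y : GL chevE6.Idx K) * g⁻¹ = certFullE6.torus w) (h : Chi z = Chi w) :
    x = y := by
  have e := hx.trans ((torus_eq h).trans hy.symm)
  simp only [mul_left_inj, mul_right_inj] at e
  exact Subtype.ext (emb_injective ι e)

/-- All certificates allow one vector at most, equal to `v`. -/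
def oneVec (cs : List KerCert) (v : Fin 6 → ℤ) : Bool :=
  cs.all fun c => decide (c.v₂ = 0) && (decide (c.v₁ = 0) || decide (c.v₁ = v))

/-- A subgroup of exponent `p` with one-dimensional kernel: the exponents are fixed. -/
theorem exists_one [IsAlgClosed Ω] {p e : ℕ} [Fact p.Prime] (he : 0 < e) (he2 : 2 ∣ e)
    (hpe : p ∣ 2 ^ e - 1) (hpW : ¬ p ∣ 51840) {cs : List KerCert}
    (hcs : checkAll p cs = true) {v : Fin 6 → ℤ} (hv : oneVec cs v = true)
    {P : Subgroup ↥(twistedE6 K 2)} (hP : IsPGroup p P) (hexp : ∀ x ∈ P, x ^ p = 1)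
    {x : ↥(twistedE6 K 2)} (hx : x ∈ P) (hx1 : x ≠ 1) :
    ∃ g ∈ chevE6.group Ω, ∃ (z : ℕ → Ωˣ) (η : Ωˣ), orderOf η = p ∧
      g * emb ι (x : GL chevE6.Idx K) * g⁻¹ = certFullE6.torus z ∧ Chi z = expv η v := by
  obtain ⟨c, hc, g, hg, hall⟩ := exists_start hK ι he he2 hpe hpW hcs hP hexp
  obtain ⟨z, a, b, ha, -, hz, hX⟩ := hall x hx
  have h := List.all_eq_true.1 hv c hc
  simp only [Bool.and_eq_true, Bool.or_eq_true, decide_eq_true_eq] at h
  rw [h.1, expv_zero, mul_one] at hX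
  have hne : Chi z ≠ 1 := fun h1 => hx1 (eq_of_conj ι hz (y := 1) (w := 1)
    (by rw [Subgroup.coe_one, map_one, map_one, mul_one, mul_inv_cancel]) (h1.trans Chi_one.symm))
  rcases h.2 with h0 | hv'
  · rw [h0, expv_zero] at hX
    exact absurd hX hne
  · rw [hv'] at hX
    refine ⟨g, hg, z, a, orderOf_of_pow ha fun h1 => hne ?_, hz, hX⟩
    rw [hX, h1, expv_one]

/-- A subgroup of order `7²` gets two independent vectors. -/
theorem exists_two [IsAlgClosed Ω] {cs : List KerCert} (hcs : checkAll 7 cs = true)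
    {v₁ v₂ : Fin 6 → ℤ} (hv : (cs.all fun c => decide (c.v₂ = 0) ||
      (decide (c.v₁ = v₁) && decide (c.v₂ = v₂))) = true)
    {P : Subgroup ↥(twistedE6 K 2)} (hP : IsPGroup 7 P) (hexp : ∀ x ∈ P, x ^ 7 = 1)
    (hcard : Nat.card P = 7 ^ 2) :
    ∃ g ∈ chevE6.group Ω, ∃ ζ : Ωˣ, orderOf ζ = 7 ∧
      (∀ x ∈ P, ∃ (z : ℕ → Ωˣ) (i j : ℕ), i < 7 ∧ j < 7 ∧
        g * emb ι (x : GL chevE6.Idx K) * g⁻¹ = certFullE6.torus z ∧
        Chi z = expv (ζ ^ i) v₁ * expv (ζ ^ j) v₂) ∧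
      ∀ i j : ℕ, ∃ x ∈ P, ∃ z : ℕ → Ωˣ, g * emb ι (x : GL chevE6.Idx K) * g⁻¹ =
        certFullE6.torus z ∧ Chi z = expv (ζ ^ i) v₁ * expv (ζ ^ j) v₂ := by
  classical
  haveI : Fact (Nat.Prime 7) := ⟨by norm_num⟩
  haveI : Finite P := Nat.finite_of_card_ne_zero (by rw [hcard]; norm_num)
  obtain ⟨c, hc, g, hg, hall⟩ := exists_start hK ι (p := 7) (e := 6) (by norm_num) (by norm_num)
    (by norm_num) (by norm_num) hcs hP hexp
  choose z a b ha hb hz hX using hall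
  let f : P → rootsOfUnity 7 Ω × rootsOfUnity 7 Ω := fun x =>
    (⟨a x x.2, (mem_rootsOfUnity _ _).2 (ha x x.2)⟩, ⟨b x x.2, (mem_rootsOfUnity _ _).2 (hb x x.2)⟩)
  have h := List.all_eq_true.1 hv c hc
  simp only [Bool.and_eq_true, Bool.or_eq_true, decide_eq_true_eq] at h
  have hle : Nat.card (rootsOfUnity 7 Ω) ≤ 7 := card_rootsOfUnity _ _
  rcases h with h0 | ⟨h1, h2⟩
  · exfalso
    have hinj : Function.Injective fun x : P => (f x).1 := fun x y e => by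
      have e' : a x x.2 = a y y.2 := congrArg Subtype.val e
      refine Subtype.ext (eq_of_conj ι (hz x x.2) (hz y y.2) ?_)
      rw [hX x x.2, hX y y.2, h0, expv_zero, expv_zero, e']
    have := Nat.card_le_card_of_injective _ hinj
    omega
  · have hinj : Function.Injective f := fun x y e => by
      have e1 : a x x.2 = a y y.2 := congrArg (fun u => (u.1 : Ωˣ)) e
      have e2 : b x x.2 = b y y.2 := congrArg (fun u => (u.2 : Ωˣ)) e
      refine Subtype.ext (eq_of_conj ι (hz x x.2) (hz y y.2) ?_)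
      rw [hX x x.2, hX y y.2, e1, e2]
    have hc7 : Nat.card (rootsOfUnity 7 Ω) = 7 := by
      have h49 := Nat.card_le_card_of_injective f hinj
      rw [hcard, Nat.card_prod] at h49
      nlinarith
    have hbij : Function.Bijective f := (Nat.bijective_iff_injective_and_card f).2
      ⟨hinj, by rw [hcard, Nat.card_prod, hc7]; norm_num⟩
    obtain ⟨ζ, hζ⟩ := exists_prime_orderOf_dvd_card' (G := rootsOfUnity 7 Ω) 7 (by rw [hc7])
    have hζ' : orderOf (ζ : Ωˣ) = 7 := by rw [Subgroup.orderOf_coe, hζ]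
    have hpow : ∀ u : rootsOfUnity 7 Ω, ∃ i < 7, (ζ : Ωˣ) ^ i = u := by
      intro u
      have hz7 : Subgroup.zpowers ζ = ⊤ := (Subgroup.card_eq_iff_eq_top _).1
        (by rw [Nat.card_zpowers, hζ, hc7])
      obtain ⟨i, hi, e⟩ := Finset.mem_image.1
        (mem_zpowers_iff_mem_range_orderOf.1 (hz7 ▸ Subgroup.mem_top u : u ∈ Subgroup.zpowers ζ))
      rw [Finset.mem_range, hζ] at hi
      exact ⟨i, hi, by rw [← Subgroup.coe_pow, e]⟩
    refine ⟨g, hg, ζ, hζ', fun x hx => ?_, fun i j => ?_⟩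
    · obtain ⟨i, hi, ei⟩ := hpow ⟨a x hx, (mem_rootsOfUnity _ _).2 (ha x hx)⟩
      obtain ⟨j, hj, ej⟩ := hpow ⟨b x hx, (mem_rootsOfUnity _ _).2 (hb x hx)⟩
      exact ⟨z x hx, i, j, hi, hj, hz x hx, by rw [ei, ej, hX x hx, h1, h2]⟩
    · obtain ⟨x, hx⟩ := hbij.2 (ζ ^ i, ζ ^ j)
      refine ⟨x, x.2, z x x.2, hz x x.2, ?_⟩
      have e1 : a x x.2 = (ζ : Ωˣ) ^ i := congrArg (fun u => (u.1 : Ωˣ)) hx
      have e2 : b x x.2 = (ζ : Ωˣ) ^ j := congrArg (fun u => (u.2 : Ωˣ)) hx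
      rw [hX x x.2, h1, h2, e1, e2]

omit hK [Fintype K]

/-- No root is trivial on all the vectors, and only the identity fixes them all. -/
def regCheck (p : ℕ) (vs : List (Fin 6 → ℤ)) : Bool :=
  ((List.range 72).all fun s => vs.any fun v => ev v s % (p : ℤ) != 0) &&
    decide (stabList vs p = [(List.range 6).map si])

/-- The centraliser of regular torus elements is the torus. -/
theorem regular_centralizer {p : ℕ} {vs : List (Fin 6 → ℤ)} (hchk : regCheck p vs = true)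
    {Z : Set (ℕ → Ωˣ)}
    (hZ : ∀ v ∈ vs, ∃ z ∈ Z, ∃ η : Ωˣ, orderOf η = p ∧ Chi z = expv η v)
    {g : GL chevE6.Idx Ω} (hg : g ∈ chevE6.group Ω)
    (hcomm : ∀ z ∈ Z, g * certFullE6.torus z = certFullE6.torus z * g) :
    g ∈ chevE6.diagonalSubgroup Ω := by
  simp only [regCheck, Bool.and_eq_true, decide_eq_true_eq, List.all_eq_true, List.mem_range,
    List.any_eq_true, bne_iff_ne] at hchk
  have htc : ∀ {z : ℕ → Ωˣ} {η : Ωˣ} {v : Fin 6 → ℤ}, Chi z = expv η v → ∀ {s : ℕ}, s < 72 →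
      certFullE6.tchar z s = η ^ ev v s := fun {z η v} hC {s} hs => by
    have h := tchar_ev z (η₁ := η) (η₂ := 1) (v₁ := v) (v₂ := 0)
      (by rw [expv_one, mul_one]; exact hC) hs
    rwa [_root_.one_zpow, mul_one] at h
  refine commute_mem le_rfl (fun s hs h1 t => ?_) (fun L hL hfix => ?_) hg hcomm
  · exfalso
    obtain ⟨v, hv, hne⟩ := hchk.1 s hs
    obtain ⟨z, hz, η, hη, hC⟩ := hZ v hv
    have := h1 z hz
    rw [htc hC hs, ← zpow_zero η] at this
    have hd := dvd_of_zpow_eq hη this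
    rw [sub_zero] at hd
    exact hne (Int.emod_eq_zero_of_dvd hd)
  · refine nw_mem_H_of_simple hL ?_
    have := mem_stabList (vs := vs) (m := p) hL fun v hv i hi => by
      obtain ⟨z, hz, η, hη, hC⟩ := hZ v hv
      have := hfix z hz _ (si_lt hi)
      rw [htc hC (certFullE6.wl_lt hL (si_lt hi)), htc hC (si_lt hi)] at this
      exact dvd_of_zpow_eq hη this
    rwa [hchk.2, List.mem_singleton] at this

/-- A frame, from regular fixed torus elements. -/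
theorem exists_frame_regular [IsAlgClosed Ω] {R : List ℕ} (hR : ∀ p ∈ R, p < chevE6.rank)
    {d : ℕ} (hd : 0 < d) {Q : Matrix (Fin 6) (Fin 6) ℤ}
    (hQ : Q * (Amat R)ᵀ = ((d : ℕ) : ℤ) • 1)
    {p : ℕ} {vs : List (Fin 6 → ℤ)} (hchk : regCheck p vs = true)
    {g : GL chevE6.Idx Ω} (hg : g ∈ chevE6.group Ω) {Z : Set (ℕ → Ωˣ)}
    (hZ : ∀ v ∈ vs, ∃ z ∈ Z, ∃ η : Ωˣ, orderOf η = p ∧ Chi z = expv η v)
    (hrel : ∀ z ∈ Z, Rel R z)
    (hfix : ∀ z ∈ Z, (sig Ω).act (g⁻¹ * certFullE6.torus z * g) =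
      g⁻¹ * certFullE6.torus z * g) :
    ∃ t, Frame R (certFullE6.torus t * g) := by
  refine normalise hR hd hQ hg ?_
  obtain ⟨n, hn⟩ : ∃ n, n = certFullE6.nw Ω (word0 R) := ⟨_, rfl⟩
  rw [← hn]
  refine regular_centralizer hchk hZ (mul_mem (inv_mem (hn ▸ certFullE6.N_le_group
    (certFullE6.nw_mem_N (word0_lt hR)))) (mul_mem (act_mem hg) (inv_mem hg))) fun z hz => ?_
  have hT : certFullE6.torus z ∈ chevE6.group Ω :=
    certFullE6.B_le_group (certFullE6.H_le_B (certFullE6.torus_mem z))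
  have h1 := hfix z hz
  rw [(sig Ω).act_mul (mul_mem (inv_mem hg) hT) hg, (sig Ω).act_mul (inv_mem hg) hT,
    (sig Ω).act_inv hg, (sig Ω).act_torus, ← nw_conj_of_rel hR (hrel z hz), ← hn] at h1
  calc n⁻¹ * ((sig Ω).act g * g⁻¹) * certFullE6.torus z
      = n⁻¹ * (sig Ω).act g * (g⁻¹ * certFullE6.torus z * g) * g⁻¹ := by group
    _ = _ := by rw [← h1]; group

end Cfsg.Agent.Fus.TwE6Two
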