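import Cfsg.Agent.Lib.Fus.TwE6Two.Cases
import Cfsg.Agent.Lib.Fus.TwE6Two.Counting
import Cfsg.Agent.Lib.Lie.Chev.FoldF4Twisted
import Cfsg.Agent.Lib.Lie.Chev.F4PrimeGraph

/-! The normalisers of the subgroups of order 13 and 17 lie in subgroups `F₄(2)`. -/

set_option autoImplicit false
set_option maxRecDepth 20000

namespace Cfsg.Agent.Fus.TwE6Two

open Cfsg.Lie Cfsg.Agent.Lie.Chev Subgroup

variable {K : Type*} [Field K] [Fintype K] (hK : Fintype.card K = 4)

include hK

theorem card_twisted : Nat.card ↥(twistedE6 K 2) = 76532479683774853939200 := by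
  haveI := charP_K hK
  have h := E6.card_group (frobenius K 2) (q := 2) (fun t => frobenius_def 2 t)
    (by rw [hK]; norm_num)
  rw [show Nat.gcd 3 (2 + 1) = 3 from rfl] at h
  norm_num at h
  omega

omit hK [Fintype K] in
theorem card_F4 : Nat.card ↥(chevF4.group (ZMod 2)) = 3311126603366400 := by
  have h := certFullF4.card_group_formula (F := ZMod 2) chainF4_ok chainF4_len chainF4_poly
    (torusOrderF4 (F := ZMod 2))
  rw [one_mul, ZMod.card] at h
  have e : chevF4.nroots / 2 = 24 := by rw [F4Graph.roots_48]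
  rw [e] at h
  rw [h]
  norm_num

/-- A subgroup `F₄(2)`. -/
theorem exists_F4 : ∃ H : Subgroup ↥(twistedE6 K 2), Nonempty (↥H ≃* ↥(chevF4.group (ZMod 2))) := by
  obtain ⟨H, hH, -⟩ := F4in2E6.exists_three hK
  exact ⟨H 0, hH 0⟩

/-- The centraliser of an element of order 13 or 17. -/
theorem card_centralizer {x : ↥(twistedE6 K 2)} {p : ℕ} (hp : p = 13 ∨ p = 17)
    (hx : orderOf x = p) :
    Nat.card (centralizer ({x} : Set ↥(twistedE6 K 2))) ∣ p * 3 := by
  haveI := charP_K hK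
  haveI := Fact.mk Nat.prime_two
  let ι : K →+* AlgebraicClosure K := algebraMap K (AlgebraicClosure K)
  haveI : CharP (AlgebraicClosure K) 2 := charP_of_injective_ringHom ι.injective 2
  rcases hp with rfl | rfl
  · haveI : Fact (Nat.Prime 13) := ⟨by norm_num⟩
    obtain ⟨g, -, z, η, -, -, -, h⟩ := exists_frame_one hK ι (e := 12) (by norm_num) (by norm_num)
      (by norm_num) (by norm_num) certs13_ok R13_lt (d := 39) (by norm_num) inv13_ok one13 eig13
      reg13 hx
    exact card_centralizer_dvd hK ι (d := 39) inv13_ok' cyc13_ok (by decide +kernel) h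
  · haveI : Fact (Nat.Prime 17) := ⟨by norm_num⟩
    obtain ⟨g, -, z, η, -, -, -, h⟩ := exists_frame_one hK ι (e := 8) (by norm_num) (by norm_num)
      (by norm_num) (by norm_num) certs17_ok R17_lt (d := 51) (by norm_num) inv17_ok one17 eig17
      reg17 hx
    exact card_centralizer_dvd hK ι (d := 51) inv17_ok' cyc17_ok (by decide +kernel) h

omit hK [Field K] [Fintype K] in
/-- The only possible orders of the automiser times the centraliser. -/
theorem product_eq {a k : ℕ} (ha : a ∣ 3) :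
    (k ∣ 12 → a * k % 13 = 12 → a * k = 12) ∧ (k ∣ 16 → a * k % 17 = 8 → a * k = 8) := by
  constructor <;> intro hk h <;>
    [have h' : k ≤ 12 := Nat.le_of_dvd (by norm_num) hk;
      have h' : k ≤ 16 := Nat.le_of_dvd (by norm_num) hk] <;>
    rcases Nat.prime_three.eq_one_or_self_of_dvd a ha with rfl | rfl <;>
    interval_cases k <;> omega

omit hK in
/-- A proper subgroup over the normaliser, strictly. -/
theorem not_coatom_of_lt {G : Type*} [Group G] {N H : Subgroup G} (h : N ≤ H) (hne : N ≠ H)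
    (htop : H ≠ ⊤) : ¬ IsCoatom N := fun hN => htop (hN.2 H (lt_of_le_of_ne h hne))

theorem normalizer_not_coatom_thirteen {p : ℕ} (hp : p = 13 ∨ p = 17)
    {P : Subgroup ↥(twistedE6 K 2)} (hP : Nat.card P = p) :
    ¬ IsCoatom (normalizer (P : Set ↥(twistedE6 K 2))) := by
  classical
  have hpp : p.Prime := by rcases hp with rfl | rfl <;> norm_num
  haveI := Fact.mk hpp
  haveI : Finite ↥(twistedE6 K 2) := Nat.finite_of_card_ne_zero (by rw [card_twisted hK]; norm_num)
  obtain ⟨H, ⟨e⟩⟩ := exists_F4 hK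
  have hH : Nat.card H = 3311126603366400 := by rw [Nat.card_congr e.toEquiv, card_F4]
  haveI : Finite H := Subgroup.instFiniteSubtypeMem H
  obtain ⟨x₀, hx₀⟩ := exists_prime_orderOf_dvd_card' (G := H) p
    (by rw [hH]; rcases hp with rfl | rfl <;> norm_num)
  obtain ⟨P₀, hP₀def⟩ : ∃ P₀, P₀ = zpowers x₀ := ⟨_, rfl⟩
  have hP₀ : Nat.card P₀ = p := by rw [hP₀def, Nat.card_zpowers, hx₀]
  obtain ⟨MG, hMG⟩ : ∃ M, M = 76532479683774853939200 / p := ⟨_, rfl⟩
  obtain ⟨MF, hMF⟩ : ∃ M, M = 3311126603366400 / p := ⟨_, rfl⟩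
  have hG : Nat.card ↥(twistedE6 K 2) = p * MG ∧ ¬ p ∣ MG := by
    rw [card_twisted hK, hMG]; rcases hp with rfl | rfl <;> norm_num
  have hF : Nat.card H = p * MF ∧ ¬ p ∣ MF := by
    rw [hH, hMF]; rcases hp with rfl | rfl <;> norm_num
  -- conjugate into `H`
  obtain ⟨P₁, hP₁⟩ : ∃ P₁, P₁ = P₀.map H.subtype := ⟨_, rfl⟩
  have hP₁c : Nat.card P₁ = p := by
    rw [hP₁, card_map_of_injective H.subtype_injective, hP₀]
  have hmult : (Nat.card ↥(twistedE6 K 2)).factorization p = 1 := by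
    rw [hG.1, Nat.factorization_mul hpp.ne_zero fun h => hG.2 (by rw [h]; exact dvd_zero _),
      Finsupp.add_apply, Nat.Prime.factorization_self hpp,
      Nat.factorization_eq_zero_of_not_dvd hG.2, add_zero]
  obtain ⟨a, ha⟩ := MulAction.exists_smul_eq ↥(twistedE6 K 2)
    (Sylow.ofCard P₁ (by rw [hP₁c, hmult, pow_one]) : Sylow p ↥(twistedE6 K 2))
    (Sylow.ofCard P (by rw [hP, hmult, pow_one]) : Sylow p ↥(twistedE6 K 2))
  have hconj : P = P₁.map (MulAut.conj a).toMonoidHom := (congrArg Sylow.toSubgroup ha).symm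
  -- the centralisers
  have hC : ∀ x : ↥(twistedE6 K 2), x ∈ P₁ → x ≠ 1 →
      Nat.card (centralizer ({x} : Set ↥(twistedE6 K 2))) ∣ p * 3 := fun x hx hx1 => by
    refine card_centralizer hK hp ?_
    have h : orderOf (⟨x, hx⟩ : P₁) ∣ p := hP₁c ▸ orderOf_dvd_natCard _
    rw [Subgroup.orderOf_mk] at h
    exact (hpp.eq_one_or_self_of_dvd _ h).resolve_left fun h => hx1 (orderOf_eq_one_iff.1 h)
  have hCF : ∀ x : H, x ∈ P₀ → x ≠ 1 → Nat.card (centralizer ({x} : Set H)) ∣ p * 3 := by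
    intro x hx hx1
    refine dvd_trans ?_ (hC x (hP₁ ▸ ⟨x, hx, rfl⟩) fun h => hx1 (Subtype.ext h))
    rw [← card_map_of_injective H.subtype_injective]
    refine card_dvd_of_le ?_
    rintro _ ⟨c, hc, rfl⟩
    exact mem_centralizer_singleton_iff.2
      (congrArg Subtype.val (mem_centralizer_singleton_iff.1 hc))
  obtain ⟨a₁, k₁, ha₁, hk₁, hm₁, hc₁, hN₁⟩ := normalizer_card hP₁c hG.1 hG.2 hC
  obtain ⟨a₀, k₀, ha₀, hk₀, hm₀, hc₀, hN₀⟩ := normalizer_card hP₀ hF.1 hF.2 hCF
  have hres : a₁ * k₁ = a₀ * k₀ := by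
    obtain ⟨h13₁, h17₁⟩ := product_eq (k := k₁) ha₁
    obtain ⟨h13₀, h17₀⟩ := product_eq (k := k₀) ha₀
    unfold Nat.ModEq at hm₁ hm₀
    rw [hMG] at hm₁
    rw [hMF] at hm₀
    rcases hp with rfl | rfl <;> norm_num at hm₁ hm₀ hk₁ hk₀
    · rw [h13₁ hk₁ hm₁, h13₀ hk₀ hm₀]
    · rw [h17₁ hk₁ hm₁, h17₀ hk₀ hm₀]
  have hle : normalizer ((P₁ : Subgroup ↥(twistedE6 K 2)) : Set ↥(twistedE6 K 2)) ≤ H := by
    rw [hP₁]
    refine normalizer_le_of_card ?_
    rw [← hP₁, hN₁, hN₀, mul_assoc, hres, ← mul_assoc]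
  have hne : normalizer ((P₁ : Subgroup ↥(twistedE6 K 2)) : Set ↥(twistedE6 K 2)) ≠ H := by
    intro h
    have hk₀' := Nat.le_of_dvd (by rcases hp with rfl | rfl <;> norm_num) hk₀
    have ha₀' := Nat.le_of_dvd (by norm_num) ha₀
    have hp' : p ≤ 17 := by omega
    have e' : Nat.card H = p * a₁ * k₁ := by rw [← h, hN₁]
    rw [mul_assoc, hres, ← mul_assoc, hH] at e'
    have : p * a₀ * k₀ ≤ 17 * 3 * 17 :=
      Nat.mul_le_mul (Nat.mul_le_mul hp' ha₀') (by omega)
    omega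
  have htop : H ≠ ⊤ := fun h => by
    have := congrArg (fun S : Subgroup ↥(twistedE6 K 2) => Nat.card S) h
    simp only [hH, Subgroup.card_top, card_twisted hK] at this
    omega
  intro hco
  refine not_coatom_of_lt hle hne htop ?_
  have := Subgroup.map_normalizer_eq_of_bijective P₁ (f := (MulAut.conj a).toMonoidHom)
    (MulAut.conj a).bijective
  rw [← hconj] at this
  rw [← this] at hco
  exact ((MulAut.conj a).mapSubgroup.isCoatom_iff _).1 hco

end Cfsg.Agent.Fus.TwE6Two
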