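import Cfsg.Agent.Lib.Fus.TwE6Two.SevenData
import Cfsg.Agent.Lib.Fus.TwE6Two.Levi
import Cfsg.Agent.Lib.Fus.TwE6Two.Thirteen

/-! The normalisers of the nontrivial 7-subgroups. -/

set_option autoImplicit false
set_option maxRecDepth 20000

namespace Cfsg.Agent.Fus.TwE6Two

open Cfsg.Lie Cfsg.Agent.Lie.Chev Matrix
open scoped commutatorElement

theorem lines7_symm : (lines7.all fun l => (List.range 72).all fun s =>
    !(l.inPhi s) || l.inPhi (71 - s)) = true := by decide +kernel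

variable {Ω : Type*} [Field Ω] [CharP Ω 2]

theorem reflWord_spec {r : ℕ} (h : (rootWords.any fun w => Nat.beq w.1 r) = true) :
    ∃ L : List ℕ, ∃ p < 6, (∀ q ∈ L, q < chevE6.rank) ∧ certFullE6.wl L (si p) = r ∧
      reflWord r = L ++ [p] ++ L.reverse := by
  obtain ⟨w, hw, hwr⟩ := List.any_eq_true.1 h
  obtain ⟨x, hx⟩ := Option.isSome_iff_exists.1
    (List.find?_isSome.2 ⟨w, hw, hwr⟩ : (rootWords.find? fun x => Nat.beq x.1 r).isSome = true)
  have hxm := List.mem_of_find?_eq_some hx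
  have hxr : Nat.beq x.1 r = true := List.find?_some (p := fun x : ℕ × List ℕ × ℕ => Nat.beq x.1 r) hx
  have h1 := List.all_eq_true.1 rootWords_ok x hxm
  simp only [Bool.and_eq_true, decide_eq_true_eq, Nat.beq_eq] at h1 hxr
  obtain ⟨⟨h2, h3⟩, h4⟩ := h1
  refine ⟨x.2.1, x.2.2, h3, lt_six h2, by rw [← hxr, ← h4, certFullE6.wlT_eq], ?_⟩
  rw [reflWord, hx]

/-- The stabiliser of a line lies in `H X_Φ`. -/
theorem line_stab {l : Line7} (hl : l ∈ lines7) {L : List ℕ} (hL : ∀ p ∈ L, p < chevE6.rank)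
    (h : ∀ i < 6, (7 : ℤ) ∣ ev l.e (certFullE6.wl L (si i)) - ev l.e (si i)) :
    certFullE6.nw Ω L ∈ chevE6.diagonalSubgroup Ω ⊔ XS Ω l.inPhi := by
  have hmem := mem_stabList (vs := [l.e]) (m := 7) hL fun v hv i hi => by
    rw [List.mem_singleton] at hv; exact hv ▸ h i hi
  have hc := List.all_eq_true.1 (List.all_eq_true.1 lines7_stab l hl) _ hmem
  obtain ⟨x, -, hx⟩ := List.any_eq_true.1 hc
  simp only [Bool.and_eq_true, beq_iff_eq, List.all_eq_true] at hx
  obtain ⟨⟨ht, hrs⟩, hmap⟩ := hx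
  have hrefl : ∀ r ∈ x.2, ∃ L : List ℕ, ∃ p < 6, (∀ q ∈ L, q < chevE6.rank) ∧
      certFullE6.wl L (si p) = r ∧ reflWord r = L ++ [p] ++ L.reverse := fun r hr =>
    reflWord_spec (hrs r hr).2
  have hWlt : ∀ p ∈ x.2.flatMap reflWord, p < chevE6.rank := by
    intro q hq
    obtain ⟨r, hr, hq⟩ := List.mem_flatMap.1 hq
    obtain ⟨A, p, hp, hA, -, e⟩ := hrefl r hr
    rw [e, List.mem_append, List.mem_append, List.mem_singleton, List.mem_reverse] at hq
    rcases hq with (hq | rfl) | hq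
    exacts [hA q hq, hp, hA q hq]
  refine nw_mem_of_same le_sup_left hL hWlt (fun i hi => ?_) ?_
  · have e := List.map_inj_left.1 hmap i (List.mem_range.2 hi)
    rw [certFullE6.wlT_eq] at e
    exact e
  have hsymm : ∀ s < 72, l.inPhi s = true → l.inPhi (71 - s) = true := fun s hs hin => by
    have := List.all_eq_true.1 (List.all_eq_true.1 lines7_symm l hl) s (List.mem_range.2 hs)
    rw [Bool.or_eq_true, Bool.not_eq_true', hin] at this
    exact this.resolve_left Bool.noConfusion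
  clear hWlt hmap ht hmem hc
  revert hrs hrefl
  generalize x.2 = rs
  intro hrs hrefl
  induction rs with
  | nil => rw [List.flatMap_nil]; simp [Cert.nw, one_mem]
  | cons r rs ih =>
    rw [List.flatMap_cons, certFullE6.nw_append]
    obtain ⟨A, p, hp, hA, e1, e⟩ := hrefl r (by simp)
    refine mul_mem ?_ (ih (fun r' hr' => hrs r' (by simp [hr']))
      (fun r' hr' => hrefl r' (by simp [hr'])))
    rw [e]
    exact nw_refl_mem hsymm hA hp (e1 ▸ (hrs r (by simp)).1)

variable {K : Type*} [Field K] [Fintype K] (hK : Fintype.card K = 4)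
include hK

/-- A Sylow subgroup has exponent 7. -/
theorem pow_seven [IsAlgClosed Ω] (ι : K →+* Ω) {S : Subgroup ↥(twistedE6 K 2)} (hS : IsPGroup 7 S)
    (hcard : Nat.card S = 7 ^ 2) : ∀ x ∈ S, x ^ 7 = 1 := by
  haveI : Fact (Nat.Prime 7) := ⟨by norm_num⟩
  intro x hx
  obtain ⟨g₀, hg₀, hd⟩ := exists_into_diag ι (e := 6) (by norm_num) (by norm_num) (by norm_num)
    (by norm_num) hS hK
  obtain ⟨i, hi, -, g, hg, hT⟩ := exists_rep (P := imgSet ι S)
    (fun y ⟨x, _, hy⟩ => hy ▸ emb_fixed hK ι x.2) hg₀ (fun y ⟨x, hx, hy⟩ => hy ▸ hd x hx)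
  obtain ⟨z, hz, hrel⟩ := hT _ ⟨x, hx, rfl⟩
  have h49 : x ^ 49 = 1 := by
    have h := orderOf_dvd_natCard (⟨x, hx⟩ : S)
    rw [hcard, Subgroup.orderOf_mk] at h
    exact orderOf_dvd_iff_pow_eq_one.1 h
  have hC49 : ∀ j, Chi z j ^ 49 = 1 := fun j => tchar_pow_eq_one (p := 49) (by
    rw [← hz, conj_pow, ← map_pow, ← Subgroup.coe_pow, h49, Subgroup.coe_one, map_one, mul_one,
      mul_inv_cancel]) (si_lt j.2)
  have hok := expCerts_ok
  simp only [Bool.and_eq_true, Nat.beq_eq, List.all_eq_true] at hok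
  obtain ⟨R, hR⟩ : ∃ R, R = classesE6.reps.getD i [] := ⟨_, rfl⟩
  rw [← hR] at hrel
  obtain ⟨B, hB⟩ : ∃ B : Matrix (Fin 6) (Fin 6) ℤ, ∀ a b,
      (49 : ℤ) ∣ (B * Amat R) a b - (if a = b then 7 else 0) := by
    have hj : i < expCerts.length := by rw [hok.1]; exact hi
    refine ⟨expCerts[i], fun a b => Int.dvd_of_emod_eq_zero ?_⟩
    have := hok.2 (classesE6.reps[i], expCerts[i]) (by
      rw [List.mem_iff_getElem]
      exact ⟨i, by rw [List.length_zip, hok.1, Nat.min_self]; exact hi, List.getElem_zip⟩) a (List.mem_finRange a) b (List.mem_finRange b)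
    rw [beq_iff_eq] at this
    rw [hR, List.getD_eq_getElem _ _ hi]
    exact this
  have h7 : ∀ a, Chi z a ^ 7 = 1 := by
    intro a
    have h := congrFun (show mpow (B * Amat R)ᵀ (Chi z) = 1 by
      rw [Matrix.transpose_mul, mpow_mul, hrel, map_one]) a
    rw [mpow_transpose] at h
    have e : ∀ b, Chi z b ^ (B * Amat R) a b = if a = b then Chi z b ^ 7 else 1 := fun b => by
      obtain ⟨c, hc⟩ := hB a b
      have e' : (B * Amat R) a b = (if a = b then 7 else 0) + 49 * c := by omega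
      rw [e', _root_.zpow_add, _root_.zpow_mul, show (49 : ℤ) = ((49 : ℕ) : ℤ) from rfl,
        zpow_natCast, hC49, _root_.one_zpow, mul_one]
      split_ifs
      · rfl
      · exact zpow_zero _
    rw [Finset.prod_congr rfl fun b _ => e b, Finset.prod_ite_eq, if_pos (Finset.mem_univ a)] at h
    exact h
  refine eq_of_conj ι (g := g) (z := z ^ 7) (w := 1) ?_ ?_ ?_
  · rw [map_pow, Subgroup.coe_pow, map_pow, ← conj_pow, hz]
  · rw [Subgroup.coe_one, map_one, map_one, mul_one, mul_inv_cancel]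
  · rw [Chi_one]
    funext a
    rw [Chi_pow]
    exact h7 a

theorem normalizer_not_coatom_seven {P : Subgroup ↥(twistedE6 K 2)} (hP : Nat.card P = 7) :
    ¬ IsCoatom (Subgroup.normalizer (P : Set ↥(twistedE6 K 2))) := by
  classical
  haveI := charP_K hK
  haveI : Fact (Nat.Prime 7) := ⟨by norm_num⟩
  let ι : K →+* AlgebraicClosure K := algebraMap K (AlgebraicClosure K)
  haveI : CharP (AlgebraicClosure K) 2 := charP_of_injective_ringHom ι.injective 2
  haveI : Finite ↥(twistedE6 K 2) := Nat.finite_of_card_ne_zero (by rw [card_twisted hK]; norm_num)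
  obtain ⟨S, hPS⟩ := (IsPGroup.of_card (n := 1) (by rw [hP, pow_one] : Nat.card P = 7 ^ 1)).exists_le_sylow
  have hScard : Nat.card S = 7 ^ 2 := by
    rw [S.card_eq_multiplicity]
    congr 1
    rw [card_twisted hK, show (76532479683774853939200 : ℕ) = 7 ^ 2 * 1561887340485201100800 by
      norm_num, Nat.factorization_mul (by norm_num) (by norm_num), Finsupp.add_apply,
      Nat.factorization_eq_zero_of_not_dvd (n := 1561887340485201100800) (by norm_num),
      Nat.Prime.factorization_pow (by norm_num), Finsupp.single_eq_same]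
  have hexp := pow_seven hK ι S.2 hScard
  obtain ⟨g, hF, ζ, hζ, hall, hex⟩ := exists_frame_seven hK ι S.2 hexp hScard
  have hH : ∀ y ∈ (S : Subgroup ↥(twistedE6 K 2)),
      g * emb ι (y : GL chevE6.Idx K) * g⁻¹ ∈ chevE6.diagonalSubgroup (AlgebraicClosure K) :=
    fun y hy => by
    obtain ⟨w, -, -, -, -, hw, -⟩ := hall y hy
    rw [hw]; exact certFullE6.torus_mem _
  -- the line
  haveI : Finite P := inferInstance
  obtain ⟨x₀, hx₀⟩ := exists_prime_orderOf_dvd_card' (G := P) 7 (by rw [hP])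
  obtain ⟨z₀, i, j, hi, hj, hz₀, hC₀⟩ := hall _ (hPS x₀.2)
  have hij : ¬ (i = 0 ∧ j = 0) := by
    rintro ⟨rfl, rfl⟩
    rw [pow_zero, expv_one, expv_one, mul_one] at hC₀
    have h1 : (x₀ : ↥(twistedE6 K 2)) = 1 := eq_of_conj ι hz₀ (w := 1)
      (by rw [Subgroup.coe_one, map_one, map_one, mul_one, mul_inv_cancel])
      (hC₀.trans Chi_one.symm)
    have : orderOf x₀ = 1 := by rw [← Subgroup.orderOf_coe, h1, orderOf_one]
    omega
  have hcov := List.all_eq_true.1 (List.all_eq_true.1 lines7_cover i (List.mem_range.2 hi)) j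
    (List.mem_range.2 hj)
  simp only [Bool.or_eq_true, Bool.and_eq_true, beq_iff_eq, List.any_eq_true] at hcov
  obtain ⟨l, hl, m, -, hla, hlb⟩ := hcov.resolve_left hij
  obtain ⟨x, hxdef⟩ : ∃ x : ↥(twistedE6 K 2), x = (x₀ : ↥(twistedE6 K 2)) ^ m := ⟨_, rfl⟩
  obtain ⟨z, hzdef⟩ : ∃ z, z = z₀ ^ m := ⟨_, rfl⟩
  have hxP : x ∈ P := hxdef ▸ pow_mem x₀.2 m
  have hz : g * emb ι (x : GL chevE6.Idx K) * g⁻¹ = certFullE6.torus z := by
    rw [hxdef, hzdef, map_pow, Subgroup.coe_pow, map_pow, ← conj_pow, hz₀]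
  have hChi : ∀ s < 72, certFullE6.tchar z s = ζ ^ ev l.e s := by
    intro s hs
    have h7 : ∀ n : ℕ, ζ ^ n = ζ ^ (n % 7) := fun n => by
      rw [← hζ, pow_mod_orderOf]
    rw [tchar_ev (η₁ := ζ ^ l.a) (η₂ := ζ ^ l.b) (v₁ := e7a) (v₂ := e7b) z ?_ hs]
    · rw [← zpow_natCast, ← zpow_natCast, ← _root_.zpow_mul, ← _root_.zpow_mul, ← _root_.zpow_add]
      congr 1
      simp only [ev, Line7.e, Finset.mul_sum, ← Finset.sum_add_distrib]
      exact Finset.sum_congr rfl fun c _ => by ring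
    · have hep : ∀ (η : (AlgebraicClosure K)ˣ) (v : Fin 6 → ℤ) (n : ℕ),
          expv η v ^ n = expv (η ^ n) v := fun η v n => funext fun c => by
        simp only [Pi.pow_apply, expv]
        rw [← zpow_natCast, ← zpow_natCast, ← _root_.zpow_mul, ← _root_.zpow_mul, mul_comm]
      rw [hzdef, Chi_pow, hC₀, mul_pow, hep, hep, ← pow_mul, ← pow_mul, h7 (i * m),
        h7 (j * m), hla, hlb]
  -- the checks of the line
  have htab := List.all_eq_true.1 lines7_tab l hl
  simp only [Line7.tabCheck, Bool.and_eq_true, Bool.or_eq_true, bne_iff_ne, beq_iff_eq] at htab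
  obtain ⟨⟨⟨⟨⟨⟨⟨hcin, hcperp⟩, hkin⟩, hkperp⟩, horbin⟩, hmovin⟩, hmovperp⟩, horbperp⟩ := htab
  have hx7 : x ^ 7 = 1 := hexp x (hPS hxP)
  have hPH : ∀ y ∈ P, g * emb ι (y : GL chevE6.Idx K) * g⁻¹ ∈
      chevE6.diagonalSubgroup (AlgebraicClosure K) := fun y hy => hH y (hPS hy)
  have hne : ∀ {η : (AlgebraicClosure K)ˣ} {v : ℤ}, orderOf η = 7 → v % 7 ≠ 0 → η ^ v ≠ 1 := by
    intro η v hη hv h
    rw [← _root_.zpow_zero η] at h
    have := dvd_of_zpow_eq hη h
    rw [sub_zero] at this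
    exact hv (Int.emod_eq_zero_of_dvd this)
  have hperp01 : tabR l.Tperp (0 : Fin 3) 1 < 72 := tabR_lt (comp_spec hcperp).1 (by decide)
  have hin01 : tabR l.Tin (0 : Fin 3) 1 < 72 := tabR_lt (comp_spec hcin).1 (by decide)
  have hxne : certFullE6.tchar z (tabR l.Tperp (0 : Fin 3) 1) ≠ 1 := by
    rw [hChi _ hperp01]; exact hne hζ hmovperp
  have hx1 : x ≠ 1 := fun h => by
    rw [h, Subgroup.coe_one, map_one, mul_one, mul_inv_cancel, ← map_one certFullE6.torus,
      Cert.torus_apply, Cert.torus_apply] at hz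
    have := (dg_eq_iff chevE6 _).1 hz _ hperp01
    exact hxne (by rw [← this]; simp [Cert.tchar])
  have hgen : ∀ y ∈ P, y ∈ Subgroup.zpowers x := fun y hy => by
    have hle : Subgroup.zpowers x ≤ P := Subgroup.zpowers_le.2 hxP
    have hc : Nat.card (Subgroup.zpowers x) = 7 := by
      rw [Nat.card_zpowers]
      exact orderOf_eq_prime hx7 hx1
    rw [Subgroup.eq_of_le_of_card_ge hle (by rw [hc, hP])]
    exact hy
  -- the centraliser
  obtain ⟨C, hCdef⟩ : ∃ C : Subgroup ↥(twistedE6 K 2),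
      C = Subgroup.centralizer (P : Set ↥(twistedE6 K 2)) := ⟨_, rfl⟩
  have hmemC : ∀ c : ↥(twistedE6 K 2), Commute c x → c ∈ C := fun c hc => by
    rw [hCdef, Subgroup.mem_centralizer_iff]
    intro y hy
    obtain ⟨n, rfl⟩ := Subgroup.mem_zpowers_iff.1 (hgen y hy)
    exact (hc.zpow_right n).eq.symm
  obtain ⟨φ, hφ⟩ : ∃ φ : ↥(twistedE6 K 2) →* GL chevE6.Idx (AlgebraicClosure K),
      ∀ y, φ y = g * emb ι (y : GL chevE6.Idx K) * g⁻¹ :=
    ⟨(MulAut.conj g).toMonoidHom.comp ((emb ι).comp (twistedE6 K 2).subtype), fun y => rfl⟩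
  have hφinj : Function.Injective φ := fun a b h => by
    rw [hφ, hφ, mul_left_inj, mul_right_inj] at h
    exact Subtype.ext (emb_injective ι h)
  have hφmem : ∀ y, φ y ∈ chevE6.group (AlgebraicClosure K) := fun y => by
    rw [hφ]; exact mul_mem (mul_mem hF.mem (emb_fixed hK ι y.2).1) (inv_mem hF.mem)
  have hCX : ∀ c ∈ C, φ c ∈ chevE6.diagonalSubgroup (AlgebraicClosure K) ⊔
      XS (AlgebraicClosure K) l.inPhi := by
    intro c hc
    rw [hCdef, Subgroup.mem_centralizer_iff] at hc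
    refine commute_mem (Z := {z}) le_sup_left (fun s hs h1 t => ?_) (fun L hL hfix => ?_)
      (hφmem c) fun w hw => ?_
    · refine Subgroup.mem_sup_right (XS_xg hs ?_ t)
      have h := h1 z rfl
      rw [hChi s hs] at h
      simp only [Line7.inPhi, hs, decide_true, Bool.true_and, beq_iff_eq]
      by_contra hv
      exact hne hζ hv h
    · refine line_stab hl hL fun i hi => ?_
      have h := hfix z rfl _ (si_lt hi)
      rw [hChi _ (certFullE6.wl_lt hL (si_lt hi)), hChi _ (si_lt hi)] at h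
      exact dvd_of_zpow_eq hζ h
    · rw [Set.mem_singleton_iff] at hw
      rw [hw, ← hz, ← hφ x, ← map_mul, ← map_mul, hc x hxP]
  have hD : ∀ d ∈ ⁅C, C⁆, φ d ∈ XS (AlgebraicClosure K) l.inPhi := by
    have hle : ⁅C, C⁆ ≤ (XS (AlgebraicClosure K) l.inPhi).comap φ := by
      rw [Subgroup.commutator_le]
      intro a ha b hb
      rw [Subgroup.mem_comap, map_commutatorElement]
      exact commutator_mem_XS (hCX a ha) (hCX b hb)
    exact fun d hd => hle hd
  have hE : ∀ {k : ℕ}, k = 1 ∨ k = 2 → (if false then 2 * (k * 3) else k * 3) ∣ 6 := by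
    rintro k (rfl | rfl) <;> norm_num
  -- the orthogonal involution
  obtain ⟨r, hrN, hr⟩ := exists_outside ι hK hF (p := 7) (P := P) hPH (n := 3) (k := l.kperp)
    (fl := false) (T := l.Tperp) (by omega) le_rfl (fun h => by simp at h) hcperp (E := 6)
    (hE hkperp) (by norm_num) (by norm_num) hxP hx7 hz (i := (0 : Fin 3)) (j := 1) (by decide)
    hxne
  have hrD : r ∈ Subgroup.centralizer ((⁅C, C⁆ : Subgroup ↥(twistedE6 K 2)) :
      Set ↥(twistedE6 K 2)) := by
    rw [Subgroup.mem_centralizer_iff]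
    intro d hd
    refine hφinj ?_
    rw [map_mul, map_mul]
    have := hr (φ d) fun t ht v => by
      have h1 := List.all_eq_true.1 horbperp t ht
      simp only [Bool.and_eq_true, decide_eq_true_eq, List.all_eq_true, List.mem_range,
        Bool.or_eq_true, Bool.not_eq_true'] at h1
      have h2 := hD d hd
      revert h2
      generalize φ d = u
      intro h2
      induction h2 using Subgroup.closure_induction with
      | mem y hy =>
        obtain ⟨s, hs, hin, w, rfl⟩ := hy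
        have h3 : E6Sub.nilAt s t = true := (h1.2 s hs).resolve_left (by rw [hin]; simp)
        exact E6Sub.nilAt_commute hs h1.1 h3 w v
      | one => exact Commute.one_left _
      | mul a b _ _ iha ihb => exact iha.mul_left ihb
      | inv a _ iha => exact iha.inv_left
    rw [← hφ r] at this
    exact this.eq.symm
  -- the commutator of the centraliser is not trivial
  obtain ⟨s, hsS, w, hsw, hsne⟩ : ∃ s ∈ (S : Subgroup ↥(twistedE6 K 2)),
      ∃ w : ℕ → (AlgebraicClosure K)ˣ, g * emb ι (s : GL chevE6.Idx K) * g⁻¹ =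
        certFullE6.torus w ∧ certFullE6.tchar w (tabR l.Tin (0 : Fin 3) 1) ≠ 1 := by
    rcases hmovin with h | h
    · obtain ⟨s, hs, w, hw, hC⟩ := hex 1 0
      refine ⟨s, hs, w, hw, ?_⟩
      rw [tchar_ev (η₁ := ζ ^ 1) (η₂ := ζ ^ 0) (v₁ := e7a) (v₂ := e7b) w hC hin01]
      simp only [pow_zero, pow_one, _root_.one_zpow, mul_one]
      exact hne hζ h
    · obtain ⟨s, hs, w, hw, hC⟩ := hex 0 1
      refine ⟨s, hs, w, hw, ?_⟩
      rw [tchar_ev (η₁ := ζ ^ 0) (η₂ := ζ ^ 1) (v₁ := e7a) (v₂ := e7b) w hC hin01]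
      simp only [pow_zero, pow_one, _root_.one_zpow, one_mul]
      exact hne hζ h
  obtain ⟨r', hr'N, hr'⟩ := exists_outside ι hK hF (p := 7) (P := Subgroup.zpowers s)
    (fun y hy => hH y (Subgroup.zpowers_le.2 hsS hy)) (n := 3) (k := l.kin) (fl := false)
    (T := l.Tin) (by omega) le_rfl (fun h => by simp at h) hcin (E := 6)
    (hE hkin) (by norm_num) (by norm_num) (Subgroup.mem_zpowers s) (hexp s hsS) hsw
    (i := (0 : Fin 3)) (j := 1) (by decide) hsne
  have hr'C : r' ∈ C := hmemC r' (by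
    refine hφinj ?_
    rw [map_mul, map_mul, hφ x, hz, hφ r']
    exact (hr' (certFullE6.torus z) fun t ht v => by
      have h1 := List.all_eq_true.1 horbin t ht
      simp only [Line7.inPhi, Bool.and_eq_true, decide_eq_true_eq, beq_iff_eq] at h1
      have h2 : certFullE6.tchar z t = 1 := by
        obtain ⟨c, hc⟩ := Int.dvd_of_emod_eq_zero h1.2
        rw [hChi t h1.1, hc, show (7 : ℤ) = ((7 : ℕ) : ℤ) from rfl, _root_.zpow_mul, zpow_natCast,
          ← hζ, pow_orderOf_eq_one, _root_.one_zpow]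
      have h3 := certFullE6.torus_conj_xg z (show t < chevE6.nroots from h1.1) v
      rw [h2, Units.val_one, one_mul, mul_inv_eq_iff_eq_mul] at h3
      exact h3).eq)
  have hsC : s ∈ C := hmemC s (by
    refine hφinj ?_
    rw [map_mul, map_mul, hφ, hφ]
    exact certFullE6.H_commutative (hH s hsS) (hH x (hPS hxP)))
  have hDne : ⁅C, C⁆ ≠ ⊥ := by
    intro h
    have h1 := Subgroup.commutator_mem_commutator hr'C hsC
    rw [h, Subgroup.mem_bot, commutatorElement_eq_one_iff_mul_comm] at h1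
    refine hr'N (Subgroup.centralizer_le_normalizer _ (Subgroup.mem_centralizer_iff.2 ?_))
    intro y hy
    obtain ⟨n, rfl⟩ := Subgroup.mem_zpowers_iff.1 hy
    exact ((show Commute r' s from h1).zpow_right n).eq.symm
  have hN : Subgroup.normalizer (P : Set ↥(twistedE6 K 2)) ≤
      Subgroup.normalizer ((⁅C, C⁆ : Subgroup ↥(twistedE6 K 2)) : Set ↥(twistedE6 K 2)) := by
    intro h hh
    have hCmap : C.map (MulAut.conj h).toMonoidHom = C := by
      have key : ∀ k ∈ Subgroup.normalizer (P : Set ↥(twistedE6 K 2)), ∀ c ∈ C,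
          k * c * k⁻¹ ∈ C := by
        intro k hk c hc
        rw [hCdef, Subgroup.mem_centralizer_iff] at hc ⊢
        intro y hy
        have hy' := hc _ ((Subgroup.mem_normalizer_iff.1 (inv_mem hk) y).1 hy)
        rw [inv_inv] at hy'
        calc y * (k * c * k⁻¹) = k * ((k⁻¹ * y * k) * c) * k⁻¹ := by group
          _ = k * (c * (k⁻¹ * y * k)) * k⁻¹ := by rw [hy']
          _ = _ := by group
      refine le_antisymm ?_ fun c hc => ?_
      · rintro _ ⟨c, hc, rfl⟩; exact key h hh c hc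
      · exact ⟨h⁻¹ * c * h, by simpa using key h⁻¹ (inv_mem hh) c hc, by simp [mul_assoc]⟩
    have hDmap : (⁅C, C⁆ : Subgroup ↥(twistedE6 K 2)).map (MulAut.conj h).toMonoidHom = ⁅C, C⁆ := by
      rw [Subgroup.map_commutator, hCmap]
    rw [Subgroup.mem_normalizer_iff]
    intro d
    constructor
    · intro hd
      rw [← hDmap]
      exact ⟨d, hd, rfl⟩
    · intro hd
      rw [← hDmap] at hd
      obtain ⟨d', hd', e⟩ := hd
      have : d' = d := (MulAut.conj h).injective e
      exact this ▸ hd'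
  obtain ⟨hs, hnc⟩ := E6.simple (frobenius K 2) (q := 2) (fun t => frobenius_def 2 t)
    (by rw [hK]; norm_num)
  haveI := hs
  exact not_coatom_of_normalized hnc hDne hN hrD hrN

end Cfsg.Agent.Fus.TwE6Two
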