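import Cfsg.Agent.Lib.Fus.TwE6Two.Nineteen

/-! Data for the subgroups of order 7: the lines of a Sylow subgroup, the reflection words of their
stabilisers, and certificates for the exponent. -/

set_option autoImplicit false
set_option maxRecDepth 20000

namespace Cfsg.Agent.Fus.TwE6Two

open Cfsg.Lie Cfsg.Agent.Lie.Chev Matrix

/-- A line with the components inside and orthogonal to its root system, and its stabiliser. -/
structure Line7 where
  a : ℕ
  b : ℕ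
  Tin : List (List ℕ)
  kin : ℕ
  Tperp : List (List ℕ)
  kperp : ℕ
  stab : List (List ℕ × List ℕ)

/-- Words moving a fundamental root to a given root. -/
def rootWords : List (ℕ × List ℕ × ℕ) :=
  [(36, [], 5),
    (37, [], 4),
    (38, [5], 4),
    (39, [], 3),
    (40, [4], 3),
    (41, [5, 4], 3),
    (42, [], 2),
    (43, [3], 2),
    (44, [4, 3], 2),
    (45, [5, 4, 3], 2),
    (46, [], 1),
    (47, [3], 1),
    (48, [4, 3], 1),
    (49, [5, 4, 3], 1),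
    (50, [2, 3], 1),
    (51, [4, 2, 3], 1),
    (52, [5, 4, 2, 3], 1),
    (53, [3, 4, 2, 3], 1),
    (54, [5, 3, 4, 2, 3], 1),
    (55, [4, 5, 3, 4, 2, 3], 1),
    (56, [], 0),
    (57, [2], 0),
    (58, [3, 2], 0),
    (59, [4, 3, 2], 0),
    (60, [5, 4, 3, 2], 0),
    (61, [1, 3, 2], 0),
    (62, [4, 1, 3, 2], 0),
    (63, [5, 4, 1, 3, 2], 0),
    (64, [3, 4, 1, 3, 2], 0),
    (65, [5, 3, 4, 1, 3, 2], 0),
    (66, [4, 5, 3, 4, 1, 3, 2], 0),
    (67, [2, 3, 4, 1, 3, 2], 0),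
    (68, [5, 2, 3, 4, 1, 3, 2], 0),
    (69, [4, 5, 2, 3, 4, 1, 3, 2], 0),
    (70, [3, 4, 5, 2, 3, 4, 1, 3, 2], 0),
    (71, [1, 3, 4, 5, 2, 3, 4, 1, 3, 2], 0)]

/-- The eight lines of a Sylow subgroup. -/
def lines7 : List Line7 :=
  [{ a := 1, b := 0, Tin := [[0, 60, 36], [11, 0, 12], [35, 59, 0]], kin := 2, Tperp := [[0, 55, 71], [16, 0, 61], [0, 10, 0]], kperp := 1,
      stab :=
      [([56, 46, 42, 39, 37, 36], []),
        ([56, 46, 42, 39, 38, 35], [36]),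
        ([56, 47, 43, 32, 40, 36], [39]),
        ([57, 46, 29, 43, 37, 36], [42]),
        ([58, 50, 32, 29, 44, 36], [43]),
        ([27, 62, 42, 39, 13, 60], [59]),
        ([26, 63, 42, 39, 37, 12], [60]),
        ([56, 47, 43, 32, 41, 35], [39, 36]),
        ([57, 46, 29, 43, 38, 35], [42, 36]),
        ([58, 50, 32, 29, 45, 35], [43, 36]),
        ([27, 62, 42, 39, 38, 11], [59, 36]),
        ([26, 63, 42, 39, 13, 59], [60, 36]),
        ([57, 50, 39, 28, 44, 36], [42, 39]),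
        ([58, 47, 28, 42, 40, 36], [43, 39]),
        ([27, 64, 43, 32, 14, 60], [59, 39]),
        ([26, 65, 43, 32, 40, 12], [60, 39]),
        ([31, 62, 29, 43, 13, 60], [59, 42]),
        ([30, 63, 29, 43, 37, 12], [60, 42]),
        ([34, 67, 32, 29, 15, 60], [59, 43]),
        ([33, 68, 32, 29, 44, 12], [60, 43]),
        ([57, 50, 39, 28, 45, 35], [42, 39, 36]),
        ([58, 47, 28, 42, 41, 35], [43, 39, 36]),
        ([27, 64, 43, 32, 41, 11], [59, 39, 36]),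
        ([26, 65, 43, 32, 14, 59], [60, 39, 36]),
        ([31, 62, 29, 43, 38, 11], [59, 42, 36]),
        ([30, 63, 29, 43, 13, 59], [60, 42, 36]),
        ([34, 67, 32, 29, 45, 11], [59, 43, 36]),
        ([33, 68, 32, 29, 15, 59], [60, 43, 36]),
        ([31, 67, 39, 28, 15, 60], [59, 42, 39]),
        ([30, 68, 39, 28, 44, 12], [60, 42, 39]),
        ([34, 64, 28, 42, 14, 60], [59, 43, 39]),
        ([33, 65, 28, 42, 40, 12], [60, 43, 39]),
        ([31, 67, 39, 28, 45, 11], [59, 42, 39, 36]),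
        ([30, 68, 39, 28, 15, 59], [60, 42, 39, 36]),
        ([34, 64, 28, 42, 41, 11], [59, 43, 39, 36]),
        ([33, 65, 28, 42, 14, 59], [60, 43, 39, 36])] },
    { a := 0, b := 1, Tin := [[0, 63, 52], [8, 0, 15], [19, 56, 0]], kin := 2, Tperp := [[0, 41, 70], [30, 0, 67], [1, 4, 0]], kperp := 1,
      stab :=
      [([56, 46, 42, 39, 37, 36], []),
        ([56, 46, 42, 40, 34, 38], [37]),
        ([56, 32, 50, 25, 48, 36], [47]),
        ([56, 31, 51, 39, 24, 49], [48]),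
        ([63, 26, 22, 54, 37, 20], [52]),
        ([15, 46, 57, 39, 37, 36], [56]),
        ([19, 11, 42, 65, 37, 9], [63]),
        ([56, 32, 50, 40, 23, 49], [47, 37]),
        ([56, 31, 51, 25, 47, 38], [48, 37]),
        ([63, 26, 22, 55, 34, 21], [52, 37]),
        ([15, 46, 57, 40, 34, 38], [56, 37]),
        ([19, 11, 42, 66, 34, 10], [63, 37]),
        ([63, 17, 33, 45, 48, 20], [52, 47]),
        ([15, 32, 61, 25, 48, 36], [56, 47]),
        ([19, 6, 50, 60, 48, 9], [63, 47]),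
        ([63, 16, 35, 54, 24, 29], [52, 48]),
        ([15, 31, 62, 39, 24, 49], [56, 48]),
        ([19, 5, 51, 65, 24, 14], [63, 48]),
        ([52, 11, 22, 65, 37, 9], [56, 52]),
        ([8, 26, 57, 54, 37, 20], [63, 52]),
        ([63, 17, 33, 55, 23, 29], [52, 47, 37]),
        ([15, 32, 61, 40, 23, 49], [56, 47, 37]),
        ([19, 6, 50, 66, 23, 14], [63, 47, 37]),
        ([63, 16, 35, 45, 47, 21], [52, 48, 37]),
        ([15, 31, 62, 25, 47, 38], [56, 48, 37]),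
        ([19, 5, 51, 60, 47, 10], [63, 48, 37]),
        ([52, 11, 22, 66, 34, 10], [56, 52, 37]),
        ([8, 26, 57, 55, 34, 21], [63, 52, 37]),
        ([52, 6, 33, 60, 48, 9], [56, 52, 47]),
        ([8, 17, 61, 45, 48, 20], [63, 52, 47]),
        ([52, 5, 35, 65, 24, 14], [56, 52, 48]),
        ([8, 16, 62, 54, 24, 29], [63, 52, 48]),
        ([52, 6, 33, 66, 23, 14], [56, 52, 47, 37]),
        ([8, 17, 61, 55, 23, 29], [63, 52, 47, 37]),
        ([52, 5, 35, 60, 47, 10], [56, 52, 48, 37]),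
        ([8, 16, 62, 45, 47, 21], [63, 52, 48, 37])] },
    { a := 1, b := 1, Tin := [[0, 55, 71], [16, 0, 61], [0, 10, 0]], kin := 1, Tperp := [[0, 60, 36], [11, 0, 12], [35, 59, 0]], kperp := 2,
      stab :=
      [([56, 46, 42, 39, 37, 36], []),
        ([66, 46, 42, 39, 17, 36], [55]),
        ([21, 13, 42, 39, 62, 36], [61]),
        ([56, 1, 42, 39, 37, 36], [71]),
        ([66, 13, 42, 39, 17, 36], [61, 55]),
        ([21, 1, 42, 39, 62, 36], [71, 55])] },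
    { a := 2, b := 1, Tin := [[0, 49, 65], [22, 0, 58], [6, 13, 0]], kin := 1, Tperp := [[0, 69, 45], [2, 0, 9], [26, 62, 0]], kperp := 2,
      stab :=
      [([56, 46, 42, 39, 37, 36], []),
        ([56, 30, 52, 39, 37, 23], [49]),
        ([28, 61, 42, 14, 59, 36], [58]),
        ([17, 46, 68, 8, 66, 7], [65]),
        ([28, 30, 68, 14, 59, 7], [58, 49]),
        ([17, 61, 52, 8, 66, 23], [65, 49])] },
    { a := 3, b := 1, Tin := [[0, 41, 70], [30, 0, 67], [1, 4, 0]], kin := 1, Tperp := [[0, 63, 52], [8, 0, 15], [19, 56, 0]], kperp := 2,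
      stab :=
      [([56, 46, 42, 39, 37, 36], []),
        ([56, 49, 45, 33, 37, 31], [41]),
        ([56, 46, 7, 39, 37, 68], [67]),
        ([56, 71, 42, 2, 37, 36], [70]),
        ([56, 71, 45, 2, 37, 31], [67, 41]),
        ([56, 49, 7, 33, 37, 68], [70, 41])] },
    { a := 4, b := 1, Tin := [[0, 69, 45], [2, 0, 9], [26, 62, 0]], kin := 2, Tperp := [[0, 49, 65], [22, 0, 58], [6, 13, 0]], kperp := 1,
      stab :=
      [([56, 46, 42, 39, 37, 36], []),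
        ([56, 48, 44, 34, 32, 41], [40]),
        ([60, 52, 30, 39, 37, 27], [45]),
        ([61, 28, 24, 39, 51, 36], [50]),
        ([64, 46, 42, 20, 37, 54], [53]),
        ([20, 12, 42, 64, 10, 63], [62]),
        ([56, 46, 5, 70, 3, 36], [69]),
        ([60, 55, 35, 34, 32, 29], [45, 40]),
        ([61, 48, 44, 20, 32, 54], [50, 40]),
        ([64, 28, 24, 34, 51, 41], [53, 40]),
        ([20, 14, 44, 61, 7, 66], [62, 40]),
        ([56, 48, 8, 68, 1, 41], [69, 40]),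
        ([68, 38, 17, 39, 51, 27], [50, 45]),
        ([70, 52, 30, 20, 37, 47], [53, 45]),
        ([60, 52, 5, 64, 10, 27], [62, 45]),
        ([20, 12, 30, 70, 3, 63], [69, 45]),
        ([34, 4, 24, 64, 15, 63], [62, 50]),
        ([61, 28, 0, 70, 11, 36], [69, 50]),
        ([39, 12, 42, 56, 10, 71], [62, 53]),
        ([64, 46, 5, 60, 3, 54], [69, 53]),
        ([68, 55, 35, 20, 32, 47], [50, 45, 40]),
        ([70, 38, 17, 34, 51, 29], [53, 45, 40]),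
        ([60, 55, 8, 61, 7, 29], [62, 45, 40]),
        ([20, 14, 35, 68, 1, 66], [69, 45, 40]),
        ([34, 14, 44, 56, 7, 71], [62, 50, 40]),
        ([61, 48, 8, 60, 1, 54], [69, 50, 40]),
        ([39, 4, 24, 61, 15, 66], [62, 53, 40]),
        ([64, 28, 0, 68, 11, 41], [69, 53, 40]),
        ([68, 38, 0, 64, 15, 27], [62, 50, 45]),
        ([34, 4, 17, 70, 11, 63], [69, 50, 45]),
        ([70, 52, 5, 56, 10, 47], [62, 53, 45]),
        ([39, 12, 30, 60, 3, 71], [69, 53, 45]),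
        ([68, 55, 8, 56, 7, 47], [62, 50, 45, 40]),
        ([34, 14, 35, 60, 1, 71], [69, 50, 45, 40]),
        ([70, 38, 0, 61, 15, 29], [62, 53, 45, 40]),
        ([39, 4, 17, 68, 11, 66], [69, 53, 45, 40])] },
    { a := 5, b := 1, Tin := [[0, 44, 51], [27, 0, 46], [20, 25, 0]], kin := 1, Tperp := [[0, 68, 54], [3, 0, 14], [17, 57, 0]], kperp := 2,
      stab :=
      [([56, 46, 42, 39, 37, 36], []),
        ([59, 51, 31, 39, 28, 45], [44]),
        ([56, 25, 42, 47, 37, 36], [46]),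
        ([62, 27, 23, 53, 21, 52], [51]),
        ([62, 44, 23, 47, 21, 52], [46, 44]),
        ([59, 20, 31, 53, 28, 45], [51, 44])] },
    { a := 6, b := 1, Tin := [[0, 68, 54], [3, 0, 14], [17, 57, 0]], kin := 2, Tperp := [[0, 44, 51], [27, 0, 46], [20, 25, 0]], kperp := 1,
      stab :=
      [([56, 46, 42, 39, 37, 36], []),
        ([56, 46, 42, 41, 35, 34], [38]),
        ([65, 46, 42, 19, 55, 18], [54]),
        ([29, 46, 15, 58, 37, 36], [57]),
        ([18, 46, 67, 9, 37, 65], [64]),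
        ([16, 46, 69, 39, 6, 36], [66]),
        ([56, 46, 6, 39, 69, 4], [68]),
        ([65, 46, 42, 21, 53, 16], [54, 38]),
        ([29, 46, 15, 60, 35, 34], [57, 38]),
        ([18, 46, 67, 41, 6, 34], [64, 38]),
        ([16, 46, 69, 9, 35, 65], [66, 38]),
        ([56, 46, 6, 41, 67, 2], [68, 38]),
        ([65, 46, 15, 19, 69, 4], [57, 54]),
        ([36, 46, 67, 0, 55, 56], [64, 54]),
        ([34, 46, 69, 19, 15, 18], [66, 54]),
        ([29, 46, 6, 58, 55, 18], [68, 54]),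
        ([4, 46, 53, 23, 37, 65], [64, 57]),
        ([2, 46, 55, 58, 6, 36], [66, 57]),
        ([18, 46, 35, 9, 69, 29], [68, 64]),
        ([16, 46, 37, 39, 42, 4], [68, 66]),
        ([65, 46, 15, 21, 67, 2], [57, 54, 38]),
        ([36, 46, 67, 21, 15, 16], [64, 54, 38]),
        ([34, 46, 69, 0, 53, 56], [66, 54, 38]),
        ([29, 46, 6, 60, 53, 16], [68, 54, 38]),
        ([4, 46, 53, 60, 6, 34], [64, 57, 38]),
        ([2, 46, 55, 23, 35, 65], [66, 57, 38]),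
        ([18, 46, 35, 41, 42, 2], [68, 64, 38]),
        ([16, 46, 37, 9, 67, 29], [68, 66, 38]),
        ([36, 46, 53, 0, 69, 29], [64, 57, 54]),
        ([34, 46, 55, 19, 42, 4], [66, 57, 54]),
        ([4, 46, 35, 23, 55, 56], [68, 64, 54]),
        ([2, 46, 37, 58, 15, 18], [68, 66, 54]),
        ([36, 46, 53, 21, 42, 2], [64, 57, 54, 38]),
        ([34, 46, 55, 0, 67, 29], [66, 57, 54, 38]),
        ([4, 46, 35, 60, 15, 16], [68, 64, 54, 38]),
        ([2, 46, 37, 23, 53, 56], [68, 66, 54, 38])] }]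

/-- Certificates that no fixed torus has elements of order 49. -/
def expCerts : List (Matrix (Fin 6) (Fin 6) ℤ) :=
  [!![35, 0, 0, 0, 0, 0; 0, 35, 0, 0, 0, 0; 0, 0, 35, 0, 0, 0; 0, 0, 0, 35, 0, 0; 0, 0, 0, 0, 35, 0; 0, 0, 0, 0, 0, 35],
    !![42, 35, 42, 14, 28, 7; 14, 28, 7, 28, 7, 14; 7, 7, 7, 42, 35, 21; 14, 21, 7, 28, 7, 14; 21, 7, 35, 42, 7, 7; 7, 35, 28, 14, 42, 42],
    !![7, 0, 0, 0, 0, 0; 0, 35, 0, 0, 0, 0; 14, 0, 35, 0, 0, 0; 0, 0, 0, 35, 0, 0; 0, 0, 0, 0, 35, 0; 0, 0, 0, 0, 0, 35],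
    !![7, 0, 0, 0, 0, 0; 0, 7, 0, 0, 0, 0; 14, 0, 35, 0, 0, 0; 0, 14, 0, 35, 0, 0; 0, 0, 0, 0, 35, 0; 0, 0, 0, 0, 0, 35],
    !![35, 0, 14, 0, 0, 0; 0, 35, 0, 0, 0, 0; 35, 0, 21, 0, 0, 0; 42, 0, 21, 35, 0, 0; 0, 0, 0, 0, 35, 0; 0, 0, 0, 0, 0, 35],
    !![35, 0, 14, 0, 0, 0; 0, 7, 0, 0, 0, 0; 35, 0, 21, 0, 0, 0; 42, 14, 21, 35, 0, 0; 0, 0, 0, 0, 35, 0; 0, 0, 0, 0, 0, 35],
    !![7, 0, 0, 0, 0, 0; 0, 7, 0, 0, 0, 0; 14, 0, 35, 0, 0, 0; 0, 14, 0, 35, 14, 0; 0, 0, 0, 0, 7, 0; 0, 0, 0, 0, 14, 35],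
    !![14, 0, 28, 21, 0, 0; 21, 35, 35, 28, 0, 0; 28, 0, 42, 7, 0, 0; 42, 0, 21, 35, 0, 0; 21, 0, 35, 28, 35, 0; 0, 0, 0, 0, 0, 35],
    !![21, 28, 7, 14, 0, 0; 42, 21, 21, 7, 0, 0; 14, 42, 35, 21, 0, 0; 28, 42, 14, 0, 0, 0; 14, 21, 7, 35, 35, 0; 0, 0, 0, 0, 0, 35],
    !![35, 0, 14, 0, 0, 0; 0, 7, 0, 0, 0, 0; 35, 0, 21, 0, 0, 0; 42, 14, 21, 35, 14, 0; 0, 0, 0, 0, 7, 0; 0, 0, 0, 0, 14, 35],
    !![7, 0, 0, 0, 0, 0; 0, 14, 0, 28, 21, 0; 14, 35, 35, 42, 7, 0; 0, 28, 0, 42, 7, 0; 0, 42, 0, 21, 35, 0; 0, 21, 0, 35, 28, 35],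
    !![35, 0, 14, 0, 0, 0; 0, 35, 0, 0, 0, 0; 35, 0, 21, 0, 0, 0; 42, 0, 21, 35, 21, 28; 0, 0, 0, 0, 35, 14; 0, 0, 0, 0, 35, 21],
    !![35, 45, 10, 47, 2, 0; 0, 19, 12, 6, 43, 0; 0, 12, 19, 6, 43, 0; 0, 6, 6, 31, 18, 0; 0, 37, 37, 43, 13, 0; 0, 8, 8, 4, 10, 35],
    !![0, 21, 21, 35, 14, 0; 7, 42, 28, 42, 7, 0; 7, 7, 7, 28, 21, 0; 28, 42, 14, 0, 0, 0; 42, 14, 21, 7, 0, 0; 21, 7, 35, 28, 35, 35],
    !![21, 28, 7, 14, 0, 0; 42, 21, 21, 7, 0, 0; 14, 42, 35, 21, 0, 0; 28, 42, 14, 0, 0, 0; 14, 21, 7, 35, 35, 14; 0, 0, 0, 0, 0, 7],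
    !![35, 0, 14, 0, 0, 0; 0, 7, 0, 0, 0, 0; 35, 0, 21, 0, 0, 0; 42, 14, 21, 35, 21, 28; 0, 0, 0, 0, 35, 14; 0, 0, 0, 0, 35, 21],
    !![13, 0, 3, 8, 30, 19; 22, 35, 11, 41, 19, 30; 30, 0, 43, 33, 38, 11; 38, 0, 19, 32, 22, 27; 22, 0, 11, 41, 5, 44; 5, 0, 27, 16, 46, 10],
    !![35, 7, 42, 14, 7, 0; 0, 42, 0, 0, 28, 0; 0, 28, 21, 7, 28, 0; 0, 0, 21, 14, 21, 0; 0, 21, 0, 0, 42, 0; 0, 35, 35, 42, 42, 35],
    !![12, 22, 27, 44, 22, 0; 0, 42, 0, 0, 28, 0; 32, 5, 44, 10, 5, 0; 44, 48, 22, 12, 20, 0; 0, 21, 0, 0, 42, 0; 36, 3, 18, 27, 10, 35],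
    !![0, 21, 21, 35, 35, 14; 7, 14, 28, 42, 0, 0; 7, 7, 7, 28, 28, 21; 42, 7, 21, 35, 14, 35; 35, 28, 42, 14, 0, 0; 42, 28, 21, 7, 28, 28],
    !![15, 41, 17, 34, 40, 3; 28, 30, 6, 41, 13, 35; 10, 21, 4, 20, 24, 2; 47, 35, 9, 38, 5, 8; 6, 8, 18, 15, 30, 32; 4, 28, 31, 29, 39, 33],
    !![35, 14, 28, 28, 14, 0; 0, 7, 0, 0, 0, 0; 0, 0, 7, 0, 0, 0; 0, 0, 0, 7, 0, 0; 0, 0, 0, 0, 7, 0; 0, 14, 14, 28, 28, 35],
    !![21, 28, 7, 7, 28, 0; 0, 7, 0, 0, 0, 0; 21, 28, 14, 7, 28, 0; 0, 0, 0, 7, 0, 0; 0, 0, 0, 0, 7, 0; 35, 28, 42, 7, 42, 35],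
    !![18, 48, 30, 47, 16, 33; 0, 7, 0, 0, 0, 0; 18, 48, 37, 47, 16, 33; 0, 0, 0, 7, 0, 0; 15, 47, 32, 45, 18, 31; 17, 1, 33, 2, 19, 37],
    !![35, 14, 14, 14, 14, 14; 0, 35, 14, 14, 14, 0; 0, 0, 35, 14, 0, 0; 0, 0, 35, 21, 0, 0; 0, 35, 0, 35, 21, 0; 35, 0, 35, 35, 35, 21]]

/-- The exponents of a line. -/
def Line7.e (l : Line7) : Fin 6 → ℤ := fun i => (l.a : ℤ) * e7a i + (l.b : ℤ) * e7b i

/-- The word of the reflection in a root. -/
def reflWord (r : ℕ) : List ℕ :=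
  match rootWords.find? fun x => Nat.beq x.1 r with
  | some x => x.2.1 ++ [x.2.2] ++ x.2.1.reverse
  | none => []

/-- The roots killed by a line. -/
def Line7.inPhi (l : Line7) (s : ℕ) : Bool := decide (s < 72) && ev l.e s % 7 == 0

/-- The stabiliser of a line is generated by reflections in killed roots. -/
def Line7.stabCheck (l : Line7) : Bool :=
  (stabList [l.e] 7).all fun t => l.stab.any fun x => x.1 == t &&
    x.2.all (fun r => l.inPhi r && rootWords.any fun w => Nat.beq w.1 r) &&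
    (List.range 6).map (fun i => certFullE6.T.wlT (x.2.flatMap reflWord) (si i)) == t

/-- The component inside, moved by the Sylow subgroup, and the orthogonal one, moved by the line. -/
def Line7.tabCheck (l : Line7) : Bool :=
  compCheck R7 3 l.kin false l.Tin && compCheck R7 3 l.kperp false l.Tperp &&
  (l.kin == 1 || l.kin == 2) && (l.kperp == 1 || l.kperp == 2) &&
  (orbitRoots R7 3 l.kin l.Tin).all l.inPhi &&
  (ev e7a (tabR l.Tin (0 : Fin 3) 1) % 7 != 0 || ev e7b (tabR l.Tin (0 : Fin 3) 1) % 7 != 0) &&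
  ev l.e (tabR l.Tperp (0 : Fin 3) 1) % 7 != 0 &&
  (orbitRoots R7 3 l.kperp l.Tperp).all fun t => decide (t < 72) &&
    (List.range 72).all fun s => !(l.inPhi s) || E6Sub.nilAt s t

theorem rootWords_ok : rootWords.all (fun x => x.2.1.all (fun p => decide (p < 6)) &&
    decide (x.2.2 < 6) && Nat.beq (certFullE6.T.wlT x.2.1 (si x.2.2)) x.1) = true := by
  decide +kernel

theorem lines7_stab : lines7.all Line7.stabCheck = true := by decide +kernel

theorem lines7_tab : lines7.all Line7.tabCheck = true := by decide +kernel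

theorem lines7_cover : ((List.range 7).all fun i => (List.range 7).all fun j =>
    (i == 0 && j == 0) || lines7.any fun l => (List.range 7).any fun m =>
      i * m % 7 == l.a && j * m % 7 == l.b) = true := by decide +kernel

theorem expCerts_ok : (Nat.beq expCerts.length classesE6.reps.length &&
    (List.zip classesE6.reps expCerts).all fun x => (List.finRange 6).all fun i =>
      (List.finRange 6).all fun j =>
        ((x.2 * Amat x.1) i j - (if i = j then 7 else 0)) % 49 == 0) = true := by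
  decide +kernel

end Cfsg.Agent.Fus.TwE6Two
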