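import Cfsg.Agent.Lib.Lie.Chev.WeylClass

/-! With a certified class table, every word of a Weyl group is conjugate to a representative. -/

set_option autoImplicit false

namespace Cfsg.Agent.Lie.Chev.CertFull

open Cfsg.Lie Matrix

variable {D : ChevalleyDatum} (c : CertFull D)
include c

theorem exists_rep_of_check {K : ClassData} (hK : K.check c.T = true) {W : List ℕ}
    (hW : ∀ p ∈ W, p < D.rank) : ∃ i < K.reps.length, ∃ u : List ℕ, (∀ p ∈ u, p < D.rank) ∧
      (∀ p ∈ K.reps.getD i [], p < D.rank) ∧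
      c.wmat W = c.wmat u.reverse * c.wmat (K.reps.getD i []) * c.wmat u := by
  simp only [ClassData.check, Bool.and_eq_true, Nat.blt_eq, Nat.beq_eq, List.all_eq_true,
    List.mem_range, Bool.or_eq_true, Bool.not_eq_true', Nat.ble_eq] at hK
  obtain ⟨⟨⟨⟨⟨⟨hlen, h0⟩, hreps⟩, hrw⟩, hsimple⟩, htab⟩, -⟩ := hK
  have hrep : ∀ i, ∀ p ∈ K.reps.getD i [], p < D.rank := fun i => by
    rcases Nat.lt_or_ge i K.reps.length with h | h
    · rw [List.getD_eq_getElem _ _ h]
      exact c.okWord_iff.1 (hreps _ (List.getElem_mem h))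
    · rw [List.getD_eq_default _ _ h]; simp
  obtain ⟨R, hR⟩ : ∃ R : ℕ → List ℕ,
      R = fun b => K.rw.getD (ClassData.posIdx c.T b) [] := ⟨_, rfl⟩
  have hRlt : ∀ b < D.nroots, ∀ p ∈ R b, p < D.rank := fun b hb => by
    rw [hR]; exact c.okWord_iff.1 (hrw b (c.nroots_eq ▸ hb)).1
  have hrev : ∀ {u : List ℕ}, (∀ p ∈ u, p < D.rank) → ∀ p ∈ u.reverse, p < D.rank :=
    fun hu p hp => hu p (List.mem_reverse.1 hp)
  have happ : ∀ {u v : List ℕ}, (∀ p ∈ u, p < D.rank) → (∀ p ∈ v, p < D.rank) →
      ∀ p ∈ u ++ v, p < D.rank := fun hu hv p hp => (List.mem_append.1 hp).elim (hu p) (hv p)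
  have hone : c.wmat ([] : List ℕ) = 1 := c.wmat_of_fix fun i _ => rfl
  have hconj : ∀ u : List ℕ, (∀ p ∈ u, p < D.rank) → ∀ b < D.nroots,
      c.wmat u.reverse * c.wmat (R b) * c.wmat u = c.wmat (R (c.wl u b)) := by
    intro u
    induction u with
    | nil => intro _ b hb; simp [hone]
    | cons p u ih =>
      intro hu b hb
      have hp : p < D.rank := hu p (by simp)
      have hu' : ∀ x ∈ u, x < D.rank := fun x hx => hu x (by simp [hx])
      have hp1 : ∀ x ∈ [p], x < D.rank := by simpa using hp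
      have hb' := c.wl_lt hu' hb
      rw [List.reverse_cons, c.wmat_append (hrev hu') hp1,
        show p :: u = [p] ++ u from rfl, c.wmat_append hp1 hu', c.wl_append, Cert.wl_cons,
        Cert.wl_nil, show c.wmat [p] * c.wmat u.reverse * c.wmat (R b) * (c.wmat u * c.wmat [p]) =
          c.wmat [p] * (c.wmat u.reverse * c.wmat (R b) * c.wmat u) * c.wmat [p] by
        simp only [Matrix.mul_assoc], ih hu' b hb,
        ← c.wmat_append (hRlt _ hb') hp1, ← c.wmat_append hp1 (happ (hRlt _ hb') hp1)]
      have h := c.wmat_sameWord ((hrw _ (c.nroots_eq ▸ hb')).2 p (c.rank_eq ▸ hp))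
      rw [hR]
      simpa [Cert.w, List.cons_append] using h
  -- every word is conjugate to a representative
  have key : ∀ L : List ℕ, (∀ p ∈ L, p < D.rank) → ∃ i < K.reps.length, ∃ u : List ℕ,
      (∀ p ∈ u, p < D.rank) ∧
      c.wmat L = c.wmat u.reverse * c.wmat (K.reps.getD i []) * c.wmat u := by
    intro L
    induction L using List.reverseRecOn with
    | nil =>
      intro _
      refine ⟨0, by omega, [], by simp, ?_⟩
      rw [List.getD_eq_getElem _ _ (show 0 < K.reps.length by omega)] at h0 ⊢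
      rw [List.eq_nil_of_length_eq_zero h0]
      simp [hone]
    | append_singleton L p ih =>
      intro hLp
      have hp : p < D.rank := hLp p (by simp)
      have hp1 : ∀ x ∈ [p], x < D.rank := by simpa using hp
      have hL : ∀ x ∈ L, x < D.rank := fun x hx => hLp x (by simp [hx])
      obtain ⟨i, hi, u, hu, he⟩ := ih hL
      obtain ⟨b, hb⟩ : ∃ b, b = c.wl u.reverse (D.simple p) := ⟨_, rfl⟩
      have hblt : b < D.nroots := hb ▸ c.wl_lt (hrev hu) (c.simple_lt hp)
      have h1 : c.wmat [p] = c.wmat u.reverse * c.wmat (R b) * c.wmat u := by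
        rw [hconj u hu b hblt, hb, c.wl_reverse hu (c.simple_lt hp), hR, c.simple_eq hp,
          c.wmat_sameWord (hsimple p (c.rank_eq ▸ hp))]
      -- the positive root of the pair
      obtain ⟨b', hb', hb'h, hRb⟩ : ∃ b' < c.T.n, c.T.h ≤ b' ∧
          R b = K.rw.getD (b' - c.T.h) [] := by
        by_cases hbh : c.T.h ≤ b
        · exact ⟨b, c.nroots_eq ▸ hblt, hbh, by
            simp only [hR, ClassData.posIdx]
            rw [show Nat.ble c.T.h b = true from Nat.ble_eq_true_of_le hbh, cond_true]⟩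
        · refine ⟨c.T.neg b, c.nroots_eq ▸ (c.neg_eq hblt ▸ c.neg_lt hblt), ?_, by
            simp only [hR, ClassData.posIdx]
            rw [show Nat.ble c.T.h b = false from
              Bool.eq_false_iff.2 fun e => hbh (Nat.le_of_ble_eq_true e), cond_false]⟩
          rw [← c.neg_eq hblt]
          exact ((c.not_pos_iff hblt).1 fun h => hbh h.1).1
      obtain ⟨⟨hj, hv⟩, hsame⟩ := (htab i hi b' hb').resolve_left (by omega)
      rw [c.okWord_iff] at hv
      have h2 := c.wmat_sameWord hsame
      rw [c.wmat_append (hrep i) (hRb ▸ hRlt b hblt), c.wmat_append (happ hv (hrep _)) (hrev hv),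
        c.wmat_append hv (hrep _), ← hRb] at h2
      refine ⟨_, hj, u ++ ((K.tab.getD i []).getD (b' - c.T.h) (0, [])).2, happ hu hv, ?_⟩
      rw [c.wmat_append hL hp1, he, h1, List.reverse_append, c.wmat_append (hrev hv) (hrev hu),
        c.wmat_append hu hv]
      calc c.wmat u.reverse * c.wmat (R b) * c.wmat u *
            (c.wmat u.reverse * c.wmat (K.reps.getD i []) * c.wmat u)
          = c.wmat u.reverse * c.wmat (R b) * (c.wmat u * c.wmat u.reverse) *
              c.wmat (K.reps.getD i []) * c.wmat u := by simp only [Matrix.mul_assoc]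
        _ = c.wmat u.reverse * (c.wmat (R b) * c.wmat (K.reps.getD i [])) * c.wmat u := by
            rw [c.wmat_reverse' hu, Matrix.mul_one]; simp only [Matrix.mul_assoc]
        _ = _ := by rw [h2]; simp only [Matrix.mul_assoc]
  obtain ⟨i, hi, u, hu, h⟩ := key W hW
  exact ⟨i, hi, u, hu, hrep i, h⟩

end Cfsg.Agent.Lie.Chev.CertFull
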