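import Cfsg.Agent.Lib.Fus.TwE6Two.Basic
import Cfsg.Agent.Lib.Fus.TwE6Two.WeylRep
import Cfsg.Agent.Lib.Lie.Chev.TorusConj
import Cfsg.Agent.Lib.Lie.Chev.WeylClassE6

/-! Parameters of torus elements of E₆ in multiplicative notation: integer certificates for the
kernels of twisting matrices, stabilisers in the Weyl group, centralisers. -/

set_option autoImplicit false
set_option maxRecDepth 20000

namespace Cfsg.Agent.Fus.TwE6Two

open Cfsg.Lie Cfsg.Agent.Lie.Chev Matrix

/-- The fundamental root. -/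
def si (i : ℕ) : ℕ := certFullE6.T.simple i

/-- The matrix of a word, from the tables. -/
def W6 (R : List ℕ) : Matrix (Fin 6) (Fin 6) ℤ :=
  Matrix.of fun i j => certFullE6.T.vec (certFullE6.T.wlT R (si i)) j

/-- A linear function on roots, from its values at the fundamental roots. -/
def ev (v : Fin 6 → ℤ) (s : ℕ) : ℤ := ∑ j : Fin 6, certFullE6.T.vec s j * v j

theorem si_eq {i : ℕ} (hi : i < 6) : si i = chevE6.simple i := (certFullE6.simple_eq hi).symm

theorem si_lt {i : ℕ} (hi : i < 6) : si i < chevE6.nroots := by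
  rw [si_eq hi]; exact certFullE6.simple_lt hi

theorem W6_eq (R : List ℕ) : W6 R = certFullE6.wmat R := by
  refine Matrix.ext fun i j => ?_
  simp only [W6, si, CertFull.wmat, Matrix.of_apply, certFullE6.wlT_eq]
  rw [← certFullE6.simple_eq i.2]
  rfl

theorem lt_six {R : List ℕ} (h : R.all (fun p => decide (p < 6)) = true) :
    ∀ p ∈ R, p < chevE6.rank := fun p hp => of_decide_eq_true (List.all_eq_true.1 h p hp)

theorem W6_append {A B : List ℕ} (hA : ∀ p ∈ A, p < chevE6.rank)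
    (hB : ∀ p ∈ B, p < chevE6.rank) : W6 (A ++ B) = W6 B * W6 A := by
  rw [W6_eq, W6_eq, W6_eq]
  exact certFullE6.wmat_append hA hB

theorem W6_nil : W6 [] = 1 := by
  rw [W6_eq]
  exact certFullE6.wmat_of_fix fun i _ => rfl

variable {G : Type*} [CommGroup G]

/-- Exponentials of a vector. -/
def expv (η : G) (v : Fin 6 → ℤ) : Fin 6 → G := fun i => η ^ v i

theorem mpow_transpose (A : Matrix (Fin 6) (Fin 6) ℤ) (X : Fin 6 → G) (k : Fin 6) :
    mpow Aᵀ X k = ∏ j, X j ^ A k j := rfl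

/-- With a certificate, the kernel of a matrix is spanned by two vectors. -/
theorem ker_cert {m : ℕ} {A B : Matrix (Fin 6) (Fin 6) ℤ} {v₁ r₁ v₂ r₂ : Fin 6 → ℤ}
    (hc : ∀ i j, (m : ℤ) ∣
      (if i = j then 1 else 0) - v₁ i * r₁ j - v₂ i * r₂ j - ∑ k, B i k * A k j)
    {X : Fin 6 → G} (hA : mpow Aᵀ X = 1) (hm : ∀ i, X i ^ m = 1) :
    X = expv (∏ j, X j ^ r₁ j) v₁ * expv (∏ j, X j ^ r₂ j) v₂ := by
  funext i
  have e : ∀ j, X j ^ (if i = j then (1 : ℤ) else 0) = (X j ^ r₁ j) ^ v₁ i *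
      (X j ^ r₂ j) ^ v₂ i * ∏ k, (X j ^ A k j) ^ B i k := by
    intro j
    obtain ⟨d, hd⟩ := hc i j
    simp only [← _root_.zpow_mul, zpow_sum_eq, ← _root_.zpow_add]
    have h1 : X j ^ ((m : ℤ) * d) = 1 := by
      rw [_root_.zpow_mul, zpow_natCast, hm, _root_.one_zpow]
    rw [eq_comm, ← mul_one (X j ^ _), ← h1, ← _root_.zpow_add]
    congr 1
    rw [← hd, show (∑ k, A k j * B i k) = ∑ k, B i k * A k j from
      Finset.sum_congr rfl fun k _ => mul_comm _ _]
    ring
  calc X i = ∏ j, X j ^ (if i = j then (1 : ℤ) else 0) := by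
        rw [Finset.prod_eq_single i (fun b _ hb => by rw [if_neg (Ne.symm hb), zpow_zero])
          (fun h => absurd (Finset.mem_univ i) h), if_pos rfl, _root_.zpow_one]
    _ = _ := by
        simp only [e, Finset.prod_mul_distrib]
        rw [Finset.prod_comm]
        simp only [Finset.prod_zpow, ← mpow_transpose, hA, Pi.one_apply, _root_.one_zpow,
          Finset.prod_const_one, mul_one, Pi.mul_apply, expv]

theorem exists_mpow {A P : Matrix (Fin 6) (Fin 6) ℤ} {d : ℕ} (h : P * A = ((d : ℕ) : ℤ) • 1)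
    (hroot : ∀ y : G, ∃ w : G, w ^ d = y) (Y : Fin 6 → G) : ∃ X, mpow A X = Y := by
  choose w hw using fun i => hroot (Y i)
  exact ⟨mpow P w, by rw [← mpow_mul, h, CertFull.mpow_smul_one]; funext i; exact hw i⟩

section Chi

variable {Ω : Type*} [Field Ω]

/-- The values at the fundamental roots. -/
def Chi (z : ℕ → Ωˣ) : Fin 6 → Ωˣ := fun i => certFullE6.tchar z (si i)

theorem Chi_eq (z : ℕ → Ωˣ) : Chi z = certFullE6.chi z := by
  funext i
  show certFullE6.tchar z (certFullE6.T.simple i) = certFullE6.tchar z (chevE6.simple i)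
  rw [certFullE6.simple_eq i.2]

theorem tchar_eq (z : ℕ → Ωˣ) {s : ℕ} (hs : s < 72) :
    certFullE6.tchar z s = ∏ j : Fin 6, Chi z j ^ certFullE6.T.vec s j := by
  rw [Chi_eq]
  exact certFullE6.tchar_eq_chi z hs

theorem tchar_ev (z : ℕ → Ωˣ) {η₁ η₂ : Ωˣ} {v₁ v₂ : Fin 6 → ℤ}
    (h : Chi z = expv η₁ v₁ * expv η₂ v₂) {s : ℕ} (hs : s < 72) :
    certFullE6.tchar z s = η₁ ^ ev v₁ s * η₂ ^ ev v₂ s := by
  rw [tchar_eq z hs, h]
  simp only [Pi.mul_apply, expv, mul_zpow, Finset.prod_mul_distrib, ← _root_.zpow_mul, zpow_sum_eq,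
    ev, mul_comm]

theorem torus_eq {z z' : ℕ → Ωˣ} (h : Chi z = Chi z') : certFullE6.torus z = certFullE6.torus z' :=
  certFullE6.torus_eq_of_chi (by rw [← Chi_eq, h, Chi_eq])

theorem Chi_one : Chi (1 : ℕ → Ωˣ) = 1 := by rw [Chi_eq]; exact certFullE6.chi_one

theorem Chi_mul (z w : ℕ → Ωˣ) : Chi (z * w) = Chi z * Chi w := by
  rw [Chi_eq, Chi_eq, Chi_eq]; exact certFullE6.chi_mul z w

theorem mpow_W6 (z : ℕ → Ωˣ) {R : List ℕ} (hR : ∀ p ∈ R, p < chevE6.rank) :
    mpow (W6 R)ᵀ (Chi z) = fun i : Fin 6 => certFullE6.tchar z (certFullE6.wl R (si i)) := by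
  funext i
  rw [mpow_transpose]
  simp only [W6, Matrix.of_apply, certFullE6.wlT_eq]
  rw [← tchar_eq z (certFullE6.wl_lt hR (si_lt i.2))]

/-- The Cartan matrix. -/
def Cart : Matrix (Fin 6) (Fin 6) ℤ :=
  Matrix.of fun j i => certFullE6.T.cartan j (si i)

/-- Thrice its inverse. -/
def CartInv : Matrix (Fin 6) (Fin 6) ℤ :=
  !![4, 3, 5, 6, 4, 2; 3, 6, 6, 9, 6, 3; 5, 6, 10, 12, 8, 4; 6, 9, 12, 18, 12, 6;
    4, 6, 8, 12, 10, 5; 2, 3, 4, 6, 5, 4]

theorem CartInv_mul : CartInv * Cart = ((3 : ℕ) : ℤ) • 1 := by decide +kernel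

theorem exists_torus [IsAlgClosed Ω] (X : Fin 6 → Ωˣ) : ∃ z : ℕ → Ωˣ, Chi z = X := by
  obtain ⟨Y, hY⟩ := exists_mpow CartInv_mul (fun y => units_root (by norm_num) y) X
  refine ⟨fun j => if h : j < 6 then Y ⟨j, h⟩ else 1, ?_⟩
  rw [← hY]
  funext i
  show certFullE6.tchar _ (si i) = ∏ j : Fin 6, Y j ^ Cart j i
  rw [Cert.tchar, show chevE6.rank = 6 from rfl, Finset.prod_range]
  refine Finset.prod_congr rfl fun j _ => ?_
  rw [dif_pos j.2]
  rfl
where
  units_root {d : ℕ} (hd : 0 < d) (y : Ωˣ) : ∃ w : Ωˣ, w ^ d = y := by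
    obtain ⟨w, hw⟩ := IsAlgClosed.exists_pow_nat_eq (y : Ω) hd
    refine ⟨Units.mk0 w fun h => y.ne_zero ?_, Units.ext (by simpa using hw)⟩
    rw [← hw, h, zero_pow (by omega)]

theorem units_root [IsAlgClosed Ω] {d : ℕ} (hd : 0 < d) (y : Ωˣ) : ∃ w : Ωˣ, w ^ d = y :=
  exists_torus.units_root hd y

end Chi

/-- Invariant of the Weyl group on tuples of images of the fundamental roots. -/
def inv3 (t : List ℕ) : Bool :=
  (List.range 6).all fun j =>
    ((List.range 6).map fun i =>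
      ([1, 0, 2, 0, 1, 2] : List ℤ).getD i 0 * certFullE6.T.vec (t.getD i 0) j).sum % 3 ==
        ([1, 0, 2, 0, 1, 2] : List ℤ).getD j 0 % 3

/-- Possible images of a fundamental root. -/
def cands (vs : List (Fin 6 → ℤ)) (m : ℕ) (i : ℕ) : List ℕ :=
  (List.range 72).filter fun s => vs.all fun v => (ev v s - ev v (si i)) % (m : ℤ) == 0

/-- Possible images of the first fundamental roots. -/
def ext (vs : List (Fin 6 → ℤ)) (m : ℕ) : ℕ → List (List ℕ)
  | 0 => [[]]
  | i + 1 => (ext vs m i).flatMap fun t =>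
      ((cands vs m i).filter fun s => (List.range i).all fun j =>
        intBeq (certFullE6.T.pairing (t.getD j 0) s) (certFullE6.T.pairing (si j) (si i))).map
          fun s => t ++ [s]

/-- Candidates for stabiliser elements. -/
def stabList (vs : List (Fin 6 → ℤ)) (m : ℕ) : List (List ℕ) := (ext vs m 6).filter inv3

theorem inv3_gen : ((List.range 6).all fun p => inv3 ((List.range 6).map fun i =>
    certFullE6.T.refl p (si i))) = true := by decide +kernel

theorem inv3_iff (t : List ℕ) : inv3 t = true ↔ ∀ j : Fin 6, ((∑ i : Fin 6,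
    (![1, 0, 2, 0, 1, 2] : Fin 6 → ℤ) i * certFullE6.T.vec (t.getD i 0) j : ℤ) : ZMod 3) =
      ((![1, 0, 2, 0, 1, 2] : Fin 6 → ℤ) j : ZMod 3) := by
  simp only [inv3, List.all_eq_true, List.mem_range, beq_iff_eq]
  have hl : ∀ i : Fin 6, ([1, 0, 2, 0, 1, 2] : List ℤ).getD i 0 =
      (![1, 0, 2, 0, 1, 2] : Fin 6 → ℤ) i := by decide
  have hs : ∀ j : ℕ, ((List.range 6).map fun i =>
      ([1, 0, 2, 0, 1, 2] : List ℤ).getD i 0 * certFullE6.T.vec (t.getD i 0) j).sum =
      ∑ i : Fin 6, ([1, 0, 2, 0, 1, 2] : List ℤ).getD i 0 * certFullE6.T.vec (t.getD i 0) j :=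
    fun j => by simp [List.range_succ, Fin.sum_univ_six, add_assoc]
  refine ⟨fun h j => ?_, fun h j hj => ?_⟩
  · have := h j j.2
    rw [hs, hl] at this
    rw [ZMod.intCast_eq_intCast_iff']
    simp only [← hl] at this ⊢
    exact_mod_cast this
  · have := h ⟨j, hj⟩
    rw [ZMod.intCast_eq_intCast_iff'] at this
    rw [hs, show ([1, 0, 2, 0, 1, 2] : List ℤ).getD j 0 = _ from hl ⟨j, hj⟩]
    simp only [← hl] at this ⊢
    exact_mod_cast this

theorem inv3_wl {L : List ℕ} (hL : ∀ p ∈ L, p < chevE6.rank) :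
    inv3 ((List.range 6).map fun i => certFullE6.wl L (si i)) = true := by
  let cv : Fin 6 → ZMod 3 := fun i => ((![1, 0, 2, 0, 1, 2] : Fin 6 → ℤ) i : ZMod 3)
  let MM : List ℕ → Matrix (Fin 6) (Fin 6) (ZMod 3) := fun L =>
    (Int.castRingHom (ZMod 3)).mapMatrix (W6 L)
  have hget : ∀ (M : List ℕ) (i : Fin 6),
      ((List.range 6).map fun k => certFullE6.wl M (si k)).getD i 0 =
        certFullE6.wl M (si i) := fun M i => by
    rw [List.getD_eq_getElem _ _ (by simp), List.getElem_map, List.getElem_range]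
  have key : ∀ M : List ℕ, (inv3 ((List.range 6).map fun i => certFullE6.wl M (si i)) = true ↔
      cv ᵥ* MM M = cv) := fun M => by
    rw [inv3_iff, funext_iff]
    refine forall_congr' fun j => ?_
    rw [Int.cast_sum]
    simp only [hget, Int.cast_mul, Matrix.vecMul, dotProduct, MM, cv, RingHom.mapMatrix_apply,
      Matrix.map_apply, Int.coe_castRingHom]
    refine Eq.congr_left (Finset.sum_congr rfl fun i _ => ?_)
    simp [W6, certFullE6.wlT_eq]
  rw [key]
  induction L with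
  | nil =>
    show cv ᵥ* MM [] = cv
    simp only [MM, W6_nil]
    rw [map_one, Matrix.vecMul_one]
  | cons p L ih =>
    have hL' : ∀ q ∈ L, q < chevE6.rank := fun q hq => hL q (by simp [hq])
    have hp : ∀ q ∈ [p], q < chevE6.rank := by simpa using hL p (by simp)
    have h1 : cv ᵥ* MM [p] = cv := by
      rw [← key]
      have h := List.all_eq_true.1 inv3_gen p (List.mem_range.2 (hL p (by simp)))
      refine Eq.trans (congrArg inv3 (List.map_congr_left fun i _ => ?_)) h
      exact (certFullE6.wlT_eq [p] (si i)).symm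
    simp only [MM] at ih h1 ⊢
    rw [show p :: L = [p] ++ L from rfl, W6_append hp hL', map_mul, ← Matrix.vecMul_vecMul, ih hL',
      h1]

theorem mem_ext {vs : List (Fin 6 → ℤ)} {m : ℕ} {L : List ℕ} (hL : ∀ p ∈ L, p < chevE6.rank)
    (h : ∀ v ∈ vs, ∀ i < 6, (m : ℤ) ∣ ev v (certFullE6.wl L (si i)) - ev v (si i)) :
    ∀ i ≤ 6, ((List.range i).map fun j => certFullE6.wl L (si j)) ∈ ext vs m i := by
  have hsi : ∀ {k : ℕ}, k < 6 → si k < chevE6.nroots := fun hk => si_lt hk
  intro i hi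
  induction i with
  | zero => simp [ext]
  | succ i ih =>
    simp only [ext, List.mem_flatMap, List.mem_map, List.mem_filter, cands, List.mem_range,
      List.all_eq_true, beq_iff_eq]
    refine ⟨_, ih (by omega), certFullE6.wl L (si i),
      ⟨⟨certFullE6.wl_lt hL (hsi (by omega)),
        fun v hv => Int.emod_eq_zero_of_dvd (h v hv i (by omega))⟩, fun j hj => ?_⟩, ?_⟩
    · rw [List.getD_eq_getElem _ _ (by simpa using hj), List.getElem_map, List.getElem_range,
        certFullE6.pairing_wl hL (hsi (by omega)) (hsi (by omega))]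
      exact intBeq_self _
    · rw [List.range_succ, List.map_append, List.map_singleton]
where
  intBeq_self : ∀ a : ℤ, intBeq a a = true
    | Int.ofNat _ => by simp [intBeq]
    | Int.negSucc _ => by simp [intBeq]

theorem mem_stabList {vs : List (Fin 6 → ℤ)} {m : ℕ} {L : List ℕ}
    (hL : ∀ p ∈ L, p < chevE6.rank)
    (h : ∀ v ∈ vs, ∀ i < 6, (m : ℤ) ∣ ev v (certFullE6.wl L (si i)) - ev v (si i)) :
    ((List.range 6).map fun i => certFullE6.wl L (si i)) ∈ stabList vs m :=
  List.mem_filter.2 ⟨mem_ext hL h 6 le_rfl, inv3_wl hL⟩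

section Centralizer

variable {Ω : Type*} [Field Ω]

/-- The centraliser of torus elements, from the roots and Weyl elements fixing them. -/
theorem commute_mem {Z : Set (ℕ → Ωˣ)} {X : Subgroup (GL chevE6.Idx Ω)}
    (hH : chevE6.diagonalSubgroup Ω ≤ X)
    (hroot : ∀ s < 72, (∀ z ∈ Z, certFullE6.tchar z s = 1) → ∀ t, certFullE6.xg s t ∈ X)
    (hW : ∀ L : List ℕ, (∀ p ∈ L, p < chevE6.rank) →
      (∀ z ∈ Z, ∀ s < 72, certFullE6.tchar z (certFullE6.wl L s) = certFullE6.tchar z s) →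
        certFullE6.nw Ω L ∈ X)
    {g : GL chevE6.Idx Ω} (hg : g ∈ chevE6.group Ω)
    (hcomm : ∀ z ∈ Z, g * certFullE6.torus z = certFullE6.torus z * g) : g ∈ X := by
  obtain ⟨b, hb, a, ha, L, hL, u, hu, rfl⟩ := certFullE6.bruhat_exists hg
  obtain ⟨v, hv, d, hd, rfl⟩ := certFullE6.mem_borel_iff.1 hb
  have hall := fun z hz => certFullE6.conj_factors hL hv hd ha hu (hcomm z hz)
  have hn : certFullE6.nw Ω L ∈ X := hW L hL fun z hz s hs =>
    certFullE6.tchar_of_nw_conj hL (hall z hz).1 hs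
  have hU : ∀ w ∈ chevE6.posUnipotent Ω,
      (∀ z ∈ Z, certFullE6.torus z * w * (certFullE6.torus z)⁻¹ = w) → w ∈ X := by
    intro w hw hfix
    rw [certFullE6.posUnipotent_eq] at hw
    obtain ⟨t, rfl⟩ := certFullE6.exists_oprod _ certFullE6.T.h rfl le_rfl w hw
    refine Subgroup.list_prod_mem _ fun x hx => ?_
    obtain ⟨r, hr, rfl⟩ := List.mem_map.1 hx
    rw [List.mem_range'_1] at hr
    have hr' : r < 72 := by
      have h72 : chevE6.nroots = 72 := rfl
      omega
    by_cases ht : t r = 0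
    · rw [ht, certFullE6.xg_zero]; exact one_mem _
    refine hroot r hr' (fun z hz => ?_) _
    have h := hfix z hz
    rw [certFullE6.torus_conj_oprod] at h
    have e := certFullE6.oprod_inj _ certFullE6.T.h rfl le_rfl _ _ h r hr.1
      (show r < chevE6.nroots from hr')
    exact Units.ext (mul_eq_right₀ ht |>.1 e)
  refine mul_mem (mul_mem (mul_mem (hU v hv fun z hz => (hall z hz).2.1) (hH hd))
    (mul_mem (hH ha) hn)) (hU u (certFullE6.KS_invSet_le_U hL hu) fun z hz => (hall z hz).2.2)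

theorem nw_mem_H_of_simple {L : List ℕ} (hL : ∀ p ∈ L, p < chevE6.rank)
    (h : ((List.range 6).map fun i => certFullE6.wl L (si i)) = (List.range 6).map si) :
    certFullE6.nw Ω L ∈ chevE6.diagonalSubgroup Ω := by
  refine certFullE6.nw_mem_H hL fun q hq => ?_
  have e := List.map_inj_left.1 h q (List.mem_range.2 hq)
  rw [si, ← certFullE6.simple_eq hq] at e
  rw [e]
  exact certFullE6.pos_simple hq

end Centralizer

end Cfsg.Agent.Fus.TwE6Two
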